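import Mathlib
import Cfsg.Prelude.Def_ChevStructure

/-!
# Involutions of Chevalley groups in characteristic two: definitions

Products of root elements `x_b(1)` and of the elements `n_b(1)` along a list of roots, and the
word of the product of the reflections in the roots `u(p_i)` for orbit data `(u, i)`.
-/

set_option autoImplicit false

namespace Cfsg.Agent.Lib.Helper25

open Cfsg Cfsg.Lie Matrix

/-- The product `x_{b_1}(1) ⋯ x_{b_k}(1)` of root elements with parameter `1`. -/
def xProd (F : Type*) [Field F] (D : ChevalleyDatum) (Bs : List ℕ) : Matrix D.Idx D.Idx F :=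
  (Bs.map fun b => D.x F b 1).prod

/-- The product `n_{b_1}(1) ⋯ n_{b_k}(1)`. -/
def nProd (F : Type*) [Field F] (D : ChevalleyDatum) (Bs : List ℕ) : Matrix D.Idx D.Idx F :=
  (Bs.map fun b => D.nMat F b 1).prod

/-- The word `u i u⁻¹` of the reflection in the root `u(p_i)`, concatenated over orbit data
`(u, i)`. -/
def reflWord (od : List (List ℕ × ℕ)) : List ℕ :=
  od.flatMap fun e => e.1 ++ [e.2] ++ e.1.reverse

end Cfsg.Agent.Lib.Helper25
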