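import Cfsg.Agent.Lib.Helper25.ChevLen
import Cfsg.Agent.Lib.Helper25.CoxChain

set_option autoImplicit false

namespace Cfsg.Agent.Lib.Helper25

open Cfsg.Lie Matrix
open Cfsg.Agent.Lib.Helper24

/-! ### The Poincaré polynomial of a Weyl group along the chain of parabolic subgroups -/

/-- All products of coset representatives along the chain of levels. -/
def allWords : List LevelData → List (List ℕ)
  | [] => [[]]
  | L :: rest =>
    ((List.range L.n).map (wd L.words)).flatMap fun x => (allWords rest).map fun v => x ++ v

theorem length_flatMap_const {α β : Type*} (xs : List α) (f : α → List β) (c : ℕ)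
    (h : ∀ x ∈ xs, (f x).length = c) : (xs.flatMap f).length = xs.length * c := by
  induction xs with
  | nil => simp
  | cons x xs ih =>
    rw [List.flatMap_cons, List.length_append, h x (by simp),
      ih (fun y hy => h y (by simp [hy])), List.length_cons]
    ring

theorem allWords_length : ∀ levels : List LevelData,
    (allWords levels).length = (levels.map (·.n)).prod
  | [] => rfl
  | L :: rest => by
    have ih := allWords_length rest
    simp only [allWords, List.map_cons, List.prod_cons]
    rw [length_flatMap_const _ _ (allWords rest).length (fun x _ => by simp), ih]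
    simp

section Cover

variable {G : Type*} [Group G]

theorem allWords_cover (s : ℕ → G) (ML : List (List ℕ)) (cart : List (List ℤ)) (l : ℕ)
    (hsq : ∀ i < l, s i * s i = 1)
    (hrel : ∀ i j, i < l → j < l → (s i * s j) ^ (tbl ML i j) = 1) :
    ∀ (levels : List LevelData) (k : ℕ), k + levels.length ≤ l →
      chainOK ML cart l k levels = true →
      ∀ g ∈ Subgroup.closure (gens s (k + levels.length)),
        ∃ h ∈ Subgroup.closure (gens s k), ∃ v ∈ allWords levels, g = h * wprod s v := by
  intro levels
  induction levels with
  | nil =>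
    intro k _ _ g hg
    exact ⟨g, by simpa using hg, [], by simp [allWords], by simp [wprod_nil]⟩
  | cons L rest ih =>
    intro k hk hchain g hg
    simp only [chainOK, Bool.and_eq_true] at hchain
    obtain ⟨⟨hlev, _⟩, hrest⟩ := hchain
    simp only [List.length_cons] at hk hg
    have e : k + (rest.length + 1) = k + 1 + rest.length := by omega
    rw [e] at hg
    obtain ⟨h', hh', v', hv', rfl⟩ := ih (k + 1) (by omega) hrest g hg
    have hH : ∀ j < k, s j ∈ Subgroup.closure (gens s k) :=
      fun j hj => Subgroup.subset_closure ⟨j, hj, rfl⟩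
    obtain ⟨c, hc, hmem⟩ := level_cover s (Subgroup.closure (gens s k)) (tbl ML) (tbl L.T)
      (tbl L.just) (tbl L.stamp) (wd L.words) L.n k (fun i hi => hsq i (by omega))
      (fun i j hi hj => hrel i j (by omega) (by omega)) hH hlev h' hh'
    refine ⟨h' * (wprod s (wd L.words c))⁻¹, hmem, wd L.words c ++ v', ?_, ?_⟩
    · simp only [allWords, List.mem_flatMap, List.mem_map, List.mem_range]
      exact ⟨wd L.words c, ⟨c, hc, rfl⟩, v', hv', rfl⟩
    · rw [wprod_append]
      group

end Cover

/-- Every element of a Coxeter group is the product of a word of `allWords`. -/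
theorem coxeter_allWords {l : ℕ} (M : CoxeterMatrix (Fin l)) (ML : List (List ℕ))
    (cart : List (List ℤ)) (levels : List LevelData) (hlen : levels.length = l)
    (hM : ∀ i j : Fin l, M i j = tbl ML i j)
    (hchain : chainOK ML cart l 0 levels = true) (w : M.Group) :
    ∃ v ∈ allWords levels, wprod (sOf M) v = w := by
  have hsq : ∀ i < l, sOf M i * sOf M i = 1 := by
    intro i hi
    simp only [sOf, hi, dif_pos]
    exact M.toCoxeterSystem.simple_mul_simple_self ⟨i, hi⟩
  have hrel : ∀ i j, i < l → j < l → (sOf M i * sOf M j) ^ (tbl ML i j) = 1 := by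
    intro i j hi hj
    simp only [sOf, hi, hj, dif_pos]
    rw [← hM ⟨i, hi⟩ ⟨j, hj⟩]
    exact M.toCoxeterSystem.simple_mul_simple_pow ⟨i, hi⟩ ⟨j, hj⟩
  have htop : Subgroup.closure (Set.range M.simple) = ⊤ :=
    M.toCoxeterSystem.subgroup_closure_range_simple
  have hw : w ∈ Subgroup.closure (gens (sOf M) (0 + levels.length)) := by
    rw [zero_add, hlen, gens_sOf, htop]
    exact Subgroup.mem_top w
  obtain ⟨h, hh, v, hv, e⟩ := allWords_cover (sOf M) ML cart l hsq hrel levels 0 (by omega)
    hchain w hw
  have h0 : gens (sOf M) 0 = ∅ := by
    ext g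
    simp [gens]
  rw [h0, Subgroup.closure_empty, Subgroup.mem_bot] at hh
  exact ⟨v, hv, by rw [e, hh, one_mul]⟩

/-- The check of one level: the words of the coset representatives have letters at most `k`, are
reduced, and their inverses keep the first `k` fundamental roots positive. -/
def posChk (D : ChevalleyDatum) (k : ℕ) (L : LevelData) : Bool :=
  (List.range L.n).all fun c =>
    (wd L.words c).all (fun i => decide (i ≤ k)) && redChk D [] (wd L.words c) &&
    (List.range k).all fun j =>
      decide (D.IsPosRoot (wPiF D (wd L.words c).reverse (D.simple j)))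

/-- The check of all levels from `k` on. -/
def posChkAll (D : ChevalleyDatum) : ℕ → List LevelData → Bool
  | _, [] => true
  | k, L :: rest => posChk D k L && posChkAll D (k + 1) rest

theorem allWords_sum (D : ChevalleyDatum)
    (hD : D ∈ [chevG2, chevB2, chevD4, chevF4, chevE6, chevE7, chevE8]) (q : ℕ) :
    ∀ (levels : List LevelData) (k : ℕ), k + levels.length ≤ D.rank →
      posChkAll D k levels = true →
      (∀ v ∈ allWords levels, (∀ i ∈ v, i < D.rank) ∧
        ∀ s, D.IsPosRoot s → inSpan D k s → D.IsPosRoot (wPi D v.reverse s)) ∧
      ((allWords levels).map fun v => q ^ (negSet D v).card).sum =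
        (levels.map fun L => ((List.range L.n).map fun c => q ^ (wd L.words c).length).sum).prod := by
  have hD' : D ∈ chevList := hD
  intro levels
  induction levels with
  | nil =>
    intro k _ _
    refine ⟨?_, ?_⟩
    · intro v hv
      simp only [allWords, List.mem_singleton] at hv
      subst hv
      exact ⟨by simp, fun s hs _ => hs⟩
    · simp [allWords, negSet_nil D hD]
  | cons L rest ih =>
    intro k hk hchk
    simp only [List.length_cons] at hk
    simp only [posChkAll, Bool.and_eq_true] at hchk
    obtain ⟨hL, hrest⟩ := hchk
    obtain ⟨hI, hS⟩ := ih (k + 1) (by omega) hrest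
    unfold posChk at hL
    simp only [List.all_eq_true, List.mem_range, Bool.and_eq_true, decide_eq_true_eq] at hL
    have hx1 : ∀ c < L.n, ∀ i ∈ wd L.words c, i < k + 1 := by
      intro c hc i hi
      have := (hL c hc).1.1 i hi
      omega
    have hx2 : ∀ c < L.n, (∀ i ∈ wd L.words c, i < D.rank) ∧
        (negSet D (wd L.words c)).card = (wd L.words c).length :=
      fun c hc => negSet_card_of_redChk D hD _ (hL c hc).1.2
    have hx3 : ∀ c < L.n, ∀ j < k, j < D.rank →
        D.IsPosRoot (wPi D (wd L.words c).reverse (D.simple j)) := by
      intro c hc j hj hjr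
      have := (hL c hc).2 j hj
      rwa [wPiF_eq D hD _ (fun i hi => (hx2 c hc).1 i (List.mem_reverse.1 hi)) _
        (simple_lt D hD' j hjr)] at this
    refine ⟨?_, ?_⟩
    · intro v hv
      simp only [allWords, List.mem_flatMap, List.mem_map, List.mem_range] at hv
      obtain ⟨x, ⟨c, hc, rfl⟩, v', hv', rfl⟩ := hv
      obtain ⟨hv1, hv2⟩ := hI v' hv'
      refine ⟨?_, ?_⟩
      · intro i hi
        rcases List.mem_append.1 hi with h | h
        · exact (hx2 c hc).1 i h
        · exact hv1 i h
      · intro s hs hspan
        rw [List.reverse_append, wPi_append]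
        have hxr : ∀ i ∈ (wd L.words c).reverse, i < D.rank :=
          fun i hi => (hx2 c hc).1 i (List.mem_reverse.1 hi)
        have h1 := wPi_pos_of_inSpan D hD k (wd L.words c).reverse hxr (hx3 c hc) s hs hspan
        have h2 := wPi_inSpan D hD (k + 1) (wd L.words c).reverse hxr
          (fun i hi => hx1 c hc i (List.mem_reverse.1 hi)) s hs.1
          (inSpan_mono D k (k + 1) s (by omega) hspan)
        exact hv2 _ h1 h2
    · have key : ∀ cs : List ℕ, (∀ c ∈ cs, c < L.n) →
          (((cs.map (wd L.words)).flatMap fun x => (allWords rest).map fun v => x ++ v).map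
            fun v => q ^ (negSet D v).card).sum =
          (cs.map fun c => q ^ (wd L.words c).length).sum *
            ((allWords rest).map fun v => q ^ (negSet D v).card).sum := by
        intro cs
        induction cs with
        | nil => intro _; simp
        | cons c cs ihc =>
          intro hcs
          have hc : c < L.n := hcs c (by simp)
          rw [List.map_cons, List.flatMap_cons, List.map_append, List.sum_append,
            ihc (fun c' hc' => hcs c' (by simp [hc'])), List.map_cons, List.sum_cons, add_mul]
          congr 1
          rw [List.map_map, ← List.sum_map_mul_left]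
          congr 1
          apply List.map_congr_left
          intro v' hv'
          obtain ⟨hv1, hv2⟩ := hI v' hv'
          show q ^ (negSet D (wd L.words c ++ v')).card = _
          rw [negSet_append_card D hD (k + 1) _ v' (hx2 c hc).1 (hx1 c hc) hv1 hv2,
            (hx2 c hc).2, pow_add]
      have := key (List.range L.n) (fun c hc => List.mem_range.1 hc)
      simp only [allWords, List.map_cons, List.prod_cons]
      rw [this, hS]

/-! #### Polynomials as coefficient lists -/

/-- The value of a polynomial given by its list of coefficients. -/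
def evalP (q : ℕ) : List ℕ → ℕ
  | [] => 0
  | a :: p => a + q * evalP q p

/-- The sum of two polynomials. -/
def padd : List ℕ → List ℕ → List ℕ
  | [], r => r
  | a :: p, [] => a :: p
  | a :: p, b :: r => (a + b) :: padd p r

theorem evalP_padd (q : ℕ) : ∀ p r : List ℕ, evalP q (padd p r) = evalP q p + evalP q r
  | [], r => by simp [padd, evalP]
  | a :: p, [] => by simp [padd, evalP]
  | a :: p, b :: r => by
    simp only [padd, evalP]
    rw [evalP_padd q p r]
    ring

theorem evalP_smul (q a : ℕ) : ∀ r : List ℕ, evalP q (r.map (a * ·)) = a * evalP q r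
  | [] => by simp [evalP]
  | b :: r => by
    simp only [List.map_cons, evalP]
    rw [evalP_smul q a r]
    ring

/-- The product of two polynomials. -/
def pmul : List ℕ → List ℕ → List ℕ
  | [], _ => []
  | a :: p, r => padd (r.map (a * ·)) (0 :: pmul p r)

theorem evalP_pmul (q : ℕ) : ∀ p r : List ℕ, evalP q (pmul p r) = evalP q p * evalP q r
  | [], r => by simp [pmul, evalP]
  | a :: p, r => by
    simp only [pmul, evalP]
    rw [evalP_padd, evalP_smul]
    simp only [evalP]
    rw [evalP_pmul q p r]
    ring

/-- The monomial `X^e`. -/
def mono (e : ℕ) : List ℕ := List.replicate e 0 ++ [1]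

theorem evalP_mono (q : ℕ) : ∀ e : ℕ, evalP q (mono e) = q ^ e
  | 0 => by simp [mono, evalP]
  | e + 1 => by
    have ih := evalP_mono q e
    unfold mono at ih ⊢
    rw [List.replicate_succ, List.cons_append]
    simp only [evalP]
    rw [ih]
    ring

/-- The polynomial `∑ X^e` over a list of exponents. -/
def expPoly (es : List ℕ) : List ℕ := es.foldr (fun e acc => padd (mono e) acc) []

theorem evalP_expPoly (q : ℕ) : ∀ es : List ℕ, evalP q (expPoly es) = (es.map (q ^ ·)).sum
  | [] => by simp [expPoly, evalP]
  | e :: es => by
    have ih := evalP_expPoly q es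
    unfold expPoly at ih ⊢
    rw [List.foldr_cons, evalP_padd, evalP_mono, ih]
    simp

/-- The polynomial `1 + X + ⋯ + X^{d-1}`. -/
def geom (d : ℕ) : List ℕ := List.replicate d 1

theorem evalP_geom (q' : ℕ) : ∀ d : ℕ, q' * evalP (q' + 1) (geom d) + 1 = (q' + 1) ^ d
  | 0 => by simp [geom, evalP]
  | d + 1 => by
    have ih := evalP_geom q' d
    unfold geom at ih ⊢
    rw [List.replicate_succ]
    simp only [evalP]
    calc q' * (1 + (q' + 1) * evalP (q' + 1) (List.replicate d 1)) + 1
        = (q' + 1) * (q' * evalP (q' + 1) (List.replicate d 1) + 1) := by ring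
      _ = (q' + 1) ^ (d + 1) := by rw [ih]; ring

theorem geom_eval (q d : ℕ) (hq : 1 ≤ q) : (q - 1) * evalP q (geom d) = q ^ d - 1 := by
  obtain ⟨q', rfl⟩ : ∃ q', q = q' + 1 := ⟨q - 1, by omega⟩
  have h := evalP_geom q' d
  rw [Nat.add_sub_cancel]
  omega

/-- The product of a list of polynomials. -/
def pprod (ps : List (List ℕ)) : List ℕ := ps.foldr pmul [1]

theorem evalP_pprod (q : ℕ) : ∀ ps : List (List ℕ), evalP q (pprod ps) = (ps.map (evalP q)).prod
  | [] => by simp [pprod, evalP]
  | p :: ps => by
    have ih := evalP_pprod q ps
    unfold pprod at ih ⊢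
    rw [List.foldr_cons, evalP_pmul, ih]
    simp

/-- The Poincaré polynomial of the chain of levels. -/
def poincare (levels : List LevelData) : List ℕ :=
  pprod (levels.map fun L => expPoly ((List.range L.n).map fun c => (wd L.words c).length))

theorem evalP_poincare (q : ℕ) (levels : List LevelData) :
    evalP q (poincare levels) =
      (levels.map fun L => ((List.range L.n).map fun c => q ^ (wd L.words c).length).sum).prod := by
  unfold poincare
  rw [evalP_pprod, List.map_map]
  congr 1
  apply List.map_congr_left
  intro L _
  show evalP q (expPoly ((List.range L.n).map fun c => (wd L.words c).length)) = _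
  rw [evalP_expPoly, List.map_map]
  rfl

end Cfsg.Agent.Lib.Helper25
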