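import Cfsg.Agent.Lib.Helper25.ChevOrder
import Cfsg.Agent.Lib.Helper25.ChevPoincare

set_option autoImplicit false

namespace Cfsg.Agent.Lib.Helper25

open Cfsg.Lie Matrix
open Cfsg.Agent.Lib.Helper24

/-! ### The order formula of a Chevalley group -/

/-- `d |G| = q^N ∏ (q^{d_i} - 1)`, from the chain of parabolic subgroups of the Weyl group and
the order of `H`. -/
theorem order_formula {F : Type*} [Field F] [Finite F] (D : ChevalleyDatum)
    (hD : D ∈ [chevG2, chevB2, chevD4, chevF4, chevE6, chevE7, chevE8]) {l : ℕ}
    (M : CoxeterMatrix (Fin l)) (hl : D.rank = l)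
    (hweyl : ∃ φ : ↥(D.monomialSubgroup F) →* M.Group, Function.Surjective φ ∧
      φ.ker = (D.diagonalSubgroup F).subgroupOf (D.monomialSubgroup F) ∧
      ∀ (i : Fin l) (g : ↥(D.monomialSubgroup F)),
        ((g : GL D.Idx F) : Matrix D.Idx D.Idx F) = D.nMat F (D.simple i) 1 →
          φ g = M.simple i)
    (ML : List (List ℕ)) (cart : List (List ℤ)) (levels : List LevelData)
    (hlen : levels.length = l) (hM : ∀ i j : Fin l, M i j = tbl ML i j)
    (hrelOK' : ((List.range l).all fun i => (List.range l).all fun j =>
      relOK (AF cart l) (tbl ML i j) i j) = true)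
    (hchain : chainOK ML cart l 0 levels = true)
    (hpos : posChkAll D 0 levels = true)
    (degs : List ℕ) (hpoin : poincare levels = pprod (degs.map geom))
    (hdl : degs.length = D.rank) (d : ℕ)
    (hH : d * Nat.card ↥(D.diagonalSubgroup F) = (Nat.card F - 1) ^ D.rank) :
    d * Nat.card ↥(D.group F) =
      Nat.card F ^ (D.nroots / 2) * (degs.map fun e => Nat.card F ^ e - 1).prod := by
  obtain ⟨φc, _, _, hcardW, _⟩ := coxeter_main M ML cart levels hlen hM hrelOK' hchain
  have hsum := allWords_sum D hD (Nat.card F) levels 0 (by rw [zero_add, hlen, hl]) hpos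
  have hmain := order_main (F := F) D hD M hl hweyl (allWords levels)
    (fun L hL => (hsum.1 L hL).1)
    (fun w => coxeter_allWords M ML cart levels hlen hM hchain w)
    (by rw [allWords_length, hcardW])
  rw [hsum.2, ← evalP_poincare, hpoin, evalP_pprod, List.map_map, borel_card D hD] at hmain
  have hq1 : 1 ≤ Nat.card F := Nat.card_pos
  have key : ∀ ds : List ℕ, (Nat.card F - 1) ^ ds.length *
      (ds.map (evalP (Nat.card F) ∘ geom)).prod = (ds.map fun e => Nat.card F ^ e - 1).prod := by
    intro ds
    induction ds with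
    | nil => simp
    | cons e ds ih =>
      rw [List.length_cons, pow_succ, List.map_cons, List.prod_cons, List.map_cons,
        List.prod_cons, ← ih, ← geom_eval _ e hq1]
      simp only [Function.comp]
      ring
  rw [hmain, ← key degs, hdl, ← hH]
  ring

end Cfsg.Agent.Lib.Helper25
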