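import Cfsg.Agent.Lib.Helper25.ChevOrderData
import Cfsg.Agent.S1035

set_option autoImplicit false

namespace Cfsg.Agent.Lib.Helper25

open Cfsg.Lie Matrix
open Cfsg.Agent.Lib.Helper24

/-! ### `U` is a Sylow `p`-subgroup of the Chevalley group -/

theorem not_dvd_degs_prod (q p : ℕ) (hp : p.Prime) (hpq : p ∣ q) (hq : 0 < q) (l : List ℕ)
    (hl : ∀ e ∈ l, 1 ≤ e) : ¬ p ∣ (l.map fun e => q ^ e - 1).prod := by
  intro h
  rw [(Nat.prime_iff.1 hp).dvd_prod_iff] at h
  obtain ⟨a, ha, hdvd⟩ := h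
  rw [List.mem_map] at ha
  obtain ⟨e, he, rfl⟩ := ha
  have h1 : p ∣ q ^ e := dvd_pow hpq (by have := hl e he; omega)
  have h2 : 0 < q ^ e := pow_pos hq e
  have h3 : p ∣ q ^ e - (q ^ e - 1) := Nat.dvd_sub h1 hdvd
  have h4 : q ^ e - (q ^ e - 1) = 1 := by omega
  rw [h4] at h3
  exact hp.one_lt.ne' (Nat.dvd_one.1 h3)

/-- The order of the Chevalley group, up to a factor, is `q ^ N` times a number prime to the
characteristic. -/
theorem exists_order {F : Type*} [Field F] [Fintype F] (D : ChevalleyDatum)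
    (hD : D ∈ [chevG2, chevB2, chevD4, chevF4, chevE6, chevE7, chevE8]) :
    ∃ d M : ℕ, d * Nat.card ↥(D.group F) = Nat.card F ^ (D.nroots / 2) * M ∧
      ∀ p : ℕ, p.Prime → p ∣ Nat.card F → ¬ p ∣ M := by
  have hq : 0 < Nat.card F := Nat.card_pos
  simp only [List.mem_cons, List.not_mem_nil, or_false] at hD
  rcases hD with rfl | rfl | rfl | rfl | rfl | rfl | rfl
  · have hH : 1 * Nat.card ↥(chevG2.diagonalSubgroup F) = (Nat.card F - 1) ^ chevG2.rank := by
      rw [Nat.card_eq_fintype_card (α := F)]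
      exact Cfsg.Agent.S1035.result rfl (chevG2, 1) (by simp)
    exact ⟨_, _, order_G2 (F := F) 1 hH, fun p hp hpq =>
      not_dvd_degs_prod _ p hp hpq hq _ (by decide)⟩
  · have hH : Nat.gcd 2 (Fintype.card F - 1) * Nat.card ↥(chevB2.diagonalSubgroup F) =
        (Nat.card F - 1) ^ chevB2.rank := by
      rw [Nat.card_eq_fintype_card (α := F)]
      exact Cfsg.Agent.S1035.result rfl (chevB2, Nat.gcd 2 (Fintype.card F - 1)) (by simp)
    exact ⟨_, _, order_B2 (F := F) _ hH, fun p hp hpq =>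
      not_dvd_degs_prod _ p hp hpq hq _ (by decide)⟩
  · have hH : Nat.gcd 2 (Fintype.card F - 1) ^ 2 * Nat.card ↥(chevD4.diagonalSubgroup F) =
        (Nat.card F - 1) ^ chevD4.rank := by
      rw [Nat.card_eq_fintype_card (α := F)]
      exact Cfsg.Agent.S1035.result rfl (chevD4, Nat.gcd 2 (Fintype.card F - 1) ^ 2) (by simp)
    exact ⟨_, _, order_D4 (F := F) _ hH, fun p hp hpq =>
      not_dvd_degs_prod _ p hp hpq hq _ (by decide)⟩
  · have hH : 1 * Nat.card ↥(chevF4.diagonalSubgroup F) = (Nat.card F - 1) ^ chevF4.rank := by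
      rw [Nat.card_eq_fintype_card (α := F)]
      exact Cfsg.Agent.S1035.result rfl (chevF4, 1) (by simp)
    exact ⟨_, _, order_F4 (F := F) 1 hH, fun p hp hpq =>
      not_dvd_degs_prod _ p hp hpq hq _ (by decide)⟩
  · have hH : Nat.gcd 3 (Fintype.card F - 1) * Nat.card ↥(chevE6.diagonalSubgroup F) =
        (Nat.card F - 1) ^ chevE6.rank := by
      rw [Nat.card_eq_fintype_card (α := F)]
      exact Cfsg.Agent.S1035.result rfl (chevE6, Nat.gcd 3 (Fintype.card F - 1)) (by simp)
    exact ⟨_, _, order_E6 (F := F) _ hH, fun p hp hpq =>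
      not_dvd_degs_prod _ p hp hpq hq _ (by decide)⟩
  · have hH : Nat.gcd 2 (Fintype.card F - 1) * Nat.card ↥(chevE7.diagonalSubgroup F) =
        (Nat.card F - 1) ^ chevE7.rank := by
      rw [Nat.card_eq_fintype_card (α := F)]
      exact Cfsg.Agent.S1035.result rfl (chevE7, Nat.gcd 2 (Fintype.card F - 1)) (by simp)
    exact ⟨_, _, order_E7 (F := F) _ hH, fun p hp hpq =>
      not_dvd_degs_prod _ p hp hpq hq _ (by decide)⟩
  · have hH : 1 * Nat.card ↥(chevE8.diagonalSubgroup F) = (Nat.card F - 1) ^ chevE8.rank := by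
      rw [Nat.card_eq_fintype_card (α := F)]
      exact Cfsg.Agent.S1035.result rfl (chevE8, 1) (by simp)
    exact ⟨_, _, order_E8 (F := F) 1 hH, fun p hp hpq =>
      not_dvd_degs_prod _ p hp hpq hq _ (by decide)⟩

/-- `U` is a Sylow `p`-subgroup of the Chevalley group over a finite field of characteristic
`p`. -/
theorem posUnipotent_sylow {F : Type*} [Field F] [Fintype F] (p : ℕ) [Fact p.Prime] [CharP F p]
    (D : ChevalleyDatum) (hD : D ∈ [chevG2, chevB2, chevD4, chevF4, chevE6, chevE7, chevE8]) :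
    ∃ P : Sylow p ↥(D.group F),
      (P : Subgroup ↥(D.group F)) = (D.posUnipotent F).subgroupOf (D.group F) := by
  have hD' : D ∈ chevList := hD
  have hp : p.Prime := Fact.out
  obtain ⟨n, _, hn⟩ := FiniteField.card F p
  have hcardF : Nat.card F = p ^ (n : ℕ) := by rw [Nat.card_eq_fintype_card, hn]
  have hUG : D.posUnipotent F ≤ D.group F :=
    (le_sup_left : D.posUnipotent F ≤ D.borelSubgroup F).trans (borelSubgroup_le_group D hD')
  have hcardU : Nat.card ↥((D.posUnipotent F).subgroupOf (D.group F)) =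
      Nat.card F ^ (D.nroots / 2) := by
    rw [Nat.card_congr (Subgroup.subgroupOfEquivOfLe hUG).toEquiv]
    exact posUnipotent_card D hD
  obtain ⟨d, M, hord, hM⟩ := exists_order (F := F) D hD
  have hpq : p ∣ Nat.card F := by
    rw [hcardF]
    exact dvd_pow_self p n.pos.ne'
  have hpg : IsPGroup p ↥((D.posUnipotent F).subgroupOf (D.group F)) := by
    apply IsPGroup.of_card (n := (n : ℕ) * (D.nroots / 2))
    rw [hcardU, hcardF, pow_mul]
  have hidx : ¬ p ∣ ((D.posUnipotent F).subgroupOf (D.group F)).index := by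
    intro hdvd
    have h1 := Subgroup.card_mul_index ((D.posUnipotent F).subgroupOf (D.group F))
    rw [hcardU] at h1
    rw [← h1] at hord
    have hqpos : 0 < Nat.card F ^ (D.nroots / 2) := pow_pos Nat.card_pos _
    have h2 : d * ((D.posUnipotent F).subgroupOf (D.group F)).index = M := by
      apply Nat.eq_of_mul_eq_mul_left hqpos
      rw [← hord]
      ring
    exact hM p hp hpq (h2 ▸ Dvd.dvd.mul_left hdvd d)
  exact ⟨hpg.toSylow hidx, IsPGroup.toSylow_coe hpg hidx⟩

end Cfsg.Agent.Lib.Helper25
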