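import Mathlib
import Cfsg.Prelude.Def_LieExceptional
import Cfsg.Prelude.Def_ParabolicCharacters
import Cfsg.Agent.Lib.Helper8.BN4

/-!
# Foundation for the Steinberg character of a group with a `(B, N)`-pair

Definitions only: minimal coset representatives in the Weyl group (`RMin`, `LMin`), Bruhat cells
of points of `G ⧸ B` (`InCell`), cells all of whose `J`-directions are ascents (`JMin`), and the
alternating sum `stSum` of the permutation characters on the standard parabolic subgroups.
-/

set_option autoImplicit false

namespace Cfsg.Agent.Lib.Helper25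

open Cfsg Cfsg.Agent.Lib.Helper8

section Cox

variable {W : Type*} [Group W]

/-- Every element of `J` is a right ascent of `w`: `ℓ(w) < ℓ(w s)` for `s ∈ J`
(so `w` is the shortest element of `w W_J`). -/
def RMin (S J : Set W) (w : W) : Prop := ∀ s ∈ J, len S w < len S (w * s)

/-- Every element of `J` is a left ascent of `w`: `ℓ(w) < ℓ(s w)` for `s ∈ J`. -/
def LMin (S J : Set W) (w : W) : Prop := ∀ s ∈ J, len S w < len S (s * w)

/-- `w` has no right ascent at all. -/
def NoRAsc (S : Set W) (w : W) : Prop := ∀ s ∈ S, ¬ len S w < len S (w * s)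

/-- `w` has no left ascent at all. -/
def NoLAsc (S : Set W) (w : W) : Prop := ∀ s ∈ S, ¬ len S w < len S (s * w)

end Cox

section BN

variable {G : Type*} [Group G]

/-- The point `x` of `G ⧸ B` lies in the Bruhat cell `B w B / B`. -/
def InCell (P : BNPair G) (x : G ⧸ P.B) (w : W P) : Prop :=
  ∃ n : P.N, cl P n = w ∧ ∃ b ∈ P.B, x = QuotientGroup.mk (b * (n : G))

/-- The Bruhat cell of `g` has all of `J` as right ascents. -/
def JMin (P : BNPair G) (J : Set G) (g : G) : Prop :=
  ∀ n : P.N, g ∈ dc P (n : G) → RMin (SW P) (SWJ P J) (cl P n)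

/-- The alternating sum, over the subsets `J` of `{0, …, r - 1}`, of `(-1)^|J|` times the
permutation character on the cosets of the parabolic subgroup generated by `B` and the
`σ j`, `j ∈ J`. -/
noncomputable def stSum (P : BNPair G) (σ : ℕ → G) (r : ℕ) : G → ℂ :=
  fun g => ∑ J ∈ (Finset.range r).powerset,
    (-1 : ℂ) ^ J.card * fixedPointCharacter (P.parabolic (σ '' (↑J : Set ℕ))) g

end BN

end Cfsg.Agent.Lib.Helper25
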