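import Mathlib
import Cfsg.Agent.Lib.Helper25.StDefs
import Cfsg.Agent.Lib.Helper25.ChevSylow
import Cfsg.Agent.Lib.Helper24.GenRoot

/-!
# The Steinberg character of a Chevalley group: the Chevalley-specific input

The fundamental reflections as an indexed family, the comparison of the Prelude's
`steinbergCharacter` with the abstract alternating sum `stSum` of the `(B, N)`-pair, the element
of `N` exchanging `U` and `U⁻`, and the cell multiplication rule for ascents.
-/

set_option autoImplicit false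

namespace Cfsg.Agent.Lib.Helper25

open Cfsg Cfsg.Lie Matrix
open Cfsg.Agent.Lib.Helper8 Cfsg.Agent.Lib.Helper24

section StChev

variable {F : Type*} [Field F]

/-- The fundamental reflections `n_{p_i}` as elements of the Chevalley group (`1` for
`i ≥ rank`). -/
noncomputable def stSigma (D : ChevalleyDatum)
    (hD : D ∈ [chevG2, chevB2, chevD4, chevF4, chevE6, chevE7, chevE8]) (i : ℕ) : ↥(D.group F) :=
  if hi : i < D.rank then
    ⟨nGL D hD (D.simple i), monomialSubgroup_le_group D hD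
      (simple_n_le_monomial D hD (Subgroup.subset_closure ⟨i, hi, nGL_val D hD (D.simple i)⟩))⟩
  else 1

theorem stSigma_val (D : ChevalleyDatum)
    (hD : D ∈ [chevG2, chevB2, chevD4, chevF4, chevE6, chevE7, chevE8]) (i : ℕ) (hi : i < D.rank) :
    (((stSigma (F := F) D hD i : ↥(D.group F)) : GL D.Idx F) : Matrix D.Idx D.Idx F) =
      D.nMat F (D.simple i) 1 := by
  unfold stSigma
  rw [dif_pos hi]
  exact nGL_val D hD (D.simple i)

theorem stSigma_mem (D : ChevalleyDatum)
    (hD : D ∈ [chevG2, chevB2, chevD4, chevF4, chevE6, chevE7, chevE8]) (i : ℕ) (hi : i < D.rank) :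
    stSigma (F := F) D hD i ∈ (chevBN (F := F) D hD).S :=
  ⟨i, hi, stSigma_val D hD i hi⟩

theorem st_S_eq (D : ChevalleyDatum)
    (hD : D ∈ [chevG2, chevB2, chevD4, chevF4, chevE6, chevE7, chevE8]) :
    (chevBN (F := F) D hD).S = stSigma (F := F) D hD '' (Finset.range D.rank : Set ℕ) := by
  ext s
  constructor
  · rintro ⟨i, hi, hs⟩
    refine ⟨i, by simpa using hi, ?_⟩
    exact Subtype.ext (Units.ext ((stSigma_val D hD i hi).trans hs.symm))
  · rintro ⟨i, hi, rfl⟩
    exact stSigma_mem D hD i (by simpa using hi)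

theorem stSigma_injOn (D : ChevalleyDatum)
    (hD : D ∈ [chevG2, chevB2, chevD4, chevF4, chevE6, chevE7, chevE8]) :
    Set.InjOn (stSigma (F := F) D hD) (Finset.range D.rank : Set ℕ) := by
  intro i hi j hj h
  have hi' : i < D.rank := by simpa using hi
  have hj' : j < D.rank := by simpa using hj
  by_contra hij
  have hnot := s_inv_s_not_mem D hD i j hi' hj' hij _ (stSigma_val (F := F) D hD i hi') _
    (stSigma_val (F := F) D hD j hj')
  apply hnot
  rw [h, inv_mul_cancel]
  exact one_mem _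

/-- The parabolic subgroups of the Prelude are those of the `(B, N)`-pair. -/
theorem st_parabolic_eq (D : ChevalleyDatum)
    (hD : D ∈ [chevG2, chevB2, chevD4, chevF4, chevE6, chevE7, chevE8]) (J : Finset ℕ)
    (hJ : J ⊆ Finset.range D.rank) :
    D.parabolicIn F J =
      (chevBN (F := F) D hD).parabolic (stSigma (F := F) D hD '' (↑J : Set ℕ)) := by
  have hD' : D ∈ chevList := hD
  have hAle : Subgroup.closure {g : GL D.Idx F | ∃ j ∈ (↑J : Set ℕ), j < D.rank ∧
      (g : Matrix D.Idx D.Idx F) = D.nMat F (D.simple j) 1} ≤ D.group F := by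
    refine le_trans ?_ (monomialSubgroup_le_group D hD')
    refine le_trans ?_ (simple_n_le_monomial D hD)
    apply Subgroup.closure_mono
    rintro g ⟨j, -, hj, hg⟩
    exact ⟨j, hj, hg⟩
  have himg : (D.group F).subtype '' (stSigma (F := F) D hD '' (↑J : Set ℕ)) =
      {g : GL D.Idx F | ∃ j ∈ (↑J : Set ℕ), j < D.rank ∧
        (g : Matrix D.Idx D.Idx F) = D.nMat F (D.simple j) 1} := by
    ext g
    constructor
    · rintro ⟨_, ⟨j, hj, rfl⟩, rfl⟩
      have hj' : j < D.rank := by simpa using hJ hj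
      exact ⟨j, hj, hj', stSigma_val D hD j hj'⟩
    · rintro ⟨j, hj, hj', hg⟩
      refine ⟨stSigma (F := F) D hD j, ⟨j, hj, rfl⟩, ?_⟩
      exact Units.ext ((stSigma_val D hD j hj').trans hg.symm)
  have hcl : (Subgroup.closure {g : GL D.Idx F | ∃ j ∈ (↑J : Set ℕ), j < D.rank ∧
      (g : Matrix D.Idx D.Idx F) = D.nMat F (D.simple j) 1}).subgroupOf (D.group F) =
      Subgroup.closure (stSigma (F := F) D hD '' (↑J : Set ℕ)) := by
    rw [← himg, ← MonoidHom.map_closure]
    exact Subgroup.comap_map_eq_self_of_injective (Subgroup.subtype_injective _) _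
  unfold ChevalleyDatum.parabolicIn ChevalleyDatum.parabolicSubgroup BNPair.parabolic
  rw [Subgroup.subgroupOf_sup (borelSubgroup_le_group D hD') hAle, hcl]
  rfl

/-- The Steinberg character of the Prelude is the alternating sum of the `(B, N)`-pair. -/
theorem st_eq_stSum (D : ChevalleyDatum)
    (hD : D ∈ [chevG2, chevB2, chevD4, chevF4, chevE6, chevE7, chevE8]) :
    D.steinbergCharacter F =
      stSum (chevBN (F := F) D hD) (stSigma (F := F) D hD) D.rank := by
  funext g
  unfold ChevalleyDatum.steinbergCharacter stSum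
  apply Finset.sum_congr rfl
  intro J hJ
  rw [st_parabolic_eq D hD J (Finset.mem_powerset.1 hJ)]

/-- An element of `N` mapping `U` into `U⁻` and the negative root subgroups into `U`. -/
theorem st_exists_w0 (D : ChevalleyDatum)
    (hD : D ∈ [chevG2, chevB2, chevD4, chevF4, chevE6, chevE7, chevE8]) :
    ∃ g : GL D.Idx F, g ∈ D.monomialSubgroup F ∧
      (∀ u ∈ D.posUnipotent F, g * u * g⁻¹ ∈ D.negUnipotent F) ∧
      (∀ (r : ℕ) (t : F) (y : GL D.Idx F), D.IsNegRoot r →
        (y : Matrix D.Idx D.Idx F) = D.x F r t → g * y * g⁻¹ ∈ D.posUnipotent F) := by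
  obtain ⟨L, h, -⟩ := w0_word_all D hD
  unfold w0Chk at h
  simp only [Bool.and_eq_true, List.all_eq_true, decide_eq_true_eq, List.mem_range,
    Bool.or_eq_true, Bool.not_eq_true', decide_eq_false_iff_not] at h
  obtain ⟨hL, hchk⟩ := h
  have hLr : ∀ i ∈ L.reverse, i < D.rank := fun i hi => hL i (List.mem_reverse.1 hi)
  obtain ⟨g, hg, hgmem⟩ := exists_nWordGL (F := F) D hD L.reverse hLr
  have hconj : ∀ (s : ℕ) (_ : s < D.nroots) (t : F) (y : GL D.Idx F),
      (y : Matrix D.Idx D.Idx F) = D.x F s t →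
      ((g * y * g⁻¹ : GL D.Idx F) : Matrix D.Idx D.Idx F) =
        D.x F (wPi D L.reverse s) (((wEta D L.reverse s : ℤ) : F) * t) := by
    intro s hs t y hy
    have e := nWordMat_conj (F := F) D hD L.reverse hLr s hs t
    rw [Units.val_mul, Units.val_mul, hy, hg, e, Matrix.mul_assoc, ← hg, ← Units.val_mul,
      mul_inv_cancel, Units.val_one, Matrix.mul_one]
  refine ⟨g, simple_n_le_monomial D hD hgmem, ?_, ?_⟩
  · intro u hu
    unfold ChevalleyDatum.posUnipotent at hu
    refine conj_closure_le _ _ g ?_ u hu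
    rintro y ⟨r, t, hr, hy⟩
    have e := hconj r hr.1 t y hy
    have hlt := wPi_lt D hD L.reverse hLr r hr.1
    have hneg : D.IsNegRoot (wPi D L.reverse r) := by
      rcases (sign_facts D hD _ hlt).1 with hp | hn
      · exfalso
        have h1 := (hchk _ hlt).1
        rw [wPiF_eq D hD L hL _ hlt, wPi_reverse_cancel D hD L hL r hr.1] at h1
        rcases h1 with h1 | h1
        · exact h1 hp
        · exact (sign_facts D hD r hr.1).2.1 ⟨hr, h1⟩
      · exact hn
    unfold ChevalleyDatum.negUnipotent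
    exact Subgroup.subset_closure ⟨_, _, hneg, e⟩
  · intro r t y hr hy
    have e := hconj r hr.1 t y hy
    have h2 := (hchk r hr.1).2
    rw [wPiF_eq D hD L.reverse hLr r hr.1] at h2
    rcases h2 with h2 | h2
    · exact absurd hr h2
    · unfold ChevalleyDatum.posUnipotent
      exact Subgroup.subset_closure ⟨_, _, h2, e⟩

/-- `B ∩ g⁻¹ B g = H` for an element `g` of `N` mapping `U` into `U⁻`. -/
theorem st_hT (D : ChevalleyDatum)
    (hD : D ∈ [chevG2, chevB2, chevD4, chevF4, chevE6, chevE7, chevE8]) (g : GL D.Idx F)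
    (hgN : g ∈ D.monomialSubgroup F)
    (hneg : ∀ u ∈ D.posUnipotent F, g * u * g⁻¹ ∈ D.negUnipotent F) (x : GL D.Idx F) :
    x ∈ D.diagonalSubgroup F ↔ x ∈ D.borelSubgroup F ∧ g * x * g⁻¹ ∈ D.borelSubgroup F := by
  have hD' : D ∈ chevList := hD
  have hHB : D.diagonalSubgroup F ≤ D.borelSubgroup F := le_sup_right
  have hnorm := monomial_le_normalizer_diagonal D hD' hgN
  constructor
  · intro hx
    exact ⟨hHB hx, hHB (((Subgroup.mem_set_normalizer_iff.1 hnorm) x).1 hx)⟩
  · rintro ⟨hxB, hc⟩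
    have hHU : D.diagonalSubgroup F ≤
        Subgroup.normalizer (D.posUnipotent F : Set (GL D.Idx F)) :=
      diagonal_le_normalizer_rootGen D hD' D.IsPosRoot (fun r hr => hr.1)
    obtain ⟨u, hu, h, hh, rfl⟩ := mem_sup_of_le_normalizer _ _ hHU x hxB
    have h1 : g * h * g⁻¹ ∈ D.diagonalSubgroup F :=
      ((Subgroup.mem_set_normalizer_iff.1 hnorm) h).1 hh
    have h2 : g * u * g⁻¹ ∈ D.borelSubgroup F := by
      have e : g * u * g⁻¹ = (g * (u * h) * g⁻¹) * (g * h * g⁻¹)⁻¹ := by group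
      rw [e]
      exact mul_mem hc (inv_mem (hHB h1))
    have h3 : g * u * g⁻¹ ∈ D.borelSubgroup F ⊓ D.negUnipotent F :=
      Subgroup.mem_inf.2 ⟨h2, hneg u hu⟩
    rw [borel_inf_negUnipotent D hD', Subgroup.mem_bot] at h3
    have hu1 : u = 1 := by
      have e : u = g⁻¹ * (g * u * g⁻¹) * g := by group
      rw [e, h3]
      group
    rw [hu1, one_mul]
    exact hh

/-- The cell multiplication rule at an ascent: if `n X_p n⁻¹ ⊆ B` then `n B n_p ⊆ B n n_p B`. -/
theorem st_rasc_gl (D : ChevalleyDatum)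
    (hD : D ∈ [chevG2, chevB2, chevD4, chevF4, chevE6, chevE7, chevE8]) (i : ℕ) (hi : i < D.rank)
    (s : GL D.Idx F) (hs : (s : Matrix D.Idx D.Idx F) = D.nMat F (D.simple i) 1)
    (n : GL D.Idx F) (hn : n ∈ D.monomialSubgroup F)
    (hB : ∀ (t : F) (y : GL D.Idx F), (y : Matrix D.Idx D.Idx F) = D.x F (D.simple i) t →
      n * y * n⁻¹ ∈ D.borelSubgroup F)
    (b : GL D.Idx F) (hb : b ∈ D.borelSubgroup F) :
    ∃ b₁ ∈ D.borelSubgroup F, ∃ b₂ ∈ D.borelSubgroup F, n * b * s = b₁ * (n * s) * b₂ := by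
  have hD' : D ∈ chevList := hD
  have hp : D.simple i < D.nroots := simple_lt D hD' i hi
  obtain ⟨hpos, hchk⟩ := upChk_all D hD i hi
  have hHB : D.diagonalSubgroup F ≤ D.borelSubgroup F := le_sup_right
  have hUB : D.posUnipotent F ≤ D.borelSubgroup F := le_sup_left
  have hmain := up_main (F := F) D hD i hi hpos hchk
  have hHU : D.diagonalSubgroup F ≤ Subgroup.normalizer (D.posUnipotent F : Set (GL D.Idx F)) :=
    diagonal_le_normalizer_rootGen D hD' D.IsPosRoot (fun r hr => hr.1)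
  obtain ⟨u', hu', h, hh, e1⟩ := mem_sup_of_le_normalizer _ _ hHU b⁻¹ (inv_mem hb)
  rw [← hmain.2] at hu'
  obtain ⟨u, hu, x, hx, e2⟩ :=
    mem_sup_of_le_normalizer _ _ (le_trans le_sup_left hmain.1) u' hu'
  obtain ⟨t, ht⟩ := mem_rootSubgroup D hD (D.simple i) hp x⁻¹ (inv_mem hx)
  have hsU := np_mem_normalizer_up D hD i hi hchk s hs
  have h1 : s⁻¹ * u⁻¹ * s ∈ D.borelSubgroup F := by
    apply hUB
    rw [← hmain.2]
    apply Subgroup.mem_sup_left
    have h := ((Subgroup.mem_set_normalizer_iff.1 (inv_mem hsU)) u⁻¹).1 (inv_mem hu)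
    rwa [inv_inv] at h
  have hnH := monomial_le_normalizer_diagonal D hD' hn
  have h2 : n * h⁻¹ * n⁻¹ ∈ D.borelSubgroup F :=
    hHB (((Subgroup.mem_set_normalizer_iff.1 hnH) h⁻¹).1 (inv_mem hh))
  have h3 : n * x⁻¹ * n⁻¹ ∈ D.borelSubgroup F := hB t x⁻¹ ht
  refine ⟨(n * h⁻¹ * n⁻¹) * (n * x⁻¹ * n⁻¹), mul_mem h2 h3, s⁻¹ * u⁻¹ * s, h1, ?_⟩
  have eb : b = h⁻¹ * x⁻¹ * u⁻¹ := by
    have e3 : b⁻¹ = u * x * h := by rw [e1, e2]
    rw [← inv_inv b, e3]
    group
  rw [eb]
  group

end StChev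

end Cfsg.Agent.Lib.Helper25
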