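import Mathlib
import Cfsg.Agent.Lib.Helper25.StChev
import Cfsg.Agent.Lib.Helper69.BNR

/-!
# The Steinberg character of a Chevalley group: the cell without ascents
-/

set_option autoImplicit false

namespace Cfsg.Agent.Lib.Helper25

open Cfsg Cfsg.Lie Matrix
open Cfsg.Agent.Lib.Helper8 Cfsg.Agent.Lib.Helper24

section Cox

variable {W : Type*} [Group W]

theorem st_len_inv {S : Set W} (h : InvGen S) (w : W) : len S w⁻¹ = len S w := by
  have key : ∀ w : W, len S w⁻¹ ≤ len S w := by
    intro w
    obtain ⟨L, hL, rfl, hlen⟩ := h.exists_reduced w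
    have h1 := len_le (S := S) (L := L.reverse) (fun x hx => hL x (List.mem_reverse.1 hx))
    rw [prod_reverse_of_sq h.sq L hL, List.length_reverse, hlen] at h1
    exact h1
  have h1 := key w
  have h2 := key w⁻¹
  rw [inv_inv] at h2
  omega

theorem st_len_mul_right_ne {S : Set W} (h : ExchGen S) {s : W} (hs : s ∈ S) (w : W) :
    len S (w * s) ≠ len S w := by
  have h1 := h.len_mul_ne hs w⁻¹
  have hsinv : s⁻¹ = s := inv_eq_of_mul_eq_one_left (h.sq s hs)
  have e : (w * s)⁻¹ = s * w⁻¹ := by rw [_root_.mul_inv_rev, hsinv]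
  rw [← e, st_len_inv h.toInvGen, st_len_inv h.toInvGen] at h1
  exact h1

end Cox

section StChev2

variable {F : Type*} [Field F]

/-- If `n X_p n⁻¹ ⊆ B` then `p` is not a right descent of the class of `n`. -/
theorem st_not_desc (D : ChevalleyDatum)
    (hD : D ∈ [chevG2, chevB2, chevD4, chevF4, chevE6, chevE7, chevE8])
    (n : (chevBN (F := F) D hD).N) (i : ℕ) (hi : i < D.rank)
    (hB : ∀ (t : F) (y : GL D.Idx F), (y : Matrix D.Idx D.Idx F) = D.x F (D.simple i) t →
      ((n : ↥(D.group F)) : GL D.Idx F) * y * ((n : ↥(D.group F)) : GL D.Idx F)⁻¹ ∈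
        D.borelSubgroup F) :
    ¬ len (SW (chevBN (F := F) D hD)) (cl (chevBN (F := F) D hD) n *
          cl (chevBN (F := F) D hD) (sN (chevBN (F := F) D hD) (stSigma_mem D hD i hi))) <
        len (SW (chevBN (F := F) D hD)) (cl (chevBN (F := F) D hD) n) := by
  intro hlt
  have hD' : D ∈ chevList := hD
  have hBG := borelSubgroup_le_group (F := F) D hD'
  obtain ⟨b, hb, hmem⟩ :=
    exists_mem_dc_right_of_lt (chevBN (F := F) D hD) (stSigma_mem D hD i hi) n hlt
  have hb' : (b : GL D.Idx F) ∈ D.borelSubgroup F := Subgroup.mem_subgroupOf.1 hb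
  have hnN : ((n : ↥(D.group F)) : GL D.Idx F) ∈ D.monomialSubgroup F :=
    Subgroup.mem_subgroupOf.1 n.2
  obtain ⟨b₁, hb₁, b₂, hb₂, e⟩ :=
    st_rasc_gl D hD i hi _ (stSigma_val (F := F) D hD i hi) _ hnN hB _ hb'
  have h2 : (n : ↥(D.group F)) * b * stSigma (F := F) D hD i ∈
      dc (chevBN (F := F) D hD) ((n : ↥(D.group F)) * stSigma (F := F) D hD i) :=
    mem_dc.2 ⟨⟨b₁, hBG hb₁⟩, Subgroup.mem_subgroupOf.2 hb₁, ⟨b₂, hBG hb₂⟩,
      Subgroup.mem_subgroupOf.2 hb₂, Subtype.ext e⟩
  have h3 : dc (chevBN (F := F) D hD)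
      (((n * sN (chevBN (F := F) D hD) (stSigma_mem D hD i hi) :
        (chevBN (F := F) D hD).N) : ↥(D.group F))) =
      dc (chevBN (F := F) D hD) ((n : (chevBN (F := F) D hD).N) : ↥(D.group F)) :=
    dc_eq_of_mem_of_mem h2 hmem
  have h4 := cl_eq_of_dc_eq (chevBN (F := F) D hD) h3
  rw [cl_mul] at h4
  exact cl_sN_ne_one (chevBN (F := F) D hD) (stSigma_mem D hD i hi) (by simpa using h4)

/-- The class of the element of `N` exchanging `U` and `U⁻` is the only one without right
ascents, and the corresponding cell has point stabiliser `H` in `B`. -/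
theorem st_noAsc [Finite F] (D : ChevalleyDatum)
    (hD : D ∈ [chevG2, chevB2, chevD4, chevF4, chevE6, chevE7, chevE8]) :
    ∃ n₀ : (chevBN (F := F) D hD).N,
      (∀ x : ↥(D.group F), x ∈ (D.diagonalSubgroup F).subgroupOf (D.group F) ↔
          x ∈ (chevBN (F := F) D hD).B ∧
            (n₀ : ↥(D.group F))⁻¹ * x * (n₀ : ↥(D.group F)) ∈ (chevBN (F := F) D hD).B) ∧
      ∀ w : W (chevBN (F := F) D hD),
        NoRAsc (SW (chevBN (F := F) D hD)) w ↔ w = cl (chevBN (F := F) D hD) n₀ := by
  have hD' : D ∈ chevList := hD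
  obtain ⟨g, hgN, hneg, hpos⟩ := st_exists_w0 (F := F) D hD
  have hgG : g ∈ D.group F := monomialSubgroup_le_group D hD' hgN
  let gN : (chevBN (F := F) D hD).N := ⟨⟨g, hgG⟩, Subgroup.mem_subgroupOf.2 hgN⟩
  have hUB : D.posUnipotent F ≤ D.borelSubgroup F := le_sup_left
  have key : ∀ w : W (chevBN (F := F) D hD), NoRAsc (SW (chevBN (F := F) D hD)) w →
      w = cl (chevBN (F := F) D hD) gN⁻¹ := by
    intro w hw
    obtain ⟨n, rfl⟩ := QuotientGroup.mk_surjective w
    have hnN : ((n : ↥(D.group F)) : GL D.Idx F) ∈ D.monomialSubgroup F :=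
      Subgroup.mem_subgroupOf.1 n.2
    obtain ⟨L, hL, hact⟩ := monomial_act D hD (orb_all D hD) _ hnN
    have hnegi : ∀ i, i < D.rank → D.IsNegRoot (wPi D L (D.simple i)) := by
      intro i hi
      have hp : D.simple i < D.nroots := simple_lt D hD' i hi
      have hlt := wPi_lt D hD L hL _ hp
      rcases (sign_facts D hD _ hlt).1 with hpos' | hn
      · exfalso
        obtain ⟨c, -, hc⟩ := hact (D.simple i) hp
        have hB : ∀ (t : F) (y : GL D.Idx F),
            (y : Matrix D.Idx D.Idx F) = D.x F (D.simple i) t →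
            ((n : ↥(D.group F)) : GL D.Idx F) * y * ((n : ↥(D.group F)) : GL D.Idx F)⁻¹ ∈
              D.borelSubgroup F := by
          intro t y hy
          apply hUB
          unfold ChevalleyDatum.posUnipotent
          apply Subgroup.subset_closure
          refine ⟨_, c * t, hpos', ?_⟩
          rw [Units.val_mul, Units.val_mul, hy, hc t, Matrix.mul_assoc, ← Units.val_mul,
            mul_inv_cancel, Units.val_one, Matrix.mul_one]
        have h1 := st_not_desc D hD n i hi hB
        have h2 := hw _ (mem_SW (chevBN (F := F) D hD) (stSigma_mem D hD i hi))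
        have h3 := st_len_mul_right_ne (SW_exchGen (chevBN (F := F) D hD))
          (mem_SW (chevBN (F := F) D hD) (stSigma_mem D hD i hi))
          (cl (chevBN (F := F) D hD) n)
        change ¬ len (SW (chevBN (F := F) D hD)) (cl (chevBN (F := F) D hD) n) <
          len (SW (chevBN (F := F) D hD)) (cl (chevBN (F := F) D hD) n *
            cl (chevBN (F := F) D hD) (sN (chevBN (F := F) D hD) (stSigma_mem D hD i hi))) at h2
        omega
      · exact hn
    have hm : cl (chevBN (F := F) D hD) (gN * n) = 1 := by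
      by_contra hne
      obtain ⟨s, hs, hd⟩ := (SW_invGen (chevBN (F := F) D hD)).exists_right_descent hne
      obtain ⟨σ', hσ', rfl⟩ := hs
      obtain ⟨i, hi, hσi⟩ := hσ'
      have hσeq : σ' = stSigma (F := F) D hD i :=
        Subtype.ext (Units.ext (hσi.trans (stSigma_val D hD i hi).symm))
      subst hσeq
      have hp : D.simple i < D.nroots := simple_lt D hD' i hi
      obtain ⟨c, -, hc⟩ := hact (D.simple i) hp
      have hB : ∀ (t : F) (y : GL D.Idx F),
          (y : Matrix D.Idx D.Idx F) = D.x F (D.simple i) t →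
          (((gN * n : (chevBN (F := F) D hD).N) : ↥(D.group F)) : GL D.Idx F) * y *
            (((gN * n : (chevBN (F := F) D hD).N) : ↥(D.group F)) : GL D.Idx F)⁻¹ ∈
              D.borelSubgroup F := by
        intro t y hy
        apply hUB
        have e : (((gN * n : (chevBN (F := F) D hD).N) : ↥(D.group F)) : GL D.Idx F) * y *
            (((gN * n : (chevBN (F := F) D hD).N) : ↥(D.group F)) : GL D.Idx F)⁻¹ =
            g * (((n : ↥(D.group F)) : GL D.Idx F) * y *
              ((n : ↥(D.group F)) : GL D.Idx F)⁻¹) * g⁻¹ := by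
          show (g * ((n : ↥(D.group F)) : GL D.Idx F)) * y *
            (g * ((n : ↥(D.group F)) : GL D.Idx F))⁻¹ = _
          group
        rw [e]
        refine hpos (wPi D L (D.simple i)) (c * t) _ (hnegi i hi) ?_
        rw [Units.val_mul, Units.val_mul, hy, hc t, Matrix.mul_assoc, ← Units.val_mul,
          mul_inv_cancel, Units.val_one, Matrix.mul_one]
      have h1 := st_not_desc D hD (gN * n) i hi hB
      omega
    rw [cl_mul] at hm
    rw [cl_inv]
    exact eq_inv_of_mul_eq_one_right hm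
  refine ⟨gN⁻¹, ?_, ?_⟩
  · intro x
    have e : ((((gN⁻¹ : (chevBN (F := F) D hD).N) : ↥(D.group F))⁻¹ * x *
        ((gN⁻¹ : (chevBN (F := F) D hD).N) : ↥(D.group F)) : ↥(D.group F)) : GL D.Idx F) =
        g * (x : GL D.Idx F) * g⁻¹ := by
      show (g⁻¹)⁻¹ * (x : GL D.Idx F) * g⁻¹ = _
      rw [inv_inv]
    rw [Subgroup.mem_subgroupOf, st_hT D hD g hgN hneg (x : GL D.Idx F)]
    constructor
    · rintro ⟨h1, h2⟩
      refine ⟨Subgroup.mem_subgroupOf.2 h1, Subgroup.mem_subgroupOf.2 ?_⟩
      rw [e]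
      exact h2
    · rintro ⟨h1, h2⟩
      refine ⟨Subgroup.mem_subgroupOf.1 h1, ?_⟩
      have h3 := Subgroup.mem_subgroupOf.1 h2
      rw [e] at h3
      exact h3
  · intro w
    constructor
    · exact key w
    · rintro rfl
      obtain ⟨w', hw'⟩ := Finite.exists_max
        (fun w : W (chevBN (F := F) D hD) => len (SW (chevBN (F := F) D hD)) w)
      have hno : NoRAsc (SW (chevBN (F := F) D hD)) w' := fun s _ => not_lt.2 (hw' (w' * s))
      rw [← key w' hno]
      exact hno

end StChev2

end Cfsg.Agent.Lib.Helper25
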