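import Cfsg.Agent.Lib.Helper25.ChevLT

/-!
# Table checks for the leading terms
-/

set_option autoImplicit false

namespace Cfsg.Agent.Lib.Helper25

open Cfsg Cfsg.Lie Cfsg.Agent.Lib.Helper24

theorem ltData_G2 : LTData chevG2 :=
  ⟨by decide +kernel, by decide +kernel, by decide +kernel, by decide +kernel⟩

theorem ltData_B2 : LTData chevB2 :=
  ⟨by decide +kernel, by decide +kernel, by decide +kernel, by decide +kernel⟩

theorem ltData_D4 : LTData chevD4 :=
  ⟨by decide +kernel, by decide +kernel, by decide +kernel, by decide +kernel⟩

theorem ltData_F4 : LTData chevF4 :=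
  ⟨by decide +kernel, by decide +kernel, by decide +kernel, by decide +kernel⟩

theorem ltData_E6 : LTData chevE6 :=
  ⟨by decide +kernel, by decide +kernel, by decide +kernel, by decide +kernel⟩

theorem ltData_E7 : LTData chevE7 :=
  ⟨by decide +kernel, by decide +kernel, by decide +kernel, by decide +kernel⟩

theorem ltData_E8 : LTData chevE8 :=
  ⟨by decide +kernel, by decide +kernel, by decide +kernel, by decide +kernel⟩

/-- The table conditions hold for every datum. -/
theorem ltData_all (D : ChevalleyDatum)
    (hD : D ∈ [chevG2, chevB2, chevD4, chevF4, chevE6, chevE7, chevE8]) : LTData D := by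
  simp only [List.mem_cons, List.not_mem_nil, or_false] at hD
  rcases hD with rfl | rfl | rfl | rfl | rfl | rfl | rfl
  · exact ltData_G2
  · exact ltData_B2
  · exact ltData_D4
  · exact ltData_F4
  · exact ltData_E6
  · exact ltData_E7
  · exact ltData_E8

end Cfsg.Agent.Lib.Helper25
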