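import Cfsg.Agent.Lib.Helper25.ChevOrb

set_option autoImplicit false

namespace Cfsg.Agent.Lib.Helper25

open Cfsg.Lie

def orbG2 : List (ℕ × List ℕ) := [(1, [1, 0, 1]), (1, [0, 1]), (0, [0, 1, 0]), (0, [1, 0]), (0, [0]), (1, [1]), (1, []), (0, []), (0, [1]), (0, [0, 1]), (1, [0]), (1, [1, 0])]

theorem orbChk_G2 : orbChk chevG2 orbG2 = true := by decide +kernel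

def orbB2 : List (ℕ × List ℕ) := [(1, [0, 1]), (0, [1, 0]), (0, [0]), (1, [1]), (1, []), (0, []), (0, [1]), (1, [0])]

theorem orbChk_B2 : orbChk chevB2 orbB2 = true := by decide +kernel

def orbD4 : List (ℕ × List ℕ) := [(3, [1, 0, 2, 1, 3]), (3, [0, 2, 1, 3]), (2, [0, 1, 2]), (3, [0, 1, 3]), (1, [0, 1]), (0, [0]), (3, [2, 1, 3]), (2, [1, 2]), (3, [1, 3]), (1, [1]), (2, [2]), (3, [3]), (3, []), (2, []), (1, []), (3, [1]), (2, [1]), (3, [2, 1]), (0, []), (1, [0]), (3, [0, 1]), (2, [0, 1]), (3, [0, 2, 1]), (3, [1, 0, 2, 1])]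

theorem orbChk_D4 : orbChk chevD4 orbD4 = true := by decide +kernel

def orbF4 : List (ℕ × List ℕ) := [(3, [3, 2, 1, 0, 2, 1, 2, 3]), (3, [2, 1, 0, 2, 1, 2, 3]), (3, [1, 0, 2, 1, 2, 3]), (1, [0, 1, 2, 1, 0, 3, 2, 1]), (3, [0, 2, 1, 2, 3]), (3, [0, 1, 2, 3]), (2, [0, 1, 2]), (1, [1, 2, 1, 0, 3, 2, 1]), (1, [2, 1, 0, 3, 2, 1]), (1, [1, 0, 3, 2, 1]), (1, [1, 0, 2, 1]), (1, [0, 3, 2, 1]), (1, [0, 2, 1]), (1, [0, 1]), (0, [0]), (3, [2, 1, 2, 3]), (3, [1, 2, 3]), (2, [1, 2]), (1, [3, 2, 1]), (1, [2, 1]), (1, [1]), (3, [2, 3]), (2, [2]), (3, [3]), (3, []), (2, []), (3, [2]), (1, []), (1, [2]), (1, [3, 2]), (2, [1]), (3, [1, 2]), (3, [2, 1, 2]), (0, []), (1, [0]), (1, [0, 2]), (1, [0, 3, 2]), (1, [1,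 0, 2]), (1, [1, 0, 3, 2]), (1, [2, 1, 0, 3, 2]), (1, [1, 2, 1, 0, 3, 2]), (2, [0, 1]), (3, [0, 1, 2]), (3, [0, 2, 1, 2]), (1, [0, 1, 2, 1, 0, 3, 2]), (3, [1, 0, 2, 1, 2]), (3, [2, 1, 0, 2, 1, 2]), (3, [3, 2, 1, 0, 2, 1, 2])]

theorem orbChk_F4 : orbChk chevF4 orbF4 = true := by decide +kernel

def orbE6 : List (ℕ × List ℕ) := [(5, [1, 3, 2, 0, 4, 3, 1, 2, 3, 4, 5]), (5, [3, 2, 0, 4, 3, 1, 2, 3, 4, 5]), (5, [2, 0, 4, 3, 1, 2, 3, 4, 5]), (5, [2, 0, 3, 1, 2, 3, 4, 5]), (4, [2, 0, 3, 1, 2, 3, 4]), (5, [0, 4, 3, 1, 2, 3, 4, 5]), (5, [0, 3, 1, 2, 3, 4, 5]), (4, [0, 3, 1, 2, 3, 4]), (5, [0, 1, 2, 3, 4, 5]), (4, [0, 1, 2, 3, 4]), (3, [0, 1, 2, 3]), (5, [0, 2, 3, 4, 5]), (4, [0, 2, 3, 4]), (3, [0, 2,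 3]), (2, [0, 2]), (0, [0]), (5, [4, 3, 1, 2, 3, 4, 5]), (5, [3, 1, 2, 3, 4, 5]), (4, [3, 1, 2, 3, 4]), (5, [1, 2, 3, 4, 5]), (4, [1, 2, 3, 4]), (3, [1, 2, 3]), (5, [1, 3, 4, 5]), (4, [1, 3, 4]), (3, [1, 3]), (1, [1]), (5, [2, 3, 4, 5]), (4, [2, 3, 4]), (3, [2, 3]), (2, [2]), (5, [3, 4, 5]), (4, [3, 4]), (3, [3]), (5, [4, 5]), (4, [4]), (5, [5]), (5, []), (4, []), (5, [4]), (3, []), (4, [3]), (5, [3, 4]), (2, []), (3, [2]), (4, [2, 3]), (5, [2, 3, 4]), (1, []), (3, [1]), (4, [1, 3]), (5, [1, 3, 4]), (3, [1, 2]), (4, [1, 2, 3]), (5, [1, 2, 3, 4]), (4, [3, 1, 2, 3]), (5, [3, 1, 2, 3, 4]), (5, [4, 3, 1, 2, 3, 4]), (0, []), (2, [0]), (3, [0, 2]), (4, [0, 2, 3]), (5, [0, 2, 3, 4]), (3, [0, 1, 2]),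 (4, [0, 1, 2, 3]), (5, [0, 1, 2, 3, 4]), (4, [0, 3, 1, 2, 3]), (5, [0, 3, 1, 2, 3, 4]), (5, [0, 4, 3, 1, 2, 3, 4]), (4, [2, 0, 3, 1, 2, 3]), (5, [2, 0, 3, 1, 2, 3, 4]), (5, [2, 0, 4, 3, 1, 2, 3, 4]), (5, [3, 2, 0, 4, 3, 1, 2, 3, 4]), (5, [1, 3, 2, 0, 4, 3, 1, 2, 3, 4])]

theorem orbChk_E6 : orbChk chevE6 orbE6 = true := by decide +kernel

def orbE7 : List (ℕ × List ℕ) := [(6, [0, 2, 3, 1, 4, 3, 2, 0, 5, 4, 3, 1, 2, 3, 4, 5, 6]), (6, [2, 3, 1, 4, 3, 2, 0, 5, 4, 3, 1, 2, 3, 4, 5, 6]), (6, [3, 1, 4, 3, 2, 0, 5, 4, 3, 1, 2, 3, 4, 5, 6]), (6, [1, 4, 3, 2, 0, 5, 4, 3, 1, 2, 3, 4, 5, 6]), (6, [1, 3, 2, 0, 5, 4, 3, 1, 2, 3, 4, 5, 6]), (6, [1, 3, 2, 0, 4, 3, 1, 2, 3, 4, 5, 6]), (5, [1, 3, 2, 0, 4, 3,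 1, 2, 3, 4, 5]), (6, [4, 3, 2, 0, 5, 4, 3, 1, 2, 3, 4, 5, 6]), (6, [3, 2, 0, 5, 4, 3, 1, 2, 3, 4, 5, 6]), (6, [3, 2, 0, 4, 3, 1, 2, 3, 4, 5, 6]), (5, [3, 2, 0, 4, 3, 1, 2, 3, 4, 5]), (6, [2, 0, 5, 4, 3, 1, 2, 3, 4, 5, 6]), (6, [2, 0, 4, 3, 1, 2, 3, 4, 5, 6]), (5, [2, 0, 4, 3, 1, 2, 3, 4, 5]), (6, [2, 0, 3, 1, 2, 3, 4, 5, 6]), (5, [2, 0, 3, 1, 2, 3, 4, 5]), (4, [2, 0, 3, 1, 2, 3, 4]), (6, [0, 5, 4, 3, 1, 2, 3, 4, 5, 6]), (6, [0, 4, 3, 1, 2, 3, 4, 5, 6]), (5, [0, 4, 3, 1, 2, 3, 4, 5]), (6, [0, 3, 1, 2, 3, 4, 5, 6]), (5, [0, 3, 1, 2, 3, 4, 5]), (4, [0, 3, 1, 2, 3, 4]), (6, [0, 1, 2, 3, 4, 5, 6]), (5, [0, 1, 2, 3, 4, 5]), (4, [0, 1, 2, 3, 4]), (3, [0, 1, 2, 3]), (6, [0, 2, 3, 4, 5, 6]), (5, [0,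 2, 3, 4, 5]), (4, [0, 2, 3, 4]), (3, [0, 2, 3]), (2, [0, 2]), (0, [0]), (6, [5, 4, 3, 1, 2, 3, 4, 5, 6]), (6, [4, 3, 1, 2, 3, 4, 5, 6]), (5, [4, 3, 1, 2, 3, 4, 5]), (6, [3, 1, 2, 3, 4, 5, 6]), (5, [3, 1, 2, 3, 4, 5]), (4, [3, 1, 2, 3, 4]), (6, [1, 2, 3, 4, 5, 6]), (5, [1, 2, 3, 4, 5]), (4, [1, 2, 3, 4]), (3, [1, 2, 3]), (6, [1, 3, 4, 5, 6]), (5, [1, 3, 4, 5]), (4, [1, 3, 4]), (3, [1, 3]), (1, [1]), (6, [2, 3, 4, 5, 6]), (5, [2, 3, 4, 5]), (4, [2, 3, 4]), (3, [2, 3]), (2, [2]), (6, [3, 4, 5, 6]), (5, [3, 4, 5]), (4, [3, 4]), (3, [3]), (6, [4, 5, 6]), (5, [4, 5]), (4, [4]), (6, [5, 6]), (5, [5]), (6, [6]), (6, []), (5, []), (6, [5]), (4, []), (5, [4]), (6, [4, 5]), (3, []), (4, [3]), (5, [3, 4]),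 (6, [3, 4, 5]), (2, []), (3, [2]), (4, [2, 3]), (5, [2, 3, 4]), (6, [2, 3, 4, 5]), (1, []), (3, [1]), (4, [1, 3]), (5, [1, 3, 4]), (6, [1, 3, 4, 5]), (3, [1, 2]), (4, [1, 2, 3]), (5, [1, 2, 3, 4]), (6, [1, 2, 3, 4, 5]), (4, [3, 1, 2, 3]), (5, [3, 1, 2, 3, 4]), (6, [3, 1, 2, 3, 4, 5]), (5, [4, 3, 1, 2, 3, 4]), (6, [4, 3, 1, 2, 3, 4, 5]), (6, [5, 4, 3, 1, 2, 3, 4, 5]), (0, []), (2, [0]), (3, [0, 2]), (4, [0, 2, 3]), (5, [0, 2, 3, 4]), (6, [0, 2, 3, 4, 5]), (3, [0, 1, 2]), (4, [0, 1, 2, 3]), (5, [0, 1, 2, 3, 4]), (6, [0, 1, 2, 3, 4, 5]), (4, [0, 3, 1, 2, 3]), (5, [0, 3, 1, 2, 3, 4]), (6, [0, 3, 1, 2, 3, 4, 5]), (5, [0, 4, 3, 1, 2, 3, 4]), (6, [0, 4, 3, 1, 2, 3, 4, 5]), (6, [0, 5, 4, 3, 1, 2, 3,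 4, 5]), (4, [2, 0, 3, 1, 2, 3]), (5, [2, 0, 3, 1, 2, 3, 4]), (6, [2, 0, 3, 1, 2, 3, 4, 5]), (5, [2, 0, 4, 3, 1, 2, 3, 4]), (6, [2, 0, 4, 3, 1, 2, 3, 4, 5]), (6, [2, 0, 5, 4, 3, 1, 2, 3, 4, 5]), (5, [3, 2, 0, 4, 3, 1, 2, 3, 4]), (6, [3, 2, 0, 4, 3, 1, 2, 3, 4, 5]), (6, [3, 2, 0, 5, 4, 3, 1, 2, 3, 4, 5]), (6, [4, 3, 2, 0, 5, 4, 3, 1, 2, 3, 4, 5]), (5, [1, 3, 2, 0, 4, 3, 1, 2, 3, 4]), (6, [1, 3, 2, 0, 4, 3, 1, 2, 3, 4, 5]), (6, [1, 3, 2, 0, 5, 4, 3, 1, 2, 3, 4, 5]), (6, [1, 4, 3, 2, 0, 5, 4, 3, 1, 2, 3, 4, 5]), (6, [3, 1, 4, 3, 2, 0, 5, 4, 3, 1, 2, 3, 4, 5]), (6, [2, 3, 1, 4, 3, 2, 0, 5, 4, 3, 1, 2, 3, 4, 5]), (6, [0, 2, 3, 1, 4, 3, 2, 0, 5, 4, 3, 1, 2, 3, 4, 5])]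

theorem orbChk_E7 : orbChk chevE7 orbE7 = true := by decide +kernel

def orbE8 : List (ℕ × List ℕ) := [(7, [7, 6, 5, 4, 3, 1, 2, 0, 3, 2, 4, 3, 1, 5, 4, 3, 2, 0, 6, 5, 4, 3, 1, 2, 3, 4, 5, 6, 7]), (7, [6, 5, 4, 3, 1, 2, 0, 3, 2, 4, 3, 1, 5, 4, 3, 2, 0, 6, 5, 4, 3, 1, 2, 3, 4, 5, 6, 7]), (7, [5, 4, 3, 1, 2, 0, 3, 2, 4, 3, 1, 5, 4, 3, 2, 0, 6, 5, 4, 3, 1, 2, 3, 4, 5, 6, 7]), (7, [4, 3, 1, 2, 0, 3, 2, 4, 3, 1, 5, 4, 3, 2, 0, 6, 5, 4, 3, 1, 2, 3, 4, 5, 6, 7]), (7, [3, 1, 2, 0, 3, 2, 4, 3, 1, 5, 4, 3, 2, 0, 6, 5, 4, 3, 1, 2, 3, 4, 5, 6, 7]), (7, [1, 2, 0, 3, 2, 4, 3, 1, 5, 4, 3, 2, 0, 6, 5, 4, 3, 1, 2, 3, 4, 5, 6, 7]), (7, [0, 1, 3, 2, 4, 3, 1, 5, 4, 3, 2, 0, 6, 5, 4, 3, 1, 2, 3, 4, 5, 6, 7]), (7,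 [2, 0, 3, 2, 4, 3, 1, 5, 4, 3, 2, 0, 6, 5, 4, 3, 1, 2, 3, 4, 5, 6, 7]), (7, [0, 3, 2, 4, 3, 1, 5, 4, 3, 2, 0, 6, 5, 4, 3, 1, 2, 3, 4, 5, 6, 7]), (7, [0, 2, 4, 3, 1, 5, 4, 3, 2, 0, 6, 5, 4, 3, 1, 2, 3, 4, 5, 6, 7]), (7, [0, 2, 3, 1, 5, 4, 3, 2, 0, 6, 5, 4, 3, 1, 2, 3, 4, 5, 6, 7]), (7, [0, 2, 3, 1, 4, 3, 2, 0, 6, 5, 4, 3, 1, 2, 3, 4, 5, 6, 7]), (7, [0, 2, 3, 1, 4, 3, 2, 0, 5, 4, 3, 1, 2, 3, 4, 5, 6, 7]), (6, [0, 2, 3, 1, 4, 3, 2, 0, 5, 4, 3, 1, 2, 3, 4, 5, 6]), (7, [1, 3, 2, 4, 3, 1, 5, 4, 3, 2, 0, 6, 5, 4, 3, 1, 2, 3, 4, 5, 6, 7]), (7, [3, 2, 4, 3, 1, 5, 4, 3, 2, 0, 6, 5, 4, 3, 1, 2, 3, 4, 5, 6, 7]), (7, [2, 4, 3, 1, 5, 4, 3, 2, 0, 6, 5, 4, 3, 1, 2, 3, 4, 5, 6, 7]), (7, [2, 3, 1, 5, 4, 3, 2,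 0, 6, 5, 4, 3, 1, 2, 3, 4, 5, 6, 7]), (7, [2, 3, 1, 4, 3, 2, 0, 6, 5, 4, 3, 1, 2, 3, 4, 5, 6, 7]), (7, [2, 3, 1, 4, 3, 2, 0, 5, 4, 3, 1, 2, 3, 4, 5, 6, 7]), (6, [2, 3, 1, 4, 3, 2, 0, 5, 4, 3, 1, 2, 3, 4, 5, 6]), (7, [4, 3, 1, 5, 4, 3, 2, 0, 6, 5, 4, 3, 1, 2, 3, 4, 5, 6, 7]), (7, [3, 1, 5, 4, 3, 2, 0, 6, 5, 4, 3, 1, 2, 3, 4, 5, 6, 7]), (7, [3, 1, 4, 3, 2, 0, 6, 5, 4, 3, 1, 2, 3, 4, 5, 6, 7]), (7, [3, 1, 4, 3, 2, 0, 5, 4, 3, 1, 2, 3, 4, 5, 6, 7]), (6, [3, 1, 4, 3, 2, 0, 5, 4, 3, 1, 2, 3, 4, 5, 6]), (7, [1, 5, 4, 3, 2, 0, 6, 5, 4, 3, 1, 2, 3, 4, 5, 6, 7]), (7, [1, 4, 3, 2, 0, 6, 5, 4, 3, 1, 2, 3, 4, 5, 6, 7]), (7, [1, 4, 3, 2, 0, 5, 4, 3, 1, 2, 3, 4, 5, 6, 7]), (6, [1, 4, 3, 2, 0, 5, 4, 3, 1, 2,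 3, 4, 5, 6]), (7, [1, 3, 2, 0, 6, 5, 4, 3, 1, 2, 3, 4, 5, 6, 7]), (7, [1, 3, 2, 0, 5, 4, 3, 1, 2, 3, 4, 5, 6, 7]), (6, [1, 3, 2, 0, 5, 4, 3, 1, 2, 3, 4, 5, 6]), (7, [1, 3, 2, 0, 4, 3, 1, 2, 3, 4, 5, 6, 7]), (6, [1, 3, 2, 0, 4, 3, 1, 2, 3, 4, 5, 6]), (5, [1, 3, 2, 0, 4, 3, 1, 2, 3, 4, 5]), (7, [5, 4, 3, 2, 0, 6, 5, 4, 3, 1, 2, 3, 4, 5, 6, 7]), (7, [4, 3, 2, 0, 6, 5, 4, 3, 1, 2, 3, 4, 5, 6, 7]), (7, [4, 3, 2, 0, 5, 4, 3, 1, 2, 3, 4, 5, 6, 7]), (6, [4, 3, 2, 0, 5, 4, 3, 1, 2, 3, 4, 5, 6]), (7, [3, 2, 0, 6, 5, 4, 3, 1, 2, 3, 4, 5, 6, 7]), (7, [3, 2, 0, 5, 4, 3, 1, 2, 3, 4, 5, 6, 7]), (6, [3, 2, 0, 5, 4, 3, 1, 2, 3, 4, 5, 6]), (7, [3, 2, 0, 4, 3, 1, 2, 3, 4, 5, 6, 7]), (6, [3, 2, 0, 4, 3, 1, 2, 3,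 4, 5, 6]), (5, [3, 2, 0, 4, 3, 1, 2, 3, 4, 5]), (7, [2, 0, 6, 5, 4, 3, 1, 2, 3, 4, 5, 6, 7]), (7, [2, 0, 5, 4, 3, 1, 2, 3, 4, 5, 6, 7]), (6, [2, 0, 5, 4, 3, 1, 2, 3, 4, 5, 6]), (7, [2, 0, 4, 3, 1, 2, 3, 4, 5, 6, 7]), (6, [2, 0, 4, 3, 1, 2, 3, 4, 5, 6]), (5, [2, 0, 4, 3, 1, 2, 3, 4, 5]), (7, [2, 0, 3, 1, 2, 3, 4, 5, 6, 7]), (6, [2, 0, 3, 1, 2, 3, 4, 5, 6]), (5, [2, 0, 3, 1, 2, 3, 4, 5]), (4, [2, 0, 3, 1, 2, 3, 4]), (7, [0, 6, 5, 4, 3, 1, 2, 3, 4, 5, 6, 7]), (7, [0, 5, 4, 3, 1, 2, 3, 4, 5, 6, 7]), (6, [0, 5, 4, 3, 1, 2, 3, 4, 5, 6]), (7, [0, 4, 3, 1, 2, 3, 4, 5, 6, 7]), (6, [0, 4, 3, 1, 2, 3, 4, 5, 6]), (5, [0, 4, 3, 1, 2, 3, 4, 5]), (7, [0, 3, 1, 2, 3, 4, 5, 6, 7]), (6, [0, 3, 1, 2, 3, 4, 5,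 6]), (5, [0, 3, 1, 2, 3, 4, 5]), (4, [0, 3, 1, 2, 3, 4]), (7, [0, 1, 2, 3, 4, 5, 6, 7]), (6, [0, 1, 2, 3, 4, 5, 6]), (5, [0, 1, 2, 3, 4, 5]), (4, [0, 1, 2, 3, 4]), (3, [0, 1, 2, 3]), (7, [0, 2, 3, 4, 5, 6, 7]), (6, [0, 2, 3, 4, 5, 6]), (5, [0, 2, 3, 4, 5]), (4, [0, 2, 3, 4]), (3, [0, 2, 3]), (2, [0, 2]), (0, [0]), (7, [6, 5, 4, 3, 1, 2, 3, 4, 5, 6, 7]), (7, [5, 4, 3, 1, 2, 3, 4, 5, 6, 7]), (6, [5, 4, 3, 1, 2, 3, 4, 5, 6]), (7, [4, 3, 1, 2, 3, 4, 5, 6, 7]), (6, [4, 3, 1, 2, 3, 4, 5, 6]), (5, [4, 3, 1, 2, 3, 4, 5]), (7, [3, 1, 2, 3, 4, 5, 6, 7]), (6, [3, 1, 2, 3, 4, 5, 6]), (5, [3, 1, 2, 3, 4, 5]), (4, [3, 1, 2, 3, 4]), (7, [1, 2, 3, 4, 5, 6, 7]), (6, [1, 2, 3, 4, 5, 6]), (5, [1, 2, 3, 4, 5]),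 (4, [1, 2, 3, 4]), (3, [1, 2, 3]), (7, [1, 3, 4, 5, 6, 7]), (6, [1, 3, 4, 5, 6]), (5, [1, 3, 4, 5]), (4, [1, 3, 4]), (3, [1, 3]), (1, [1]), (7, [2, 3, 4, 5, 6, 7]), (6, [2, 3, 4, 5, 6]), (5, [2, 3, 4, 5]), (4, [2, 3, 4]), (3, [2, 3]), (2, [2]), (7, [3, 4, 5, 6, 7]), (6, [3, 4, 5, 6]), (5, [3, 4, 5]), (4, [3, 4]), (3, [3]), (7, [4, 5, 6, 7]), (6, [4, 5, 6]), (5, [4, 5]), (4, [4]), (7, [5, 6, 7]), (6, [5, 6]), (5, [5]), (7, [6, 7]), (6, [6]), (7, [7]), (7, []), (6, []), (7, [6]), (5, []), (6, [5]), (7, [5, 6]), (4, []), (5, [4]), (6, [4, 5]), (7, [4, 5, 6]), (3, []), (4, [3]), (5, [3, 4]), (6, [3, 4, 5]), (7, [3, 4, 5, 6]), (2, []), (3, [2]), (4, [2, 3]), (5, [2, 3, 4]), (6, [2, 3, 4, 5]), (7,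 [2, 3, 4, 5, 6]), (1, []), (3, [1]), (4, [1, 3]), (5, [1, 3, 4]), (6, [1, 3, 4, 5]), (7, [1, 3, 4, 5, 6]), (3, [1, 2]), (4, [1, 2, 3]), (5, [1, 2, 3, 4]), (6, [1, 2, 3, 4, 5]), (7, [1, 2, 3, 4, 5, 6]), (4, [3, 1, 2, 3]), (5, [3, 1, 2, 3, 4]), (6, [3, 1, 2, 3, 4, 5]), (7, [3, 1, 2, 3, 4, 5, 6]), (5, [4, 3, 1, 2, 3, 4]), (6, [4, 3, 1, 2, 3, 4, 5]), (7, [4, 3, 1, 2, 3, 4, 5, 6]), (6, [5, 4, 3, 1, 2, 3, 4, 5]), (7, [5, 4, 3, 1, 2, 3, 4, 5, 6]), (7, [6, 5, 4, 3, 1, 2, 3, 4, 5, 6]), (0, []), (2, [0]), (3, [0, 2]), (4, [0, 2, 3]), (5, [0, 2, 3, 4]), (6, [0, 2, 3, 4, 5]), (7, [0, 2, 3, 4, 5, 6]), (3, [0, 1, 2]), (4, [0, 1, 2, 3]), (5, [0, 1, 2, 3, 4]), (6, [0, 1, 2, 3, 4, 5]), (7, [0, 1, 2, 3, 4, 5,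 6]), (4, [0, 3, 1, 2, 3]), (5, [0, 3, 1, 2, 3, 4]), (6, [0, 3, 1, 2, 3, 4, 5]), (7, [0, 3, 1, 2, 3, 4, 5, 6]), (5, [0, 4, 3, 1, 2, 3, 4]), (6, [0, 4, 3, 1, 2, 3, 4, 5]), (7, [0, 4, 3, 1, 2, 3, 4, 5, 6]), (6, [0, 5, 4, 3, 1, 2, 3, 4, 5]), (7, [0, 5, 4, 3, 1, 2, 3, 4, 5, 6]), (7, [0, 6, 5, 4, 3, 1, 2, 3, 4, 5, 6]), (4, [2, 0, 3, 1, 2, 3]), (5, [2, 0, 3, 1, 2, 3, 4]), (6, [2, 0, 3, 1, 2, 3, 4, 5]), (7, [2, 0, 3, 1, 2, 3, 4, 5, 6]), (5, [2, 0, 4, 3, 1, 2, 3, 4]), (6, [2, 0, 4, 3, 1, 2, 3, 4, 5]), (7, [2, 0, 4, 3, 1, 2, 3, 4, 5, 6]), (6, [2, 0, 5, 4, 3, 1, 2, 3, 4, 5]), (7, [2, 0, 5, 4, 3, 1, 2, 3, 4, 5, 6]), (7, [2, 0, 6, 5, 4, 3, 1, 2, 3, 4, 5, 6]), (5, [3, 2, 0, 4, 3, 1, 2, 3, 4]), (6, [3, 2,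 0, 4, 3, 1, 2, 3, 4, 5]), (7, [3, 2, 0, 4, 3, 1, 2, 3, 4, 5, 6]), (6, [3, 2, 0, 5, 4, 3, 1, 2, 3, 4, 5]), (7, [3, 2, 0, 5, 4, 3, 1, 2, 3, 4, 5, 6]), (7, [3, 2, 0, 6, 5, 4, 3, 1, 2, 3, 4, 5, 6]), (6, [4, 3, 2, 0, 5, 4, 3, 1, 2, 3, 4, 5]), (7, [4, 3, 2, 0, 5, 4, 3, 1, 2, 3, 4, 5, 6]), (7, [4, 3, 2, 0, 6, 5, 4, 3, 1, 2, 3, 4, 5, 6]), (7, [5, 4, 3, 2, 0, 6, 5, 4, 3, 1, 2, 3, 4, 5, 6]), (5, [1, 3, 2, 0, 4, 3, 1, 2, 3, 4]), (6, [1, 3, 2, 0, 4, 3, 1, 2, 3, 4, 5]), (7, [1, 3, 2, 0, 4, 3, 1, 2, 3, 4, 5, 6]), (6, [1, 3, 2, 0, 5, 4, 3, 1, 2, 3, 4, 5]), (7, [1, 3, 2, 0, 5, 4, 3, 1, 2, 3, 4, 5, 6]), (7, [1, 3, 2, 0, 6, 5, 4, 3, 1, 2, 3, 4, 5, 6]), (6, [1, 4, 3, 2, 0, 5, 4, 3, 1, 2, 3, 4, 5]), (7, [1, 4,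 3, 2, 0, 5, 4, 3, 1, 2, 3, 4, 5, 6]), (7, [1, 4, 3, 2, 0, 6, 5, 4, 3, 1, 2, 3, 4, 5, 6]), (7, [1, 5, 4, 3, 2, 0, 6, 5, 4, 3, 1, 2, 3, 4, 5, 6]), (6, [3, 1, 4, 3, 2, 0, 5, 4, 3, 1, 2, 3, 4, 5]), (7, [3, 1, 4, 3, 2, 0, 5, 4, 3, 1, 2, 3, 4, 5, 6]), (7, [3, 1, 4, 3, 2, 0, 6, 5, 4, 3, 1, 2, 3, 4, 5, 6]), (7, [3, 1, 5, 4, 3, 2, 0, 6, 5, 4, 3, 1, 2, 3, 4, 5, 6]), (7, [4, 3, 1, 5, 4, 3, 2, 0, 6, 5, 4, 3, 1, 2, 3, 4, 5, 6]), (6, [2, 3, 1, 4, 3, 2, 0, 5, 4, 3, 1, 2, 3, 4, 5]), (7, [2, 3, 1, 4, 3, 2, 0, 5, 4, 3, 1, 2, 3, 4, 5, 6]), (7, [2, 3, 1, 4, 3, 2, 0, 6, 5, 4, 3, 1, 2, 3, 4, 5, 6]), (7, [2, 3, 1, 5, 4, 3, 2, 0, 6, 5, 4, 3, 1, 2, 3, 4, 5, 6]), (7, [2, 4, 3, 1, 5, 4, 3, 2, 0, 6, 5, 4, 3, 1, 2, 3, 4,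 5, 6]), (7, [3, 2, 4, 3, 1, 5, 4, 3, 2, 0, 6, 5, 4, 3, 1, 2, 3, 4, 5, 6]), (7, [1, 3, 2, 4, 3, 1, 5, 4, 3, 2, 0, 6, 5, 4, 3, 1, 2, 3, 4, 5, 6]), (6, [0, 2, 3, 1, 4, 3, 2, 0, 5, 4, 3, 1, 2, 3, 4, 5]), (7, [0, 2, 3, 1, 4, 3, 2, 0, 5, 4, 3, 1, 2, 3, 4, 5, 6]), (7, [0, 2, 3, 1, 4, 3, 2, 0, 6, 5, 4, 3, 1, 2, 3, 4, 5, 6]), (7, [0, 2, 3, 1, 5, 4, 3, 2, 0, 6, 5, 4, 3, 1, 2, 3, 4, 5, 6]), (7, [0, 2, 4, 3, 1, 5, 4, 3, 2, 0, 6, 5, 4, 3, 1, 2, 3, 4, 5, 6]), (7, [0, 3, 2, 4, 3, 1, 5, 4, 3, 2, 0, 6, 5, 4, 3, 1, 2, 3, 4, 5, 6]), (7, [2, 0, 3, 2, 4, 3, 1, 5, 4, 3, 2, 0, 6, 5, 4, 3, 1, 2, 3, 4, 5, 6]), (7, [0, 1, 3, 2, 4, 3, 1, 5, 4, 3, 2, 0, 6, 5, 4, 3, 1, 2, 3, 4, 5, 6]), (7, [1, 2, 0, 3, 2, 4, 3, 1, 5, 4,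 3, 2, 0, 6, 5, 4, 3, 1, 2, 3, 4, 5, 6]), (7, [3, 1, 2, 0, 3, 2, 4, 3, 1, 5, 4, 3, 2, 0, 6, 5, 4, 3, 1, 2, 3, 4, 5, 6]), (7, [4, 3, 1, 2, 0, 3, 2, 4, 3, 1, 5, 4, 3, 2, 0, 6, 5, 4, 3, 1, 2, 3, 4, 5, 6]), (7, [5, 4, 3, 1, 2, 0, 3, 2, 4, 3, 1, 5, 4, 3, 2, 0, 6, 5, 4, 3, 1, 2, 3, 4, 5, 6]), (7, [6, 5, 4, 3, 1, 2, 0, 3, 2, 4, 3, 1, 5, 4, 3, 2, 0, 6, 5, 4, 3, 1, 2, 3, 4, 5, 6]), (7, [7, 6, 5, 4, 3, 1, 2, 0, 3, 2, 4, 3, 1, 5, 4, 3, 2, 0, 6, 5, 4, 3, 1, 2, 3, 4, 5, 6])]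

theorem orbChk_E8 : orbChk chevE8 orbE8 = true := by decide +kernel

/-- Every root is the image of a fundamental root in its support under a word of fundamental
reflections in its support. -/
theorem orb_all (D : ChevalleyDatum)
    (hD : D ∈ [chevG2, chevB2, chevD4, chevF4, chevE6, chevE7, chevE8]) (r : ℕ) (hr : r < D.nroots) :
    ∃ i < D.rank, ∃ L : List ℕ, (∀ k ∈ L, k < D.rank) ∧ wPi D L (D.simple i) = r ∧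
      ∀ k ∈ i :: L, (D.coroot.getD r #[]).getD k 0 ≠ 0 := by
  have hD0 := hD
  simp only [List.mem_cons, List.not_mem_nil, or_false] at hD
  rcases hD with rfl | rfl | rfl | rfl | rfl | rfl | rfl
  · exact orb_spec _ hD0 _ orbChk_G2 r hr
  · exact orb_spec _ hD0 _ orbChk_B2 r hr
  · exact orb_spec _ hD0 _ orbChk_D4 r hr
  · exact orb_spec _ hD0 _ orbChk_F4 r hr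
  · exact orb_spec _ hD0 _ orbChk_E6 r hr
  · exact orb_spec _ hD0 _ orbChk_E7 r hr
  · exact orb_spec _ hD0 _ orbChk_E8 r hr

end Cfsg.Agent.Lib.Helper25
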