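import Mathlib
import Cfsg.Agent.Lib.Helper25.StDefs

/-!
# Involutions of a group with a `(B, N)`-pair: definitions

`MaxCell P t n`: no conjugate of `t` lies in a Bruhat cell longer than the cell of `n`.
`AscSet P w`: the fundamental reflections lengthening `w` on the left.
-/

set_option autoImplicit false

namespace Cfsg.Agent.Lib.Helper25

open Cfsg Cfsg.Agent.Lib.Helper8

section

variable {G : Type*} [Group G]

/-- No conjugate of `t` lies in a Bruhat cell longer than the cell of `n`. -/
def MaxCell (P : BNPair G) (t : G) (n : P.N) : Prop :=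
  ∀ (g : G) (n' : P.N), g * t * g⁻¹ ∈ dc P (n' : G) →
    len (SW P) (cl P n') ≤ len (SW P) (cl P n)

/-- The distinguished generators lengthening `w` on the left. -/
def AscSet (P : BNPair G) (w : W P) : Set G :=
  {σ | ∃ hσ : σ ∈ P.S, len (SW P) w < len (SW P) (cl P (sN P hσ) * w)}

theorem ascSet_subset (P : BNPair G) (w : W P) : AscSet P w ⊆ P.S := fun _ h => h.1

end

end Cfsg.Agent.Lib.Helper25
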