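import Cfsg.Agent.Lib.Helper25.ChevW0

set_option autoImplicit false

namespace Cfsg.Agent.Lib.Helper25

open Cfsg.Lie Matrix

/-! ### Reduced words of the longest elements -/

/-- A reduced word of the longest element of the Weyl group of type G2. -/
def w0WordG2 : List ℕ := [1, 0, 1, 0, 1, 0]

set_option maxHeartbeats 4000000 in
theorem w0Chk_G2 : w0Chk chevG2 w0WordG2 = true := by decide +kernel

/-- A reduced word of the longest element of the Weyl group of type B2. -/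
def w0WordB2 : List ℕ := [1, 0, 1, 0]

set_option maxHeartbeats 4000000 in
theorem w0Chk_B2 : w0Chk chevB2 w0WordB2 = true := by decide +kernel

/-- A reduced word of the longest element of the Weyl group of type D4. -/
def w0WordD4 : List ℕ := [3, 1, 2, 0, 1, 3, 0, 1, 2, 0, 1, 0]

set_option maxHeartbeats 4000000 in
theorem w0Chk_D4 : w0Chk chevD4 w0WordD4 = true := by decide +kernel

/-- A reduced word of the longest element of the Weyl group of type F4. -/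
def w0WordF4 : List ℕ := [3, 2, 1, 2, 0, 1, 2, 3, 2, 1, 2, 0, 1, 2, 3, 2, 1, 2, 0, 1, 2, 0, 1, 0]

set_option maxHeartbeats 4000000 in
theorem w0Chk_F4 : w0Chk chevF4 w0WordF4 = true := by decide +kernel

/-- A reduced word of the longest element of the Weyl group of type E6. -/
def w0WordE6 : List ℕ := [0, 2, 3, 4, 5, 1, 3, 4, 2, 3, 0, 2, 1, 3, 4, 5, 1, 3, 4, 2, 3, 0, 2, 1, 3, 4, 2, 3, 0, 2, 1, 3, 0, 2, 1, 0]

set_option maxHeartbeats 4000000 in
theorem w0Chk_E6 : w0Chk chevE6 w0WordE6 = true := by decide +kernel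

/-- A reduced word of the longest element of the Weyl group of type E7. -/
def w0WordE7 : List ℕ := [6, 5, 4, 3, 2, 1, 3, 4, 5, 6, 0, 2, 3, 4, 5, 1, 3, 4, 2, 3, 0, 2, 1, 3, 4, 5, 6, 0, 2, 3, 4, 5, 1, 3, 4, 2, 3, 0, 2, 1, 3, 4, 5, 1, 3, 4, 2, 3, 0, 2, 1, 3, 4, 2, 3, 0, 2, 1, 3, 0, 2, 1, 0]

set_option maxHeartbeats 4000000 in
theorem w0Chk_E7 : w0Chk chevE7 w0WordE7 = true := by decide +kernel

/-- A reduced word of the longest element of the Weyl group of type E8. -/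
def w0WordE8 : List ℕ := [7, 6, 5, 4, 3, 2, 1, 3, 4, 5, 6, 0, 2, 3, 4, 5, 1, 3, 4, 2, 3, 0, 2, 1, 3, 4, 5, 6, 7, 6, 5, 4, 3, 2, 1, 3, 4, 5, 6, 0, 2, 3, 4, 5, 1, 3, 4, 2, 3, 0, 2, 1, 3, 4, 5, 6, 7, 6, 5, 4, 3, 2, 1, 3, 4, 5, 6, 0, 2, 3, 4, 5, 1, 3, 4, 2, 3, 0, 2, 1, 3, 4, 5, 6, 0, 2, 3, 4, 5, 1, 3, 4, 2, 3, 0, 2, 1, 3, 4, 5, 1, 3, 4, 2, 3, 0, 2, 1, 3, 4, 2, 3, 0, 2, 1, 3, 0, 2, 1, 0]

set_option maxHeartbeats 4000000 in
theorem w0Chk_E8 : w0Chk chevE8 w0WordE8 = true := by decide +kernel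

variable {F : Type*} [Field F]

/-- Some element of `N` conjugates `U` onto `V`. -/
theorem exists_w0_conj (D : ChevalleyDatum)
    (hD : D ∈ [chevG2, chevB2, chevD4, chevF4, chevE6, chevE7, chevE8]) :
    ∃ n ∈ D.monomialSubgroup F,
      (D.posUnipotent F).map (MulAut.conj n).toMonoidHom = D.negUnipotent F := by
  have hD0 := hD
  simp only [List.mem_cons, List.not_mem_nil, or_false] at hD0
  rcases hD0 with rfl | rfl | rfl | rfl | rfl | rfl | rfl
  · exact w0_conj _ hD w0WordG2 w0Chk_G2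
  · exact w0_conj _ hD w0WordB2 w0Chk_B2
  · exact w0_conj _ hD w0WordD4 w0Chk_D4
  · exact w0_conj _ hD w0WordF4 w0Chk_F4
  · exact w0_conj _ hD w0WordE6 w0Chk_E6
  · exact w0_conj _ hD w0WordE7 w0Chk_E7
  · exact w0_conj _ hD w0WordE8 w0Chk_E8

end Cfsg.Agent.Lib.Helper25
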