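import Cfsg.Agent.Lib.Helper25.ChevBNPair
import Cfsg.Agent.S0319

set_option autoImplicit false

namespace Cfsg.Agent.Lib.Helper25

open Cfsg.Lie Matrix
open Cfsg.Agent.Lib.Helper24

/-! ### Irreducibility of the `(B, N)`-pair, the core of `B`, and simplicity -/

/-- Two fundamental roots are joined in the Dynkin diagram. -/
def adjB (D : ChevalleyDatum) (i j : ℕ) : Bool :=
  decide (D.cartan i (D.simple j) ≠ 0) || decide (D.cartan j (D.simple i) ≠ 0)

/-- `l` is a path in the Dynkin diagram from the node `a` to the node `0`. -/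
def pathOK (D : ChevalleyDatum) : ℕ → List ℕ → Bool
  | a, [] => decide (a = 0)
  | a, b :: l => decide (b < D.rank) && adjB D a b && pathOK D b l

/-- The Dynkin diagram is connected (paths to the node `0`), and for two joined nodes `i ≠ j` the
element `(w_i w_j)²` maps some positive root to a negative root. -/
def irrChk (D : ChevalleyDatum) (paths : List (List ℕ)) : Bool :=
  ((List.range D.rank).all fun i => pathOK D i (paths.getD i [])) &&
  ((List.range D.rank).all fun i => (List.range D.rank).all fun j =>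
    decide (i = j) || !adjB D i j ||
      (List.range D.nroots).any fun r =>
        decide (D.IsPosRoot r) && decide (D.IsNegRoot (wPiF D [i, j, i, j] r)))

theorem irrChk_G2 : irrChk chevG2 [[], [0]] = true := by decide +kernel
theorem irrChk_B2 : irrChk chevB2 [[], [0]] = true := by decide +kernel
theorem irrChk_D4 : irrChk chevD4 [[], [0], [1, 0], [1, 0]] = true := by decide +kernel
theorem irrChk_F4 : irrChk chevF4 [[], [0], [1, 0], [2, 1, 0]] = true := by decide +kernel
theorem irrChk_E6 : irrChk chevE6 [[], [3, 2, 0], [0], [2, 0], [3, 2, 0], [4, 3, 2, 0]] = true := by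
  decide +kernel
theorem irrChk_E7 :
    irrChk chevE7 [[], [3, 2, 0], [0], [2, 0], [3, 2, 0], [4, 3, 2, 0], [5, 4, 3, 2, 0]] = true := by
  decide +kernel
theorem irrChk_E8 :
    irrChk chevE8 [[], [3, 2, 0], [0], [2, 0], [3, 2, 0], [4, 3, 2, 0], [5, 4, 3, 2, 0],
      [6, 5, 4, 3, 2, 0]] = true := by
  decide +kernel

theorem irrChk_all (D : ChevalleyDatum)
    (hD : D ∈ [chevG2, chevB2, chevD4, chevF4, chevE6, chevE7, chevE8]) :
    ∃ paths, irrChk D paths = true := by
  simp only [List.mem_cons, List.not_mem_nil, or_false] at hD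
  rcases hD with rfl | rfl | rfl | rfl | rfl | rfl | rfl
  · exact ⟨_, irrChk_G2⟩
  · exact ⟨_, irrChk_B2⟩
  · exact ⟨_, irrChk_D4⟩
  · exact ⟨_, irrChk_F4⟩
  · exact ⟨_, irrChk_E6⟩
  · exact ⟨_, irrChk_E7⟩
  · exact ⟨_, irrChk_E8⟩

theorem rank_pos (D : ChevalleyDatum)
    (hD : D ∈ [chevG2, chevB2, chevD4, chevF4, chevE6, chevE7, chevE8]) : 0 < D.rank := by
  simp only [List.mem_cons, List.not_mem_nil, or_false] at hD
  rcases hD with rfl | rfl | rfl | rfl | rfl | rfl | rfl <;> decide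

/-- A path from a node outside `I` to the node `0 ∈ I` crosses the boundary of `I`. -/
theorem path_cross (D : ChevalleyDatum) (I : Set ℕ) (h0 : 0 ∈ I) :
    ∀ (l : List ℕ) (a : ℕ), a < D.rank → a ∉ I → pathOK D a l = true →
      ∃ x y, x < D.rank ∧ y < D.rank ∧ x ∉ I ∧ y ∈ I ∧ adjB D x y = true := by
  intro l
  induction l with
  | nil =>
    intro a _ ha h
    simp only [pathOK, decide_eq_true_eq] at h
    rw [h] at ha
    exact absurd h0 ha
  | cons b l ih =>
    intro a har ha h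
    simp only [pathOK, Bool.and_eq_true, decide_eq_true_eq] at h
    obtain ⟨⟨hb, hadj⟩, hrest⟩ := h
    by_cases hbI : b ∈ I
    · exact ⟨a, b, har, hb, ha, hbI, hadj⟩
    · exact ih b hb hbI hrest

theorem adjB_symm (D : ChevalleyDatum) (i j : ℕ) : adjB D i j = adjB D j i := by
  unfold adjB
  rw [Bool.or_comm]

/-- A proper non-empty set of nodes has a boundary edge, and `(w_a w_b)²` maps some positive
root to a negative root. -/
theorem exists_cross (D : ChevalleyDatum)
    (hD : D ∈ [chevG2, chevB2, chevD4, chevF4, chevE6, chevE7, chevE8]) (I : Set ℕ)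
    (i₀ j₀ : ℕ) (hi₀ : i₀ < D.rank) (hj₀ : j₀ < D.rank) (hI : i₀ ∈ I) (hJ : j₀ ∉ I) :
    ∃ a b, a < D.rank ∧ b < D.rank ∧ a ∈ I ∧ b ∉ I ∧
      ∃ r, D.IsPosRoot r ∧ D.IsNegRoot (wPi D [a, b, a, b] r) := by
  obtain ⟨paths, h⟩ := irrChk_all D hD
  unfold irrChk at h
  simp only [Bool.and_eq_true, List.all_eq_true, List.mem_range, Bool.or_eq_true,
    decide_eq_true_eq, Bool.not_eq_true', List.any_eq_true] at h
  obtain ⟨hpath, hwit⟩ := h
  have key : ∃ a b, a < D.rank ∧ b < D.rank ∧ a ∈ I ∧ b ∉ I ∧ adjB D a b = true := by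
    by_cases h0 : 0 ∈ I
    · obtain ⟨x, y, hx, hy, hxI, hyI, hadj⟩ :=
        path_cross D I h0 _ j₀ hj₀ hJ (hpath j₀ hj₀)
      exact ⟨y, x, hy, hx, hyI, hxI, by rw [adjB_symm]; exact hadj⟩
    · obtain ⟨x, y, hx, hy, hxI, hyI, hadj⟩ :=
        path_cross D Iᶜ h0 _ i₀ hi₀ (fun h => h hI) (hpath i₀ hi₀)
      exact ⟨x, y, hx, hy, not_not.1 hxI, hyI, hadj⟩
  obtain ⟨a, b, ha, hb, haI, hbI, hadj⟩ := key
  refine ⟨a, b, ha, hb, haI, hbI, ?_⟩
  have hab : a ≠ b := fun e => hbI (e ▸ haI)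
  rcases hwit a ha b hb with (h1 | h1) | h1
  · exact absurd h1 hab
  · rw [hadj] at h1
    exact absurd h1 (by simp)
  · obtain ⟨r, hr, hr2⟩ := h1
    have hL : ∀ k ∈ [a, b, a, b], k < D.rank := by
      intro k hk
      simp only [List.mem_cons, List.not_mem_nil, or_false] at hk
      rcases hk with rfl | rfl | rfl | rfl <;> assumption
    refine ⟨r, hr2.1, ?_⟩
    rw [← wPiF_eq D hD _ hL r hr2.1.1]
    exact hr2.2

section

variable {F : Type*} [Field F]

/-- The commutator of two fundamental reflections joined in the Dynkin diagram is not in `B`. -/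
theorem comm_not_mem (D : ChevalleyDatum)
    (hD : D ∈ [chevG2, chevB2, chevD4, chevF4, chevE6, chevE7, chevE8]) (i j : ℕ)
    (hi : i < D.rank) (hj : j < D.rank)
    (hw : ∃ r, D.IsPosRoot r ∧ D.IsNegRoot (wPi D [i, j, i, j] r))
    (s s' : GL D.Idx F) (hs : (s : Matrix D.Idx D.Idx F) = D.nMat F (D.simple i) 1)
    (hs' : (s' : Matrix D.Idx D.Idx F) = D.nMat F (D.simple j) 1) :
    s * s' * s⁻¹ * s'⁻¹ ∉ D.borelSubgroup F := by
  have hD' : D ∈ chevList := hD
  have hp : D.simple i < D.nroots := simple_lt D hD' i hi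
  have hpj : D.simple j < D.nroots := simple_lt D hD' j hj
  intro hmem
  obtain ⟨r, hrpos, hrneg⟩ := hw
  have hHB : D.diagonalSubgroup F ≤ D.borelSubgroup F := le_sup_right
  have hsN : s ∈ D.monomialSubgroup F :=
    simple_n_le_monomial D hD (Subgroup.subset_closure ⟨i, hi, hs⟩)
  have hs'N : s' ∈ D.monomialSubgroup F :=
    simple_n_le_monomial D hD (Subgroup.subset_closure ⟨j, hj, hs'⟩)
  have hsq := n_sq_mem_diagonal D hD (D.simple i) hp s hs
  have hsq' := n_sq_mem_diagonal D hD (D.simple j) hpj s' hs'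
  have hnorm := monomial_le_normalizer_diagonal D hD' hs'N
  have h1 : s' * (s * s) * s'⁻¹ ∈ D.diagonalSubgroup F :=
    ((Subgroup.mem_set_normalizer_iff.1 hnorm) _).1 hsq
  have e : s * s' * s * s' = (s * s' * s⁻¹ * s'⁻¹) * (s' * (s * s) * s'⁻¹) * (s' * s') := by group
  have hwB : s * s' * s * s' ∈ D.borelSubgroup F := by
    rw [e]
    exact mul_mem (mul_mem hmem (hHB h1)) (hHB hsq')
  have hwN : s * s' * s * s' ∈ D.monomialSubgroup F :=
    mul_mem (mul_mem (mul_mem hsN hs'N) hsN) hs'N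
  have hwH : s * s' * s * s' ∈ D.diagonalSubgroup F := by
    rw [← borel_inf_monomial D hD']
    exact Subgroup.mem_inf.2 ⟨hwB, hwN⟩
  obtain ⟨d, hd, hval⟩ := diagonalSubgroup_le_gradedTorus D hD' hwH
  have hL : ∀ k ∈ [i, j, i, j], k < D.rank := by
    intro k hk
    simp only [List.mem_cons, List.not_mem_nil, or_false] at hk
    rcases hk with rfl | rfl | rfl | rfl <;> assumption
  have hword : ((s * s' * s * s' : GL D.Idx F) : Matrix D.Idx D.Idx F) =
      nWordMat F D [i, j, i, j] := by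
    simp only [Units.val_mul, hs, hs', nWordMat, List.map_cons, List.map_nil, List.prod_cons,
      List.prod_nil, mul_one, Matrix.mul_assoc]
  have hc := nWordMat_conj (F := F) D hD [i, j, i, j] hL r hrpos.1 1
  rw [← hword, hval, torus_mul_x D d hd r hrpos.1] at hc
  obtain ⟨z, hz⟩ := exists_xGL (F := F) D hD r hrpos.1 (d r * 1)
  obtain ⟨z', hz'⟩ := exists_xGL (F := F) D hD _ hrneg.1
    (((wEta D [i, j, i, j] r : ℤ) : F) * 1)
  have hzz : z = z' := by
    have h3 : z * (s * s' * s * s') = z' * (s * s' * s * s') := by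
      apply Units.ext
      show (z : Matrix D.Idx D.Idx F) * ((s * s' * s * s' : GL D.Idx F) : Matrix D.Idx D.Idx F) =
        (z' : Matrix D.Idx D.Idx F) * ((s * s' * s * s' : GL D.Idx F) : Matrix D.Idx D.Idx F)
      rw [hz, hz', hval]
      exact hc
    exact mul_right_cancel h3
  have hzB : z ∈ D.borelSubgroup F := by
    apply Subgroup.mem_sup_left
    unfold ChevalleyDatum.posUnipotent
    exact Subgroup.subset_closure ⟨r, _, hrpos, hz⟩
  have hzV : z ∈ D.negUnipotent F := by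
    rw [hzz]
    unfold ChevalleyDatum.negUnipotent
    exact Subgroup.subset_closure ⟨_, _, hrneg, hz'⟩
  have hz1 : z ∈ D.borelSubgroup F ⊓ D.negUnipotent F := Subgroup.mem_inf.2 ⟨hzB, hzV⟩
  rw [borel_inf_negUnipotent D hD', Subgroup.mem_bot] at hz1
  have : D.x F r (d r * 1) = 1 := by
    rw [← hz, hz1, Units.val_one]
  exact x_ne_one D hD r hrpos.1 _
    (mul_ne_zero (mulGraded_ne_zero D d hd r hrpos.1) one_ne_zero) this

/-- The `(B, N)`-pair of a Chevalley group is irreducible. -/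
theorem chevBN_irreducible (D : ChevalleyDatum)
    (hD : D ∈ [chevG2, chevB2, chevD4, chevF4, chevE6, chevE7, chevE8]) :
    (chevBN (F := F) D hD).Irreducible := by
  have hD' : D ∈ chevList := hD
  intro J hJ hJne hSJne
  obtain ⟨s₀, hs₀⟩ := hJne
  obtain ⟨i₀, hi₀, hsi₀⟩ : ∃ i < D.rank,
      ((s₀ : GL D.Idx F) : Matrix D.Idx D.Idx F) = D.nMat F (D.simple i) 1 := hJ hs₀
  obtain ⟨t₀, ht₀S, ht₀J⟩ := hSJne
  obtain ⟨j₀, hj₀, htj₀⟩ : ∃ i < D.rank,
      ((t₀ : GL D.Idx F) : Matrix D.Idx D.Idx F) = D.nMat F (D.simple i) 1 := ht₀S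
  have hI₀ : i₀ ∈ {i : ℕ | ∃ s ∈ J,
      ((s : GL D.Idx F) : Matrix D.Idx D.Idx F) = D.nMat F (D.simple i) 1} := ⟨s₀, hs₀, hsi₀⟩
  have hJ₀ : j₀ ∉ {i : ℕ | ∃ s ∈ J,
      ((s : GL D.Idx F) : Matrix D.Idx D.Idx F) = D.nMat F (D.simple i) 1} := by
    rintro ⟨s, hs, hsj⟩
    have : s = t₀ := Subtype.ext (Units.ext (hsj.trans htj₀.symm))
    exact ht₀J (this ▸ hs)
  obtain ⟨a, b, ha, hb, haI, hbI, hw⟩ := exists_cross D hD _ i₀ j₀ hi₀ hj₀ hI₀ hJ₀
  obtain ⟨s, hsJ, hsa⟩ := haI
  obtain ⟨nb, hnb⟩ := exists_nGL (F := F) D hD (D.simple b) (simple_lt D hD' b hb)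
  have hnbG : nb ∈ D.group F :=
    monomialSubgroup_le_group D hD'
      (simple_n_le_monomial D hD (Subgroup.subset_closure ⟨b, hb, hnb⟩))
  refine ⟨s, hsJ, ⟨nb, hnbG⟩, ⟨⟨b, hb, hnb⟩, fun h => hbI ⟨_, h, hnb⟩⟩, ?_⟩
  intro hmem
  exact comm_not_mem D hD a b ha hb hw (s : GL D.Idx F) nb hsa hnb
    (Subgroup.mem_subgroupOf.1 hmem)

/-- The core of `B` lies in `H`. -/
theorem borel_core_le_diagonal (D : ChevalleyDatum)
    (hD : D ∈ [chevG2, chevB2, chevD4, chevF4, chevE6, chevE7, chevE8])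
    (g : ↥(D.group F)) (hg : g ∈ ((D.borelSubgroup F).subgroupOf (D.group F)).normalCore) :
    (g : GL D.Idx F) ∈ D.diagonalSubgroup F := by
  have hD' : D ∈ chevList := hD
  have hconj : ∀ b : GL D.Idx F, b ∈ D.group F →
      b * (g : GL D.Idx F) * b⁻¹ ∈ D.borelSubgroup F := by
    intro b hb
    exact Subgroup.mem_subgroupOf.1 (hg ⟨b, hb⟩)
  obtain ⟨n₀, hn₀, hw0⟩ := exists_w0_conj (F := F) D hD
  have hn₀G : n₀ ∈ D.group F := monomialSubgroup_le_group D hD' hn₀
  have hgB : (g : GL D.Idx F) ∈ D.borelSubgroup F := by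
    have := hconj 1 (one_mem _)
    simpa using this
  have h1 := hconj n₀⁻¹ (inv_mem hn₀G)
  have hmap : (D.borelSubgroup F).map (MulAut.conj n₀).toMonoidHom ≤
      D.negUnipotent F ⊔ D.diagonalSubgroup F := by
    unfold ChevalleyDatum.borelSubgroup
    rw [Subgroup.map_sup, hw0]
    apply sup_le_sup_left
    rintro _ ⟨h, hh, rfl⟩
    exact ((Subgroup.mem_set_normalizer_iff.1 (monomial_le_normalizer_diagonal D hD' hn₀)) h).1 hh
  have hgVH : (g : GL D.Idx F) ∈ D.negUnipotent F ⊔ D.diagonalSubgroup F := by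
    have e : (g : GL D.Idx F) = n₀ * (n₀⁻¹ * (g : GL D.Idx F) * n₀⁻¹⁻¹) * n₀⁻¹ := by group
    rw [e]
    exact hmap ⟨_, h1, rfl⟩
  rw [← borel_inf_negBorel D hD']
  exact Subgroup.mem_inf.2 ⟨hgB, hgVH⟩

/-- The core of `B` in the Chevalley group is trivial. -/
theorem borel_core_eq_bot (D : ChevalleyDatum)
    (hD : D ∈ [chevG2, chevB2, chevD4, chevF4, chevE6, chevE7, chevE8]) :
    ((D.borelSubgroup F).subgroupOf (D.group F)).normalCore = ⊥ := by
  have hD' : D ∈ chevList := hD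
  rw [eq_bot_iff]
  intro g hg
  rw [Subgroup.mem_bot]
  have hHB : D.diagonalSubgroup F ≤ D.borelSubgroup F := le_sup_right
  have hgH := borel_core_le_diagonal D hD g hg
  obtain ⟨d, hd, hval⟩ := diagonalSubgroup_le_gradedTorus D hD' hgH
  have hdr : ∀ r < D.nroots, d r = 1 := by
    intro r hr
    have hxG : xGL D hD' r (1 : F) ∈ D.group F := xGL_mem_group D hD' r 1
    have hcm : (⟨xGL D hD' r (1 : F), hxG⟩ : ↥(D.group F)) * g *
        (⟨xGL D hD' r (1 : F), hxG⟩ : ↥(D.group F))⁻¹ ∈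
        ((D.borelSubgroup F).subgroupOf (D.group F)).normalCore :=
      (Subgroup.normalCore_normal _).conj_mem g hg _
    have h2 : xGL D hD' r (1 : F) * (g : GL D.Idx F) * (xGL D hD' r (1 : F))⁻¹ ∈
        D.diagonalSubgroup F := borel_core_le_diagonal D hD _ hcm
    have h3 : xGL D hD' r (1 : F) * (g : GL D.Idx F) * (xGL D hD' r (1 : F))⁻¹ *
        (g : GL D.Idx F)⁻¹ ∈ D.diagonalSubgroup F := mul_mem h2 (inv_mem hgH)
    obtain ⟨z, hz⟩ := exists_xGL (F := F) D hD r hr (1 - d r)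
    have hz_eq : z = xGL D hD' r (1 : F) * (g : GL D.Idx F) * (xGL D hD' r (1 : F))⁻¹ *
        (g : GL D.Idx F)⁻¹ := by
      rw [eq_mul_inv_iff_mul_eq, eq_mul_inv_iff_mul_eq]
      apply Units.ext
      simp only [Units.val_mul]
      rw [hz, hval, xGL_val, Matrix.mul_assoc, torus_mul_x D d hd r hr, ← Matrix.mul_assoc,
        x_add D hD' r hr, mul_one, sub_add_cancel]
    have hzH : z ∈ D.diagonalSubgroup F := hz_eq ▸ h3
    by_contra hne
    have hne' : (1 : F) - d r ≠ 0 := sub_ne_zero.2 (Ne.symm hne)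
    rcases (sign_facts D hD r hr).1 with hp | hn
    · have hzU : z ∈ D.posUnipotent F := by
        unfold ChevalleyDatum.posUnipotent
        exact Subgroup.subset_closure ⟨r, _, hp, hz⟩
      have hz1 : z ∈ D.posUnipotent F ⊓ D.diagonalSubgroup F := Subgroup.mem_inf.2 ⟨hzU, hzH⟩
      rw [posUnipotent_inf_diagonal D hD', Subgroup.mem_bot] at hz1
      exact x_ne_one D hD r hr _ hne' (by rw [← hz, hz1, Units.val_one])
    · have hzV : z ∈ D.negUnipotent F := by
        unfold ChevalleyDatum.negUnipotent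
        exact Subgroup.subset_closure ⟨r, _, hn, hz⟩
      have hz1 : z ∈ D.borelSubgroup F ⊓ D.negUnipotent F := Subgroup.mem_inf.2 ⟨hHB hzH, hzV⟩
      rw [borel_inf_negUnipotent D hD', Subgroup.mem_bot] at hz1
      exact x_ne_one D hD r hr _ hne' (by rw [← hz, hz1, Units.val_one])
  apply Subtype.ext
  apply Units.ext
  rw [hval]
  show torus F D d = 1
  rw [← torus_one (F := F) D]
  exact torus_congr D d _ (fun s hs => hdr s hs)

/-- A perfect Chevalley group (of one of the seven tabulated types) is simple and not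
commutative. -/
theorem chev_simple (D : ChevalleyDatum)
    (hD : D ∈ [chevG2, chevB2, chevD4, chevF4, chevE6, chevE7, chevE8])
    (hperf : commutator ↥(D.group F) = ⊤) :
    IsSimpleGroup ↥(D.group F) ∧ ¬ IsMulCommutative ↥(D.group F) := by
  have hD' : D ∈ chevList := hD
  haveI hnt : Nontrivial ↥(D.group F) := by
    have h0 := rank_pos D hD
    have hp := simple_lt D hD' 0 h0
    refine ⟨⟨⟨xGL D hD' (D.simple 0) 1, xGL_mem_group D hD' _ _⟩, 1, ?_⟩⟩
    intro h
    have h1 : xGL D hD' (D.simple 0) (1 : F) = 1 := congrArg Subtype.val h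
    have h2 : D.x F (D.simple 0) 1 = 1 := by
      rw [← xGL_val D hD', h1, Units.val_one]
    exact x_ne_one D hD _ hp 1 one_ne_zero h2
  constructor
  · refine Cfsg.Agent.S0319.result (chevBN D hD) (chevBN_irreducible D hD) ?_ hperf
      (borel_core_eq_bot D hD)
    haveI := borel_isSolvable (F := F) D hD'
    exact Group.isSolvable_of_isSolvable_injective
      (f := (Subgroup.subgroupOfEquivOfLe (borelSubgroup_le_group (F := F) D hD')).toMonoidHom)
      (Subgroup.subgroupOfEquivOfLe (borelSubgroup_le_group (F := F) D hD')).injective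
  · intro hcomm
    have hc : commutator ↥(D.group F) = ⊥ := by
      rw [commutator_eq_bot_iff_center_eq_top]
      exact Subgroup.center_eq_top
    rw [hc] at hperf
    obtain ⟨a, b, hab⟩ := exists_pair_ne ↥(D.group F)
    have ha : a ∈ (⊥ : Subgroup ↥(D.group F)) := by rw [hperf]; exact Subgroup.mem_top a
    have hb : b ∈ (⊥ : Subgroup ↥(D.group F)) := by rw [hperf]; exact Subgroup.mem_top b
    rw [Subgroup.mem_bot] at ha hb
    exact hab (ha.trans hb.symm)

end

end Cfsg.Agent.Lib.Helper25
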