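import Cfsg.Agent.Lib.Helper25.ChevGr
import Cfsg.Agent.Lib.Helper25.ChevBNPair
import Cfsg.Agent.Lib.Helper24.ChevBorel
import Cfsg.Agent.Lib.Helper8.BN3
import Cfsg.Prelude.Def_ChevAutomorphisms

set_option autoImplicit false

namespace Cfsg.Agent.Lib.Helper25

open Cfsg.Lie Matrix
open Cfsg.Agent.Lib.Helper24

/-! ### Diagonal matrices of characters of the root lattice inside the Chevalley group -/

/-- Along a chain of the chain table, each entry is the first entry of the chain through the
previous one. -/
def chainStepOK (D : ChevalleyDatum) (r : ℕ) : ℕ → List (ℕ × ℤ) → Bool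
  | _, [] => true
  | prev, q :: l => decide (D.chainRoot r prev 1 = some q.1) && (decide (q.1 < D.nroots) &&
      chainStepOK D r q.1 l)

def stepChk (D : ChevalleyDatum) : Bool :=
  (List.range D.nroots).all fun r => (crow D r).all fun e => chainStepOK D r e.1 e.2.toList

set_option maxRecDepth 1000000 in
theorem stepChk_G2 : stepChk chevG2 = true := by decide +kernel
set_option maxRecDepth 1000000 in
theorem stepChk_B2 : stepChk chevB2 = true := by decide +kernel
set_option maxRecDepth 1000000 in
theorem stepChk_D4 : stepChk chevD4 = true := by decide +kernel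
set_option maxRecDepth 1000000 in
theorem stepChk_F4 : stepChk chevF4 = true := by decide +kernel
set_option maxRecDepth 1000000 in
theorem stepChk_E6 : stepChk chevE6 = true := by decide +kernel
set_option maxRecDepth 1000000 in
theorem stepChk_E7 : stepChk chevE7 = true := by decide +kernel
set_option maxRecDepth 1000000 in
theorem stepChk_E8 : stepChk chevE8 = true := by decide +kernel

theorem stepChk_all (D : ChevalleyDatum)
    (hD : D ∈ [chevG2, chevB2, chevD4, chevF4, chevE6, chevE7, chevE8]) : stepChk D = true := by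
  simp only [List.mem_cons, List.not_mem_nil, or_false] at hD
  rcases hD with rfl | rfl | rfl | rfl | rfl | rfl | rfl
  · exact stepChk_G2
  · exact stepChk_B2
  · exact stepChk_D4
  · exact stepChk_F4
  · exact stepChk_E6
  · exact stepChk_E7
  · exact stepChk_E8

/-- A function on the roots that is multiplicative on sums of two roots is multiplicative along
the chains. -/
theorem chainStep_mul {M : Type*} [CommMonoid M] (D : ChevalleyDatum) (f : ℕ → M) (r : ℕ)
    (hr : r < D.nroots)
    (hf : ∀ a b k, a < D.nroots → b < D.nroots → D.chainRoot a b 1 = some k → f k = f a * f b)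
    (s : ℕ) : ∀ (l : List (ℕ × ℤ)) (prev m : ℕ), prev < D.nroots → f prev = f s * f r ^ m →
      chainStepOK D r prev l = true → ∀ (j : ℕ) (q : ℕ × ℤ), l[j]? = some q →
        f q.1 = f s * f r ^ (m + j + 1) := by
  intro l
  induction l with
  | nil =>
    intro prev m _ _ _ j q hq
    simp at hq
  | cons q0 l ih =>
    intro prev m hprev hm hchk j q hq
    have hdef : chainStepOK D r prev (q0 :: l) = (decide (D.chainRoot r prev 1 = some q0.1) &&
        (decide (q0.1 < D.nroots) && chainStepOK D r q0.1 l)) := rfl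
    rw [hdef, Bool.and_eq_true, Bool.and_eq_true, decide_eq_true_eq, decide_eq_true_eq] at hchk
    obtain ⟨h1, h2, h3⟩ := hchk
    have h0 : f q0.1 = f s * f r ^ (m + 1) := by
      rw [hf r prev q0.1 hr hprev h1, hm, pow_succ]
      rw [mul_comm (f r), mul_assoc]
    cases j with
    | zero =>
      rw [List.getElem?_cons_zero] at hq
      have : q0 = q := Option.some.inj hq
      rw [← this]
      exact h0
    | succ j =>
      rw [List.getElem?_cons_succ] at hq
      have := ih q0.1 (m + 1) h2 h0 h3 j q hq
      rw [this]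
      congr 2
      omega

section

variable {F : Type*} [Field F]

/-- A character of the root lattice is a multiplicative grading. -/
theorem mulGraded_of_rootCharacter (D : ChevalleyDatum)
    (hD : D ∈ [chevG2, chevB2, chevD4, chevF4, chevE6, chevE7, chevE8]) (χ : ℕ → Fˣ)
    (hχ : D.IsRootCharacter χ) : MulGraded D (fun s => ((χ s : Fˣ) : F)) := by
  have hD' : D ∈ chevList := hD
  have hstep := stepChk_all D hD
  refine ⟨fun s hs => ?_, fun r hr s e he => ?_⟩
  · show ((χ (D.neg s) : Fˣ) : F) * ((χ s : Fˣ) : F) = 1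
    rw [hχ.1 s hs, ← Units.val_mul, inv_mul_cancel, Units.val_one]
  · unfold stepChk at hstep
    rw [List.all_eq_true] at hstep
    have hrow := hstep r (List.mem_range.2 hr)
    rw [List.all_eq_true] at hrow
    unfold cent at he
    rw [List.mem_flatMap] at he
    obtain ⟨e', he', hq⟩ := he
    rw [List.mem_filter, decide_eq_true_eq] at he'
    obtain ⟨he'1, he'2⟩ := he'
    rw [List.mem_map] at hq
    obtain ⟨q, hq, rfl⟩ := hq
    have hq' : (q.1, q.2) ∈ e'.2.toList.zipIdx := hq
    rw [List.mk_mem_zipIdx_iff_getElem?] at hq'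
    have hs : s < D.nroots := by
      rw [← he'2]
      exact crow_key_lt D (preChk_of_mem D hD') r hr e' he'1
    have hchk := hrow e' he'1
    rw [he'2] at hchk
    have key := chainStep_mul D χ r hr hχ.2 s e'.2.toList s 0 hs (by rw [pow_zero, mul_one]) hchk
      q.2 q.1 hq'
    show ((χ q.1.1 : Fˣ) : F) = ((χ s : Fˣ) : F) * ((χ r : Fˣ) : F) ^ (q.2 + 1)
    rw [key, Units.val_mul, Units.val_pow_eq_pow_val]
    congr 2
    omega

theorem charDiag_eq_torus (D : ChevalleyDatum) (χ : ℕ → Fˣ) :
    D.charDiag F χ = torus F D (fun s => ((χ s : Fˣ) : F)) := rfl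

/-- Invertible diagonal matrices commute. -/
theorem dg_commute {ι : Type*} [Fintype ι] [DecidableEq ι] (g h : GL ι F)
    (hg : g ∈ dgSubgroup (ι := ι) (R := F)) (hh : h ∈ dgSubgroup (ι := ι) (R := F)) :
    g * h = h * g := by
  apply Units.ext
  rw [Units.val_mul, Units.val_mul]
  ext i j
  rw [Matrix.mul_apply, Matrix.mul_apply, Finset.sum_eq_single i, Finset.sum_eq_single i]
  · by_cases hij : i = j
    · rw [hij, mul_comm]
    · rw [mem_dgSubgroup.1 hh i j hij, mem_dgSubgroup.1 hg i j hij, mul_zero, mul_zero]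
  · intro k _ hki
    rw [mem_dgSubgroup.1 hh i k (fun e => hki e.symm), zero_mul]
  · intro h0
    exact absurd (Finset.mem_univ i) h0
  · intro k _ hki
    rw [mem_dgSubgroup.1 hg i k (fun e => hki e.symm), zero_mul]
  · intro h0
    exact absurd (Finset.mem_univ i) h0

/-- An element of the Chevalley group that is the diagonal matrix of a character of the root
lattice lies in `H`. -/
theorem charDiag_mem_diagonal (D : ChevalleyDatum)
    (hD : D ∈ [chevG2, chevB2, chevD4, chevF4, chevE6, chevE7, chevE8]) (χ : ℕ → Fˣ)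
    (hχ : D.IsRootCharacter χ) (g : GL D.Idx F) (hg : g ∈ D.group F)
    (hgχ : (g : Matrix D.Idx D.Idx F) = D.charDiag F χ) : g ∈ D.diagonalSubgroup F := by
  have hD' : D ∈ chevList := hD
  have hd := mulGraded_of_rootCharacter D hD χ hχ
  rw [charDiag_eq_torus] at hgχ
  have hgdg : g ∈ dgSubgroup (ι := D.Idx) (R := F) := diagonal_mem_dg g _ hgχ
  have hHdg := diagonalSubgroup_le_dg (F := F) D hD'
  -- `g` conjugates `B` into `B`
  have hconj : ∀ x ∈ D.borelSubgroup F, g * x * g⁻¹ ∈ D.borelSubgroup F := by
    intro x hx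
    have hHU : D.diagonalSubgroup F ≤
        Subgroup.normalizer (D.posUnipotent F : Set (GL D.Idx F)) :=
      diagonal_le_normalizer_rootGen D hD' D.IsPosRoot (fun r hr => hr.1)
    obtain ⟨u, hu, h, hh, rfl⟩ := mem_sup_of_le_normalizer _ _ hHU _ hx
    have e : g * (u * h) * g⁻¹ = (g * u * g⁻¹) * (g * h * g⁻¹) := by group
    rw [e]
    apply mul_mem
    · apply Subgroup.mem_sup_left
      exact (torus_conj_rootGen D D.IsPosRoot (fun r hr => hr.1) _ hd g hgχ u hu).1
    · apply Subgroup.mem_sup_right
      rw [dg_commute g h hgdg (hHdg hh), mul_assoc, mul_inv_cancel, mul_one]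
      exact hh
  -- so `g` lies in `B`
  have hgB : g ∈ D.borelSubgroup F := by
    have key : ∀ x ∈ (chevBN (F := F) D hD).B,
        (⟨g, hg⟩ : ↥(D.group F)) * x * (⟨g, hg⟩ : ↥(D.group F))⁻¹ ∈
          (chevBN (F := F) D hD).B := by
      intro x hx
      exact Subgroup.mem_subgroupOf.2 (hconj _ (Subgroup.mem_subgroupOf.1 hx))
    exact Subgroup.mem_subgroupOf.1
      (Cfsg.Agent.Lib.Helper8.mem_of_conj_le (chevBN (F := F) D hD) le_rfl le_rfl key)
  -- a diagonal element of `B = UH` lies in `H`
  have hHU : D.diagonalSubgroup F ≤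
      Subgroup.normalizer (D.posUnipotent F : Set (GL D.Idx F)) :=
    diagonal_le_normalizer_rootGen D hD' D.IsPosRoot (fun r hr => hr.1)
  obtain ⟨u, hu, h, hh, e⟩ := mem_sup_of_le_normalizer _ _ hHU _ hgB
  have hu1 : u = 1 := by
    apply eq_one_of_ut_of_dg (lev D) u (posUnipotent_le_utP D hD' hu)
    have e' : u = g * h⁻¹ := by
      rw [e]
      group
    rw [e']
    exact mul_mem hgdg (inv_mem (hHdg hh))
  rw [e, hu1, one_mul]
  exact hh

end

end Cfsg.Agent.Lib.Helper25
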