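import Cfsg.Agent.Lib.Helper25.ChevFix
import Cfsg.Agent.Lib.Helper25.ChevCharDiag
import Cfsg.Agent.Lib.Helper25.ChevW0Data

set_option autoImplicit false

namespace Cfsg.Agent.Lib.Helper25

open Cfsg.Lie Matrix
open Cfsg.Agent.Lib.Helper24

/-! ### Elements of a Chevalley group centralising the root elements with parameter `±1` -/

section

variable {F : Type*} [Field F]

/-- An element of the Chevalley group conjugating `B` into `B` lies in `B`. -/
theorem mem_borel_of_conj (D : ChevalleyDatum)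
    (hD : D ∈ [chevG2, chevB2, chevD4, chevF4, chevE6, chevE7, chevE8]) (g : GL D.Idx F)
    (hg : g ∈ D.group F)
    (hconj : ∀ x ∈ D.borelSubgroup F, g * x * g⁻¹ ∈ D.borelSubgroup F) :
    g ∈ D.borelSubgroup F := by
  have key : ∀ x ∈ (chevBN (F := F) D hD).B,
      (⟨g, hg⟩ : ↥(D.group F)) * x * (⟨g, hg⟩ : ↥(D.group F))⁻¹ ∈
        (chevBN (F := F) D hD).B := by
    intro x hx
    exact Subgroup.mem_subgroupOf.2 (hconj _ (Subgroup.mem_subgroupOf.1 hx))
  exact Subgroup.mem_subgroupOf.1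
    (Cfsg.Agent.Lib.Helper8.mem_of_conj_le (chevBN (F := F) D hD) le_rfl le_rfl key)

/-- An element of `N` sending no fundamental root subgroup into `V` lies in `H`. -/
theorem monomial_mem_diagonal_of_simple (D : ChevalleyDatum)
    (hD : D ∈ [chevG2, chevB2, chevD4, chevF4, chevE6, chevE7, chevE8]) (n : GL D.Idx F)
    (hn : n ∈ D.monomialSubgroup F)
    (h : ∀ i < D.rank, ¬ (D.rootSubgroup F (D.simple i)).map (MulAut.conj n).toMonoidHom ≤
      D.negUnipotent F) :
    n ∈ D.diagonalSubgroup F := by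
  have hD' : D ∈ chevList := hD
  obtain ⟨L, hL, hact⟩ := monomial_act D hD (orb_all D hD) n hn
  have hall : ∀ i < D.rank, D.IsPosRoot (wPi D L (D.simple i)) := by
    intro i hi
    have hp := simple_lt D hD' i hi
    rcases (sign_facts D hD _ (wPi_lt D hD L hL _ hp)).1 with h1 | h1
    · exact h1
    · exfalso
      apply h i hi
      rintro y ⟨z, hz, rfl⟩
      obtain ⟨t, ht⟩ := mem_rootSubgroup D hD _ hp z hz
      obtain ⟨c, _, hc⟩ := hact _ hp
      unfold ChevalleyDatum.negUnipotent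
      apply Subgroup.subset_closure
      refine ⟨wPi D L (D.simple i), c * t, h1, ?_⟩
      show ((n * z * n⁻¹ : GL D.Idx F) : Matrix D.Idx D.Idx F) = _
      rw [Units.val_mul, Units.val_mul, ht, hc t, Matrix.mul_assoc, ← Units.val_mul,
        mul_inv_cancel, Units.val_one, Matrix.mul_one]
  have hU : ∀ u ∈ D.posUnipotent F, n * u * n⁻¹ ∈ D.posUnipotent F := by
    intro u hu
    unfold ChevalleyDatum.posUnipotent at hu
    apply conj_closure_le _ _ n _ u hu
    rintro g ⟨r, t, hr, hg⟩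
    obtain ⟨c, _, hc⟩ := hact r hr.1
    unfold ChevalleyDatum.posUnipotent
    apply Subgroup.subset_closure
    refine ⟨wPi D L r, c * t, pos_of_simple_pos D hD L hL hall r hr, ?_⟩
    rw [Units.val_mul, Units.val_mul, hg, hc t, Matrix.mul_assoc, ← Units.val_mul,
      mul_inv_cancel, Units.val_one, Matrix.mul_one]
  have hNH := monomial_le_normalizer_diagonal (F := F) D hD'
  have hHU : D.diagonalSubgroup F ≤ Subgroup.normalizer (D.posUnipotent F : Set (GL D.Idx F)) :=
    diagonal_le_normalizer_rootGen D hD' D.IsPosRoot (fun r hr => hr.1)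
  have hconj : ∀ x ∈ D.borelSubgroup F, n * x * n⁻¹ ∈ D.borelSubgroup F := by
    intro x hx
    obtain ⟨u, hu, h', hh', rfl⟩ := mem_sup_of_le_normalizer _ _ hHU _ hx
    have e : n * (u * h') * n⁻¹ = (n * u * n⁻¹) * (n * h' * n⁻¹) := by group
    rw [e]
    exact mul_mem (Subgroup.mem_sup_left (hU u hu))
      (Subgroup.mem_sup_right (((Subgroup.mem_set_normalizer_iff.1 (hNH hn)) h').1 hh'))
  have hnB := mem_borel_of_conj D hD n (monomialSubgroup_le_group D hD' hn) hconj
  have hmem : n ∈ D.borelSubgroup F ⊓ D.monomialSubgroup F := Subgroup.mem_inf.2 ⟨hnB, hn⟩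
  rw [borel_inf_monomial D hD'] at hmem
  exact hmem

/-- An element of the Chevalley group commuting with `x_p(1)` for every fundamental root `p`
lies in `B`. -/
theorem mem_borel_of_commute_simple (D : ChevalleyDatum)
    (hD : D ∈ [chevG2, chevB2, chevD4, chevF4, chevE6, chevE7, chevE8]) (g : GL D.Idx F)
    (hg : g ∈ D.group F)
    (hc : ∀ i < D.rank, ∀ z : GL D.Idx F,
      (z : Matrix D.Idx D.Idx F) = D.x F (D.simple i) 1 → g * z = z * g) :
    g ∈ D.borelSubgroup F := by
  have hD' : D ∈ chevList := hD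
  obtain ⟨b, hb, n, hn, u, hu, rfl⟩ := bruhat_exists D hD g hg
  have hUle : Subgroup.closure {x : GL D.Idx F | ∃ (r : ℕ) (t : F), D.IsPosRoot r ∧
      (D.rootSubgroup F r).map (MulAut.conj n).toMonoidHom ≤ D.negUnipotent F ∧
      (x : Matrix D.Idx D.Idx F) = D.x F r t} ≤ D.posUnipotent F := by
    unfold ChevalleyDatum.posUnipotent
    apply Subgroup.closure_mono
    rintro x ⟨r, t, hr, _, hx⟩
    exact ⟨r, t, hr, hx⟩
  have hnH : n ∈ D.diagonalSubgroup F := by
    apply monomial_mem_diagonal_of_simple D hD n hn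
    intro i hi hle
    have hp := simple_lt D hD' i hi
    have hpos := (upChk_all D hD i hi).1
    obtain ⟨z, hz⟩ := exists_xGL (F := F) D hD (D.simple i) hp 1
    have hzS : z ∈ Subgroup.closure {x : GL D.Idx F | ∃ (r : ℕ) (t : F), D.IsPosRoot r ∧
        (D.rootSubgroup F r).map (MulAut.conj n).toMonoidHom ≤ D.negUnipotent F ∧
        (x : Matrix D.Idx D.Idx F) = D.x F r t} :=
      Subgroup.subset_closure ⟨D.simple i, 1, hpos, hle, hz⟩
    have hzB : z ∈ D.borelSubgroup F := Subgroup.mem_sup_left (hUle hzS)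
    have e : b * n * (u * z) = (z * b) * n * u := by
      have h1 := hc i hi z hz
      calc b * n * (u * z) = (b * n * u) * z := by group
        _ = z * (b * n * u) := h1
        _ = (z * b) * n * u := by group
    obtain ⟨-, huniq⟩ := bruhat_unique D hD b (z * b) n n (u * z) u hb (mul_mem hzB hb) hn hn
      (mul_mem hu hzS) hu e
    obtain ⟨-, h2⟩ := huniq rfl
    have hz1 : z = 1 := mul_eq_left.1 h2
    have h3 : D.x F (D.simple i) 1 = 1 := by rw [← hz, hz1, Units.val_one]
    exact x_ne_one D hD _ hp 1 one_ne_zero h3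
  exact mul_mem (mul_mem hb (Subgroup.mem_sup_right hnH)) (Subgroup.mem_sup_left (hUle hu))

/-- An element of the Chevalley group commuting with all root elements `x_s(±1)` is trivial. -/
theorem centralizer_trivial (D : ChevalleyDatum)
    (hD : D ∈ [chevG2, chevB2, chevD4, chevF4, chevE6, chevE7, chevE8]) (g : GL D.Idx F)
    (hg : g ∈ D.group F)
    (hc : ∀ (s : ℕ) (z : GL D.Idx F), s < D.nroots →
      ((z : Matrix D.Idx D.Idx F) = D.x F s 1 ∨ (z : Matrix D.Idx D.Idx F) = D.x F s (-1)) →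
      g * z = z * g) : g = 1 := by
  have hD' : D ∈ chevList := hD
  have hgB : g ∈ D.borelSubgroup F :=
    mem_borel_of_commute_simple D hD g hg
      (fun i hi z hz => hc _ z (simple_lt D hD' i hi) (Or.inl hz))
  obtain ⟨n₀, hn₀, hconj₀⟩ := exists_w0_conj (F := F) D hD
  obtain ⟨h₀, hh₀, L, hL, e⟩ := monomial_word D hD (orb_all D hD) n₀ hn₀
  obtain ⟨m, hmval, hmcl⟩ := exists_nWordGL (F := F) D hD L hL
  have hmN : m ∈ D.monomialSubgroup F := simple_n_le_monomial D hD hmcl
  have hmG : m ∈ D.group F := monomialSubgroup_le_group D hD' hmN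
  have hnm : n₀ = h₀ * m := Units.ext (by rw [Units.val_mul, e, hmval])
  have hHV : D.diagonalSubgroup F ≤ Subgroup.normalizer (D.negUnipotent F : Set (GL D.Idx F)) :=
    diagonal_le_normalizer_rootGen D hD' D.IsNegRoot (fun r hr => hr.1)
  have hHU : D.diagonalSubgroup F ≤ Subgroup.normalizer (D.posUnipotent F : Set (GL D.Idx F)) :=
    diagonal_le_normalizer_rootGen D hD' D.IsPosRoot (fun r hr => hr.1)
  have hNH := monomial_le_normalizer_diagonal (F := F) D hD'
  -- `m⁻¹ g m` lies in `B`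
  have hg'B : m⁻¹ * g * m ∈ D.borelSubgroup F := by
    apply mem_borel_of_commute_simple D hD _ (mul_mem (mul_mem (inv_mem hmG) hg) hmG)
    intro i hi z hz
    have hp := simple_lt D hD' i hi
    have hz' : ((m * z * m⁻¹ : GL D.Idx F) : Matrix D.Idx D.Idx F) =
        D.x F (wPi D L (D.simple i)) (((wEta D L (D.simple i) : ℤ) : F) * 1) := by
      rw [Units.val_mul, Units.val_mul, hz, hmval, nWordMat_conj D hD L hL _ hp 1, ← hmval,
        Matrix.mul_assoc, ← Units.val_mul, mul_inv_cancel, Units.val_one, Matrix.mul_one]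
    have hcz : g * (m * z * m⁻¹) = (m * z * m⁻¹) * g := by
      apply hc _ _ (wPi_lt D hD L hL _ hp)
      rcases wEta_cases D L (D.simple i) with h1 | h1
      · left
        rw [hz', h1]
        simp
      · right
        rw [hz', h1]
        simp
    calc m⁻¹ * g * m * z = m⁻¹ * (g * (m * z * m⁻¹)) * m := by group
      _ = m⁻¹ * ((m * z * m⁻¹) * g) * m := by rw [hcz]
      _ = z * (m⁻¹ * g * m) := by group
  -- hence `g ∈ V H`
  obtain ⟨u', hu', h', hh', e2⟩ := mem_sup_of_le_normalizer _ _ hHU _ hg'B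
  have hv : m * u' * m⁻¹ ∈ D.negUnipotent F := by
    have h1 : n₀ * u' * n₀⁻¹ ∈ D.negUnipotent F := by
      rw [← hconj₀]
      exact ⟨u', hu', rfl⟩
    have h2 := ((Subgroup.mem_set_normalizer_iff.1 (hHV (inv_mem hh₀))) _).1 h1
    have e3 : m * u' * m⁻¹ = h₀⁻¹ * (n₀ * u' * n₀⁻¹) * h₀⁻¹⁻¹ := by
      rw [hnm]
      group
    rw [e3]
    exact h2
  have hh2 : m * h' * m⁻¹ ∈ D.diagonalSubgroup F :=
    ((Subgroup.mem_set_normalizer_iff.1 (hNH hmN)) h').1 hh'
  have e4 : g = (m * u' * m⁻¹) * (m * h' * m⁻¹) := by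
    have : g = m * (m⁻¹ * g * m) * m⁻¹ := by group
    rw [this, e2]
    group
  have hv1 : m * u' * m⁻¹ = 1 := by
    have h1 : m * u' * m⁻¹ = g * (m * h' * m⁻¹)⁻¹ := by
      rw [e4]
      group
    have h2 : m * u' * m⁻¹ ∈ D.borelSubgroup F ⊓ D.negUnipotent F := by
      refine Subgroup.mem_inf.2 ⟨?_, hv⟩
      rw [h1]
      exact mul_mem hgB (Subgroup.mem_sup_right (inv_mem hh2))
    rw [borel_inf_negUnipotent D hD', Subgroup.mem_bot] at h2
    exact h2
  have hgH : g ∈ D.diagonalSubgroup F := by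
    rw [e4, hv1, one_mul]
    exact hh2
  -- an element of `H` commuting with all `x_s(1)` is trivial
  obtain ⟨d, hd, hgd⟩ := diagonalSubgroup_le_gradedTorus D hD' hgH
  apply Units.ext
  rw [hgd, Units.val_one, torus_eq_one_iff]
  intro s hs
  obtain ⟨z, hz⟩ := exists_xGL (F := F) D hD s hs 1
  obtain ⟨z₂, hz₂⟩ := exists_xGL (F := F) D hD s hs (d s * 1)
  have h1 : z₂ * g = g * z := by
    apply Units.ext
    rw [Units.val_mul, Units.val_mul, hz₂, hgd, hz, torus_mul_x D d hd s hs]
  rw [hc s z hs (Or.inl hz)] at h1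
  have h2 : z₂ = z := mul_right_cancel h1
  have h3 : D.x F s (d s * 1) = D.x F s 1 := by rw [← hz₂, ← hz, h2]
  have h4 := x_inj D hD s hs _ _ h3
  rw [mul_one] at h4
  exact h4

end

end Cfsg.Agent.Lib.Helper25
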