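import Cfsg.Agent.Lib.Helper24.GradeData
import Cfsg.Agent.Lib.Helper24.ChevTriData
import Cfsg.Agent.Lib.Helper25.ChevBN

set_option autoImplicit false

namespace Cfsg.Agent.Lib.Helper25

open Cfsg.Lie Matrix
open Cfsg.Agent.Lib.Helper24

/-! ### Gradings of the coordinate module by additive weights of the roots -/

/-- The level of a coordinate for a weight `w` of the roots. -/
def lvl (D : ChevalleyDatum) (w : ℕ → ℤ) : D.Idx → ℤ
  | Sum.inl _ => 0
  | Sum.inr s => w s.val

theorem cent_mult_pos (D : ChevalleyDatum) (r s : ℕ) (e : ℕ × ℕ × ℤ) (he : e ∈ cent D r s) :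
    1 ≤ e.2.1 := by
  unfold cent at he
  rw [List.mem_flatMap] at he
  obtain ⟨e', _, hq⟩ := he
  rw [List.mem_map] at hq
  obtain ⟨q, _, rfl⟩ := hq
  exact Nat.le_add_left 1 q.2

/-- The targets of the chain table are roots. -/
theorem cent_lt (D : ChevalleyDatum) (hD : D ∈ chevList) (r : ℕ) (hr : r < D.nroots) (s : ℕ)
    (e : ℕ × ℕ × ℤ) (he : e ∈ cent D r s) : e.1 < D.nroots := by
  have hg := gradeChk_of_mem D hD
  unfold gradeChk at hg
  rw [natAll_iff] at hg
  have hgi := hg 0 (rank_pos_of_mem D hD)
  unfold gradeChkI at hgi
  dsimp only at hgi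
  rw [natAll_iff] at hgi
  have h1 := hgi r hr
  rw [brec_eq] at h1
  by_cases h2 : intBeq (cslot D 0 (slot 8 (NEG D) r)) (Int.neg (cslot D 0 r)) = true
  · rw [if_pos h2] at h1
    unfold cent at he
    rw [List.mem_flatMap] at he
    obtain ⟨e', he', hq⟩ := he
    rw [List.mem_filter, decide_eq_true_eq] at he'
    obtain ⟨he'1, he'2⟩ := he'
    rw [List.mem_map] at hq
    obtain ⟨q, hq, rfl⟩ := hq
    have hq' : (q.1, q.2) ∈ e'.2.toList.zipIdx := hq
    rw [List.mk_mem_zipIdx_iff_getElem?] at hq'
    have h3 := rowGChk_sound _ _ _ _ h1 e' he'1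
    exact (entChk_sound _ _ _ _ _ h3 q.2 q.1 hq').1
  · rw [if_neg h2] at h1
    exact absurd h1 (by simp)

section

variable {F : Type*} [Field F]

/-- The non-zero entries of `x_r(t)` off the diagonal raise the level by a positive multiple of
the weight of `r`. -/
theorem x_entry_graded (D : ChevalleyDatum) (w : ℕ → ℤ) (hw : AddGraded D w) (r : ℕ)
    (hr : r < D.nroots) (hn : D.neg r < D.nroots) (hne : D.neg r ≠ r) (t : F) (a b : D.Idx)
    (h : D.x F r t a b ≠ 0) :
    a = b ∨ ∃ k : ℕ, 1 ≤ k ∧ lvl D w a = lvl D w b + (k : ℤ) * w r := by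
  rcases b with i | s
  · have hcol : D.x F r t a (Sum.inl i) =
        (hv F D i.val - (((D.cartan i.val r : ℤ) : F) * t) • rv F D r) a := by
      have := congrFun (x_mulVec_hv (F := F) D r hr t i.val i.isLt) a
      rw [mulVec_hv D _ i.val i.isLt] at this
      exact this
    rw [hcol] at h
    rcases a with i' | u
    · left
      by_contra hne'
      apply h
      have h1 : i'.val ≠ i.val := fun hh => hne' (by rw [Fin.ext hh])
      simp [hv, rv, h1]
    · right
      refine ⟨1, le_rfl, ?_⟩
      by_cases hu : u.val = r
      · show w u.val = 0 + ((1 : ℕ) : ℤ) * w r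
        rw [hu]
        simp
      · exfalso
        apply h
        simp [hv, rv, hu]
  · by_cases h1 : s.val = r
    · have hcol : D.x F r t a (Sum.inr s) = rv F D r a := by
        have := congrFun (x_mulVec_rv_self (F := F) D r hr t) a
        rw [mulVec_rv D _ r hr] at this
        have hs' : (⟨r, hr⟩ : Fin D.nroots) = s := Fin.ext h1.symm
        rw [hs'] at this
        exact this
      rw [hcol] at h
      left
      rcases a with i' | u
      · exact absurd rfl h
      · by_cases hu : u.val = r
        · congr 1
          exact Fin.ext (hu.trans h1.symm)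
        · exfalso
          apply h
          simp [rv, hu]
    · by_cases h2 : s.val = D.neg r
      · have hcol : D.x F r t a (Sum.inr s) = (rv F D (D.neg r) +
            ((List.range D.rank).map fun i => (((corootC D r i : ℤ) : F) * t) • hv F D i).sum -
            (t ^ 2) • rv F D r) a := by
          have := congrFun (x_mulVec_rv_neg (F := F) D r hr t hn hne) a
          rw [mulVec_rv D _ (D.neg r) hn] at this
          have hs' : (⟨D.neg r, hn⟩ : Fin D.nroots) = s := Fin.ext h2.symm
          rw [hs'] at this
          exact this
        rw [hcol] at h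
        rcases a with i' | u
        · right
          refine ⟨1, le_rfl, ?_⟩
          show (0 : ℤ) = w s.val + ((1 : ℕ) : ℤ) * w r
          rw [h2, hw.neg r hr]
          simp
        · by_cases hu : u.val = D.neg r
          · left
            congr 1
            exact Fin.ext (hu.trans h2.symm)
          · by_cases hu2 : u.val = r
            · right
              refine ⟨2, by norm_num, ?_⟩
              show w u.val = w s.val + ((2 : ℕ) : ℤ) * w r
              rw [hu2, h2, hw.neg r hr]
              push_cast
              ring
            · exfalso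
              apply h
              rw [Pi.sub_apply, Pi.add_apply, sum_range_hv]
              simp [rv, hu, hu2]
      · have hcol : D.x F r t a (Sum.inr s) = (rv F D s.val +
            ((cent D r s.val).map fun e => (((e.2.2 : ℤ) : F) * t ^ e.2.1) • rv F D e.1).sum) a := by
          have := congrFun (x_mulVec_rv (F := F) D r hr t s.val s.isLt h1 h2) a
          rw [mulVec_rv D _ s.val s.isLt] at this
          exact this
        rw [hcol] at h
        rcases a with i' | u
        · exfalso
          apply h
          rw [Pi.add_apply, sum_rv_apply_inl]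
          simp [rv]
        · by_cases hu : u.val = s.val
          · left
            congr 1
            exact Fin.ext hu
          · right
            rw [Pi.add_apply, sum_rv_apply] at h
            have h0 : rv F D s.val (Sum.inr u) = 0 := by simp [rv, hu]
            rw [h0, zero_add] at h
            obtain ⟨e, he, heu⟩ : ∃ e ∈ cent D r s.val, u.val = e.1 := by
              by_contra hcon
              push Not at hcon
              apply h
              apply List.sum_eq_zero
              intro x hx
              rw [List.mem_map] at hx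
              obtain ⟨e, he, rfl⟩ := hx
              rw [if_neg (hcon e he), mul_zero]
            refine ⟨e.2.1, cent_mult_pos D r s.val e he, ?_⟩
            show w u.val = w s.val + (e.2.1 : ℤ) * w r
            rw [heu]
            exact hw.chain r hr s.val e he

end

/-! ### Triangular and block diagonal matrices for a level function -/

section

variable {ι : Type*} [Fintype ι] [DecidableEq ι] {R : Type*} [CommRing R]

/-- Diagonal entries are `1` and the other non-zero entries raise the level by more than `d`. -/
def UpT (lv : ι → ℤ) (d : ℤ) (M : Matrix ι ι R) : Prop :=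
  (∀ a, M a a = 1) ∧ ∀ a b, M a b ≠ 0 → a = b ∨ lv b + d < lv a

theorem upT_one (lv : ι → ℤ) (d : ℤ) : UpT lv d (1 : Matrix ι ι R) := by
  refine ⟨fun a => Matrix.one_apply_eq a, fun a b h => ?_⟩
  left
  by_contra hab
  exact h (Matrix.one_apply_ne hab)

theorem UpT.mul {lv : ι → ℤ} {d : ℤ} (hd : 0 ≤ d) {M N : Matrix ι ι R} (hM : UpT lv d M)
    (hN : UpT lv d N) : UpT lv d (M * N) := by
  constructor
  · intro a
    rw [Matrix.mul_apply, Finset.sum_eq_single a]
    · rw [hM.1 a, hN.1 a, one_mul]
    · intro b _ hba
      by_contra hne
      have h1 : M a b ≠ 0 := left_ne_zero_of_mul hne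
      have h2 : N b a ≠ 0 := right_ne_zero_of_mul hne
      rcases hM.2 a b h1 with e | e
      · exact hba e.symm
      · rcases hN.2 b a h2 with e' | e'
        · exact hba e'
        · omega
    · intro h
      exact absurd (Finset.mem_univ a) h
  · intro a c h
    rw [Matrix.mul_apply] at h
    obtain ⟨b, _, hb⟩ := Finset.exists_ne_zero_of_sum_ne_zero h
    have h1 : M a b ≠ 0 := left_ne_zero_of_mul hb
    have h2 : N b c ≠ 0 := right_ne_zero_of_mul hb
    rcases hM.2 a b h1 with e | e
    · rcases hN.2 b c h2 with e' | e'
      · left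
        rw [e, e']
      · right
        rw [e]
        exact e'
    · rcases hN.2 b c h2 with e' | e'
      · right
        rw [← e']
        exact e
      · right
        omega

/-- Non-zero entries preserve the level. -/
def BlkD (lv : ι → ℤ) (M : Matrix ι ι R) : Prop := ∀ a b, M a b ≠ 0 → lv a = lv b

theorem blkD_one (lv : ι → ℤ) : BlkD lv (1 : Matrix ι ι R) := by
  intro a b h
  by_contra hab
  have : a ≠ b := fun e => hab (by rw [e])
  exact h (Matrix.one_apply_ne this)

theorem BlkD.mul {lv : ι → ℤ} {M N : Matrix ι ι R} (hM : BlkD lv M) (hN : BlkD lv N) :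
    BlkD lv (M * N) := by
  intro a c h
  rw [Matrix.mul_apply] at h
  obtain ⟨b, _, hb⟩ := Finset.exists_ne_zero_of_sum_ne_zero h
  rw [hM a b (left_ne_zero_of_mul hb), hN b c (right_ne_zero_of_mul hb)]

end

/-- A property of group elements that holds for `1`, is closed under products, and holds for the
generators and their inverses, holds on the subgroup generated. -/
theorem closure_pred {G : Type*} [Group G] (S : Set G) (P : G → Prop) (h1 : P 1)
    (hmul : ∀ a b, P a → P b → P (a * b)) (hS : ∀ g ∈ S, P g ∧ P g⁻¹) :
    ∀ g ∈ Subgroup.closure S, P g := by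
  intro g hg
  have : P g ∧ P g⁻¹ := by
    induction hg using Subgroup.closure_induction with
    | mem x hx => exact hS x hx
    | one => exact ⟨h1, by rw [inv_one]; exact h1⟩
    | mul x y _ _ hx hy =>
      exact ⟨hmul _ _ hx.1 hy.1, by rw [_root_.mul_inv_rev]; exact hmul _ _ hy.2 hx.2⟩
    | inv x _ hx => exact ⟨hx.2, by rw [inv_inv]; exact hx.1⟩
  exact this.1

section

variable {F : Type*} [Field F]

/-- A positive root element is unitriangular for the level of a weight that is larger than `d`
at the root. -/
theorem x_upT (D : ChevalleyDatum)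
    (hD : D ∈ [chevG2, chevB2, chevD4, chevF4, chevE6, chevE7, chevE8]) (w : ℕ → ℤ)
    (hw : AddGraded D w) (r : ℕ) (hr : D.IsPosRoot r) (d : ℤ) (hd0 : 0 ≤ d) (hd : d < w r)
    (t : F) : UpT (lvl D w) d (D.x F r t) := by
  have hD' : D ∈ chevList := hD
  have hs := sign_facts D hD r hr.1
  have hn : D.neg r < D.nroots := neg_lt_of_preChk D (preChk_of_mem D hD') r hr.1
  have hne : D.neg r ≠ r := by
    intro e
    have h1 := hs.2.2.2.1 hr
    rw [e] at h1
    exact hs.2.1 ⟨hr, h1⟩
  constructor
  · intro a
    have h1 := x_strictTri (F := F) D (triChk_of_mem D hD') r hr t a a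
    by_contra h2
    have h3 : (D.x F r t - 1) a a ≠ 0 := by
      rw [Matrix.sub_apply, Matrix.one_apply_eq]
      exact sub_ne_zero.2 h2
    have := h1 h3
    omega
  · intro a b h
    rcases x_entry_graded D w hw r hr.1 hn hne t a b h with e | ⟨k, hk, e⟩
    · exact Or.inl e
    · right
      rw [e]
      have hk' : (1 : ℤ) ≤ (k : ℤ) := by exact_mod_cast hk
      nlinarith

/-- A root element of a root of weight `0` is block diagonal for the level of the weight. -/
theorem x_blkD (D : ChevalleyDatum)
    (hD : D ∈ [chevG2, chevB2, chevD4, chevF4, chevE6, chevE7, chevE8]) (w : ℕ → ℤ)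
    (hw : AddGraded D w) (r : ℕ) (hr : r < D.nroots) (h0 : w r = 0) (t : F) :
    BlkD (lvl D w) (D.x F r t) := by
  have hD' : D ∈ chevList := hD
  have hs := sign_facts D hD r hr
  have hn : D.neg r < D.nroots := neg_lt_of_preChk D (preChk_of_mem D hD') r hr
  have hne : D.neg r ≠ r := by
    intro e
    rcases hs.1 with hp | hp
    · have h1 := hs.2.2.2.1 hp
      rw [e] at h1
      exact hs.2.1 ⟨hp, h1⟩
    · have h1 := hs.2.2.1.1 hp
      rw [e] at h1
      exact hs.2.1 ⟨h1, hp⟩
  intro a b h
  rcases x_entry_graded D w hw r hr hn hne t a b h with e | ⟨k, _, e⟩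
  · rw [e]
  · rw [e, h0, mul_zero, add_zero]

end

/-! ### The coweights: additive weights computing the coefficients of a root -/

/-- The `k`-th coefficient of the root `s` on the fundamental roots, times a positive constant:
`∑ B_{k,i} A_{p_i, s}` for `B` a positive multiple of the inverse of the Cartan matrix. -/
def coW (B : List (List ℤ)) (D : ChevalleyDatum) (k s : ℕ) : ℤ :=
  ((List.range D.rank).map fun i => (B.getD k []).getD i 0 * D.cartan i s).sum

theorem addGraded_coW (B : List (List ℤ)) (D : ChevalleyDatum) (hD : D ∈ chevList) (k : ℕ) :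
    AddGraded D (coW B D k) :=
  addGraded_list_sum (D := D) (List.range D.rank) (fun i => (B.getD k []).getD i 0)
    (fun i s => D.cartan i s) (fun i hi => addGraded_cartan D hD i (List.mem_range.1 hi))

/-- The signs of the coweights are the signs of the coefficients of the coroot. -/
def cwChk (B : List (List ℤ)) (D : ChevalleyDatum) : Bool :=
  (List.range D.nroots).all fun s => (List.range D.rank).all fun k =>
    (decide (0 < coW B D k s) == decide (0 < corootC D s k)) &&
      (decide (coW B D k s < 0) == decide (corootC D s k < 0))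

theorem cwChk_spec (B : List (List ℤ)) (D : ChevalleyDatum) (h : cwChk B D = true) (s : ℕ)
    (hs : s < D.nroots) (k : ℕ) (hk : k < D.rank) :
    (0 < coW B D k s ↔ 0 < corootC D s k) ∧ (coW B D k s < 0 ↔ corootC D s k < 0) := by
  unfold cwChk at h
  simp only [List.all_eq_true, List.mem_range, Bool.and_eq_true, beq_iff_eq,
    decide_eq_decide] at h
  exact h s hs k hk

end Cfsg.Agent.Lib.Helper25
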