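import Cfsg.Agent.Lib.Helper25.ChevGr

set_option autoImplicit false

namespace Cfsg.Agent.Lib.Helper25

open Cfsg.Lie
open Cfsg.Agent.Lib.Helper24

/-! ### The coweights of the seven data: multiples of the inverse Cartan matrices -/

def cwG2 : List (List ℤ) := [[2, 3], [1, 2]]
def cwB2 : List (List ℤ) := [[2, 2], [1, 2]]
def cwD4 : List (List ℤ) := [[2, 2, 1, 1], [2, 4, 2, 2], [1, 2, 2, 1], [1, 2, 1, 2]]
def cwF4 : List (List ℤ) := [[2, 3, 4, 2], [3, 6, 8, 4], [2, 4, 6, 3], [1, 2, 3, 2]]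
def cwE6 : List (List ℤ) := [[4, 3, 5, 6, 4, 2], [3, 6, 6, 9, 6, 3], [5, 6, 10, 12, 8, 4],
  [6, 9, 12, 18, 12, 6], [4, 6, 8, 12, 10, 5], [2, 3, 4, 6, 5, 4]]
def cwE7 : List (List ℤ) := [[4, 4, 6, 8, 6, 4, 2], [4, 7, 8, 12, 9, 6, 3],
  [6, 8, 12, 16, 12, 8, 4], [8, 12, 16, 24, 18, 12, 6], [6, 9, 12, 18, 15, 10, 5],
  [4, 6, 8, 12, 10, 8, 4], [2, 3, 4, 6, 5, 4, 3]]
def cwE8 : List (List ℤ) := [[4, 5, 7, 10, 8, 6, 4, 2], [5, 8, 10, 15, 12, 9, 6, 3],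
  [7, 10, 14, 20, 16, 12, 8, 4], [10, 15, 20, 30, 24, 18, 12, 6], [8, 12, 16, 24, 20, 15, 10, 5],
  [6, 9, 12, 18, 15, 12, 8, 4], [4, 6, 8, 12, 10, 8, 6, 3], [2, 3, 4, 6, 5, 4, 3, 2]]

set_option maxRecDepth 1000000 in
theorem cwChk_G2 : cwChk cwG2 chevG2 = true := by decide +kernel
set_option maxRecDepth 1000000 in
theorem cwChk_B2 : cwChk cwB2 chevB2 = true := by decide +kernel
set_option maxRecDepth 1000000 in
theorem cwChk_D4 : cwChk cwD4 chevD4 = true := by decide +kernel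
set_option maxRecDepth 1000000 in
theorem cwChk_F4 : cwChk cwF4 chevF4 = true := by decide +kernel
set_option maxRecDepth 1000000 in
theorem cwChk_E6 : cwChk cwE6 chevE6 = true := by decide +kernel
set_option maxRecDepth 1000000 in
theorem cwChk_E7 : cwChk cwE7 chevE7 = true := by decide +kernel
set_option maxRecDepth 1000000 in
theorem cwChk_E8 : cwChk cwE8 chevE8 = true := by decide +kernel

/-- Coweights with the right signs exist for every datum. -/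
theorem exists_cw (D : ChevalleyDatum)
    (hD : D ∈ [chevG2, chevB2, chevD4, chevF4, chevE6, chevE7, chevE8]) :
    ∃ B : List (List ℤ), cwChk B D = true := by
  simp only [List.mem_cons, List.not_mem_nil, or_false] at hD
  rcases hD with rfl | rfl | rfl | rfl | rfl | rfl | rfl
  · exact ⟨cwG2, cwChk_G2⟩
  · exact ⟨cwB2, cwChk_B2⟩
  · exact ⟨cwD4, cwChk_D4⟩
  · exact ⟨cwF4, cwChk_F4⟩
  · exact ⟨cwE6, cwChk_E6⟩
  · exact ⟨cwE7, cwChk_E7⟩
  · exact ⟨cwE8, cwChk_E8⟩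

end Cfsg.Agent.Lib.Helper25
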