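import Cfsg.Agent.Lib.Helper25.ChevLeviN
import Cfsg.Agent.Lib.Helper25.ChevOrbData

/-!
# Leading terms of conjugates of positive root elements
-/

set_option autoImplicit false

namespace Cfsg.Agent.Lib.Helper25

open Cfsg.Lie Matrix
open Cfsg.Agent.Lib.Helper24

/-- The negative of the negative of a root is the root. -/
def negChk (D : ChevalleyDatum) : Bool :=
  (List.range D.nroots).all fun r => D.neg (D.neg r) == r

/-- Every root has a Cartan integer or a coroot coefficient equal to `±1`. -/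
def unitChk (D : ChevalleyDatum) : Bool :=
  (List.range D.nroots).all fun r => (List.range D.rank).any fun i =>
    D.cartan i r == 1 || D.cartan i r == -1 || corootC D r i == 1 || corootC D r i == -1

/-- For distinct fundamental roots `p_j`, `p_i` there is a positive root `r` involving `p_i`,
moved by the reflection in `p_j`, with `r + p_j` a root. -/
def linkChk (D : ChevalleyDatum) : Bool :=
  (List.range D.rank).all fun j => (List.range D.rank).all fun i => i == j ||
    (List.range D.nroots).any fun r => decide (D.IsPosRoot r) && corootC D r i != 0 &&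
      D.reflectRoot j r != r && (cent D (D.simple j) r).any fun e => e.2.1 == 1

/-- Every positive root is fundamental or the sum of a positive root and a fundamental root. -/
def bldChk (D : ChevalleyDatum) : Bool :=
  (List.range D.nroots).all fun s => !decide (D.IsPosRoot s) ||
    (List.range D.rank).any (fun i => s == D.simple i) ||
    (List.range D.rank).any fun j => (List.range D.nroots).any fun s' =>
      decide (D.IsPosRoot s') && (cent D (D.simple j) s').any fun e => e.1 == s && e.2.1 == 1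

/-- The table conditions used for the leading terms. -/
structure LTData (D : ChevalleyDatum) : Prop where
  neg : negChk D = true
  unit : unitChk D = true
  link : linkChk D = true
  bld : bldChk D = true

theorem LTData.neg_neg {D : ChevalleyDatum} (h : LTData D) (r : ℕ) (hr : r < D.nroots) :
    D.neg (D.neg r) = r := by
  have h1 := h.neg
  unfold negChk at h1
  simp only [List.all_eq_true, List.mem_range, beq_iff_eq] at h1
  exact h1 r hr

theorem LTData.exists_unit {D : ChevalleyDatum} (h : LTData D) (F : Type*) [Field F] (r : ℕ)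
    (hr : r < D.nroots) :
    ∃ i < D.rank, ((D.cartan i r : ℤ) : F) ≠ 0 ∨ ((corootC D r i : ℤ) : F) ≠ 0 := by
  have h1 := h.unit
  unfold unitChk at h1
  simp only [List.all_eq_true, List.mem_range, List.any_eq_true, Bool.or_eq_true,
    beq_iff_eq] at h1
  obtain ⟨i, hi, hh⟩ := h1 r hr
  refine ⟨i, hi, ?_⟩
  rcases hh with ((h2 | h2) | h2) | h2
  · left; rw [h2]; simp
  · left; rw [h2]; simp
  · right; rw [h2]; simp
  · right; rw [h2]; simp

theorem LTData.exists_link {D : ChevalleyDatum} (h : LTData D) (j i : ℕ) (hj : j < D.rank)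
    (hi : i < D.rank) (hij : i ≠ j) :
    ∃ r, D.IsPosRoot r ∧ corootC D r i ≠ 0 ∧ D.reflectRoot j r ≠ r ∧
      ∃ e ∈ cent D (D.simple j) r, e.2.1 = 1 := by
  have h1 := h.link
  unfold linkChk at h1
  simp only [List.all_eq_true, List.mem_range, List.any_eq_true, Bool.or_eq_true,
    Bool.and_eq_true, beq_iff_eq, bne_iff_ne, ne_eq, decide_eq_true_eq] at h1
  rcases h1 j hj i hi with h2 | ⟨r, _, ⟨⟨hp, hc⟩, hrf⟩, e, he, he1⟩
  · exact absurd h2 hij
  · exact ⟨r, hp, hc, hrf, e, he, he1⟩

theorem LTData.exists_bld {D : ChevalleyDatum} (h : LTData D) (s : ℕ) (hs : D.IsPosRoot s) :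
    (∃ i < D.rank, s = D.simple i) ∨ ∃ j < D.rank, ∃ s', D.IsPosRoot s' ∧
      ∃ e ∈ cent D (D.simple j) s', e.1 = s ∧ e.2.1 = 1 := by
  have h1 := h.bld
  unfold bldChk at h1
  simp only [List.all_eq_true, List.mem_range, List.any_eq_true, Bool.or_eq_true,
    Bool.and_eq_true, beq_iff_eq, Bool.not_eq_true', decide_eq_false_iff_not,
    decide_eq_true_eq] at h1
  rcases h1 s hs.1 with (h2 | ⟨i, hi, h2⟩) | ⟨j, hj, s', _, hp, e, he, he1, he2⟩
  · exact absurd hs h2
  · exact Or.inl ⟨i, hi, h2⟩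
  · exact Or.inr ⟨j, hj, s', hp, e, he, he1, he2⟩

section

variable {F : Type*} [Field F]

/-- No root lies in the empty root subsystem. -/
theorem not_inRootSub_empty (D : ChevalleyDatum)
    (hD : D ∈ [chevG2, chevB2, chevD4, chevF4, chevE6, chevE7, chevE8]) (r : ℕ)
    (hr : r < D.nroots) : ¬ D.InRootSub ∅ r := by
  intro h
  obtain ⟨i, hi, L, -, -, hne⟩ := orb_all D hD r hr
  exact hne i (by simp) (h.2 i hi (by simp))

/-- A height: an additive weight that is positive on the positive roots. -/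
theorem exists_height (D : ChevalleyDatum)
    (hD : D ∈ [chevG2, chevB2, chevD4, chevF4, chevE6, chevE7, chevE8]) :
    ∃ w : ℕ → ℤ, AddGraded D w ∧ ∀ r, D.IsPosRoot r → 0 < w r := by
  have hD' : D ∈ chevList := hD
  obtain ⟨B, hB⟩ := exists_cw D hD
  exact ⟨wJ B D ∅, addGraded_wJ B D hD' ∅,
    fun r hr => wJ_pos B D hB ∅ r hr (not_inRootSub_empty D hD r hr.1)⟩

/-- The elements of `U` are unitriangular for the level of a height. -/
theorem posUnipotent_upT (D : ChevalleyDatum)
    (hD : D ∈ [chevG2, chevB2, chevD4, chevF4, chevE6, chevE7, chevE8]) (w : ℕ → ℤ)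
    (hw : AddGraded D w) (hpos : ∀ r, D.IsPosRoot r → 0 < w r) (g : GL D.Idx F)
    (hg : g ∈ D.posUnipotent F) : UpT (lvl D w) 0 (g : Matrix D.Idx D.Idx F) := by
  unfold ChevalleyDatum.posUnipotent at hg
  refine closure_pred _ (fun g : GL D.Idx F => UpT (lvl D w) 0 (g : Matrix D.Idx D.Idx F))
    ?_ ?_ ?_ g hg
  · show UpT _ 0 ((1 : GL D.Idx F) : Matrix D.Idx D.Idx F)
    rw [Units.val_one]
    exact upT_one _ _
  · intro a b ha hb
    show UpT _ 0 ((a * b : GL D.Idx F) : Matrix D.Idx D.Idx F)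
    rw [Units.val_mul]
    exact ha.mul le_rfl hb
  · rintro x ⟨r, t, hr, hx⟩
    constructor
    · show UpT _ 0 (x : Matrix D.Idx D.Idx F)
      rw [hx]
      exact x_upT D hD _ hw r hr 0 le_rfl (hpos r hr) t
    · show UpT _ 0 ((x⁻¹ : GL D.Idx F) : Matrix D.Idx D.Idx F)
      rw [xGL_inv D hD r hr.1 t x hx]
      exact x_upT D hD _ hw r hr 0 le_rfl (hpos r hr) (-t)

/-- The leading term of a conjugate of a positive root element, read off the column of `h_i`. -/
theorem lt_cartan (D : ChevalleyDatum)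
    (hD : D ∈ [chevG2, chevB2, chevD4, chevF4, chevE6, chevE7, chevE8]) (w : ℕ → ℤ)
    (hw : AddGraded D w) (u : Matrix D.Idx D.Idx F) (hu : UpT (lvl D w) 0 u) (r r' : ℕ)
    (hr : D.IsPosRoot r) (hr' : D.IsPosRoot r') (hwr : 0 < w r) (hww : w r ≤ w r') (c c' : F)
    (h : u * D.x F r c = D.x F r' c' * u) (i : ℕ) (hi : i < D.rank) :
    ((D.cartan i r : ℤ) : F) * c = if r = r' then ((D.cartan i r : ℤ) : F) * c' else 0 := by
  have hD' : D ∈ chevList := hD
  have hx' : UpT (lvl D w) 0 (D.x F r' c') := x_upT D hD w hw r' hr' 0 le_rfl (by omega) c'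
  have hn' : D.neg r' < D.nroots := neg_lt_of_preChk D (preChk_of_mem D hD') r' hr'.1
  have hne' : D.neg r' ≠ r' := by
    have hs := sign_facts D hD r' hr'.1
    intro e
    have h1 := hs.2.2.2.1 hr'
    rw [e] at h1
    exact hs.2.1 ⟨hr', h1⟩
  have e : ((u * D.x F r c) *ᵥ hv F D i) (Sum.inr ⟨r, hr.1⟩) =
      ((D.x F r' c' * u) *ᵥ hv F D i) (Sum.inr ⟨r, hr.1⟩) := by rw [h]
  rw [← Matrix.mulVec_mulVec, ← Matrix.mulVec_mulVec, x_mulVec_hv D r hr.1 c i hi,
    Matrix.mulVec_sub, Matrix.mulVec_smul, Pi.sub_apply, Pi.smul_apply, mulVec_hv D u i hi,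
    mulVec_rv D u r hr.1, hu.1, smul_eq_mul, mul_one] at e
  have hR : (D.x F r' c' *ᵥ (u *ᵥ hv F D i)) (Sum.inr ⟨r, hr.1⟩) =
      D.x F r' c' (Sum.inr ⟨r, hr.1⟩) (Sum.inl ⟨i, hi⟩) +
        u (Sum.inr ⟨r, hr.1⟩) (Sum.inl ⟨i, hi⟩) := by
    show ∑ b, D.x F r' c' (Sum.inr ⟨r, hr.1⟩) b * (u *ᵥ hv F D i) b = _
    rw [Finset.sum_eq_add (Sum.inl ⟨i, hi⟩ : D.Idx) (Sum.inr ⟨r, hr.1⟩) (by simp)]
    · rw [mulVec_hv D u i hi, mulVec_hv D u i hi, hu.1, hx'.1, mul_one, one_mul]
    · intro b _ hb
      rw [mulVec_hv D u i hi]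
      by_contra hne
      have h1 := left_ne_zero_of_mul hne
      have h2 := right_ne_zero_of_mul hne
      rcases hu.2 b (Sum.inl ⟨i, hi⟩) h2 with e1 | e1
      · exact hb.1 e1
      · rcases x_entry_graded D w hw r' hr'.1 hn' hne' c' _ _ h1 with e2 | ⟨k, hk, e2⟩
        · exact hb.2 e2.symm
        · have e3 : lvl D w (Sum.inr ⟨r, hr.1⟩) = w r := rfl
          have e4 : lvl D w (Sum.inl ⟨i, hi⟩ : D.Idx) = 0 := rfl
          rw [e3] at e2
          rw [e4] at e1
          have hk' : (1 : ℤ) ≤ (k : ℤ) := by exact_mod_cast hk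
          nlinarith
    · intro hh
      exact absurd (Finset.mem_univ _) hh
    · intro hh
      exact absurd (Finset.mem_univ _) hh
  have hX : D.x F r' c' (Sum.inr ⟨r, hr.1⟩) (Sum.inl ⟨i, hi⟩) =
      -(((D.cartan i r' : ℤ) : F) * c' * if r = r' then 1 else 0) := by
    have h1 := congrFun (x_mulVec_hv D r' hr'.1 c' i hi) (Sum.inr ⟨r, hr.1⟩)
    rw [mulVec_hv D _ i hi] at h1
    rw [h1, Pi.sub_apply, Pi.smul_apply]
    show (0 : F) - ((D.cartan i r' : ℤ) : F) * c' * (if r = r' then 1 else 0) = _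
    ring
  rw [hR, hX] at e
  by_cases hrr : r = r'
  · subst hrr
    rw [if_pos rfl] at e ⊢
    linear_combination -e
  · rw [if_neg hrr] at e ⊢
    linear_combination -e

/-- The leading term of a conjugate of a positive root element, read off the column of
`e_{-r}`. -/
theorem lt_coroot (D : ChevalleyDatum)
    (hD : D ∈ [chevG2, chevB2, chevD4, chevF4, chevE6, chevE7, chevE8]) (hT : LTData D)
    (w : ℕ → ℤ) (hw : AddGraded D w) (u : Matrix D.Idx D.Idx F) (hu : UpT (lvl D w) 0 u)
    (r r' : ℕ) (hr : D.IsPosRoot r) (hr' : D.IsPosRoot r') (hwr : 0 < w r) (hww : w r ≤ w r')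
    (c c' : F) (h : u * D.x F r c = D.x F r' c' * u) (i : ℕ) (hi : i < D.rank) :
    ((corootC D r i : ℤ) : F) * c = if r = r' then ((corootC D r i : ℤ) : F) * c' else 0 := by
  have hD' : D ∈ chevList := hD
  have hx' : UpT (lvl D w) 0 (D.x F r' c') := x_upT D hD w hw r' hr' 0 le_rfl (by omega) c'
  have hn : D.neg r < D.nroots := neg_lt_of_preChk D (preChk_of_mem D hD') r hr.1
  have hn' : D.neg r' < D.nroots := neg_lt_of_preChk D (preChk_of_mem D hD') r' hr'.1
  have hne : D.neg r ≠ r := by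
    have hs := sign_facts D hD r hr.1
    intro e
    have h1 := hs.2.2.2.1 hr
    rw [e] at h1
    exact hs.2.1 ⟨hr, h1⟩
  have hne' : D.neg r' ≠ r' := by
    have hs := sign_facts D hD r' hr'.1
    intro e
    have h1 := hs.2.2.2.1 hr'
    rw [e] at h1
    exact hs.2.1 ⟨hr', h1⟩
  have hwn : w (D.neg r) = - w r := hw.neg r hr.1
  have e : ((u * D.x F r c) *ᵥ rv F D (D.neg r)) (Sum.inl ⟨i, hi⟩) =
      ((D.x F r' c' * u) *ᵥ rv F D (D.neg r)) (Sum.inl ⟨i, hi⟩) := by rw [h]
  rw [← Matrix.mulVec_mulVec, ← Matrix.mulVec_mulVec] at e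
  have hcol : ∀ b : D.Idx, (D.x F r c *ᵥ rv F D (D.neg r)) b =
      match b with
      | Sum.inl v => ((corootC D r v.val : ℤ) : F) * c
      | Sum.inr s => (if s.val = D.neg r then 1 else 0) - c ^ 2 * (if s.val = r then 1 else 0) := by
    intro b
    rw [x_mulVec_rv_neg D r hr.1 c hn hne, Pi.sub_apply, Pi.add_apply, sum_range_hv,
      Pi.smul_apply]
    rcases b with v | s
    · simp [rv, v.isLt]
    · simp [rv]
  have hL : (u *ᵥ (D.x F r c *ᵥ rv F D (D.neg r))) (Sum.inl ⟨i, hi⟩) =
      ((corootC D r i : ℤ) : F) * c + u (Sum.inl ⟨i, hi⟩) (Sum.inr ⟨D.neg r, hn⟩) := by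
    show ∑ b, u (Sum.inl ⟨i, hi⟩) b * (D.x F r c *ᵥ rv F D (D.neg r)) b = _
    rw [Finset.sum_eq_add (Sum.inl ⟨i, hi⟩ : D.Idx) (Sum.inr ⟨D.neg r, hn⟩) (by simp)]
    · rw [hu.1, one_mul, hcol, hcol]
      simp only [if_true]
      rw [if_neg hne]
      ring
    · intro b _ hb
      by_contra hne0
      have h1 := left_ne_zero_of_mul hne0
      have h2 := right_ne_zero_of_mul hne0
      rcases hu.2 _ b h1 with e1 | e1
      · exact hb.1 e1.symm
      · rcases b with j | s
        · have e3 : lvl D w (Sum.inl j : D.Idx) = 0 := rfl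
          have e4 : lvl D w (Sum.inl ⟨i, hi⟩ : D.Idx) = 0 := rfl
          rw [e3, e4] at e1
          omega
        · have e3 : lvl D w (Sum.inr s : D.Idx) = w s.val := rfl
          have e4 : lvl D w (Sum.inl ⟨i, hi⟩ : D.Idx) = 0 := rfl
          rw [e3, e4] at e1
          have hs1 : s.val ≠ D.neg r := by
            intro hh
            apply hb.2
            congr 1
            exact Fin.ext hh
          have hs2 : s.val ≠ r := by
            intro hh
            rw [hh] at e1
            omega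
          rw [hcol] at h2
          simp only [if_neg hs1, if_neg hs2] at h2
          simp at h2
    · intro hh
      exact absurd (Finset.mem_univ _) hh
    · intro hh
      exact absurd (Finset.mem_univ _) hh
  have hR : (D.x F r' c' *ᵥ (u *ᵥ rv F D (D.neg r))) (Sum.inl ⟨i, hi⟩) =
      u (Sum.inl ⟨i, hi⟩) (Sum.inr ⟨D.neg r, hn⟩) +
        D.x F r' c' (Sum.inl ⟨i, hi⟩) (Sum.inr ⟨D.neg r, hn⟩) := by
    show ∑ b, D.x F r' c' (Sum.inl ⟨i, hi⟩) b * (u *ᵥ rv F D (D.neg r)) b = _
    rw [Finset.sum_eq_add (Sum.inl ⟨i, hi⟩ : D.Idx) (Sum.inr ⟨D.neg r, hn⟩) (by simp)]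
    · rw [mulVec_rv D u _ hn, mulVec_rv D u _ hn, hx'.1, hu.1, one_mul, mul_one]
    · intro b _ hb
      rw [mulVec_rv D u _ hn]
      by_contra hne0
      have h1 := left_ne_zero_of_mul hne0
      have h2 := right_ne_zero_of_mul hne0
      rcases x_entry_graded D w hw r' hr'.1 hn' hne' c' _ _ h1 with e2 | ⟨k, hk, e2⟩
      · exact hb.1 e2.symm
      · rcases hu.2 b _ h2 with e1 | e1
        · exact hb.2 e1
        · have e3 : lvl D w (Sum.inl ⟨i, hi⟩ : D.Idx) = 0 := rfl
          have e4 : lvl D w (Sum.inr ⟨D.neg r, hn⟩ : D.Idx) = w (D.neg r) := rfl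
          rw [e3] at e2
          rw [e4, hwn] at e1
          have hk' : (1 : ℤ) ≤ (k : ℤ) := by exact_mod_cast hk
          nlinarith
    · intro hh
      exact absurd (Finset.mem_univ _) hh
    · intro hh
      exact absurd (Finset.mem_univ _) hh
  have hX : D.x F r' c' (Sum.inl ⟨i, hi⟩) (Sum.inr ⟨D.neg r, hn⟩) =
      if r = r' then ((corootC D r i : ℤ) : F) * c' else 0 := by
    by_cases hrr : r = r'
    · subst hrr
      rw [if_pos rfl]
      have h1 := congrFun (x_mulVec_rv_neg D r hr.1 c' hn hne) (Sum.inl ⟨i, hi⟩)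
      rw [mulVec_rv D _ _ hn] at h1
      rw [h1, Pi.sub_apply, Pi.add_apply, sum_range_hv, Pi.smul_apply]
      simp [rv, hi]
    · rw [if_neg hrr]
      have hs1 : D.neg r ≠ r' := by
        intro hh
        rw [hh] at hwn
        omega
      have hs2 : D.neg r ≠ D.neg r' := by
        intro hh
        apply hrr
        rw [← hT.neg_neg r hr.1, hh, hT.neg_neg r' hr'.1]
      have h1 := congrFun (x_mulVec_rv D r' hr'.1 c' (D.neg r) hn hs1 hs2) (Sum.inl ⟨i, hi⟩)
      rw [mulVec_rv D _ _ hn] at h1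
      rw [h1, Pi.add_apply, sum_rv_apply_inl]
      simp [rv]
  rw [hL, hR, hX] at e
  linear_combination e

/-- A conjugate under `U` of a positive root element that is again a root element of a root
which is not lower: the same root and the same parameter. -/
theorem lt_aux (D : ChevalleyDatum)
    (hD : D ∈ [chevG2, chevB2, chevD4, chevF4, chevE6, chevE7, chevE8]) (hT : LTData D)
    (w : ℕ → ℤ) (hw : AddGraded D w) (hpos : ∀ r, D.IsPosRoot r → 0 < w r) (u : GL D.Idx F)
    (hu : u ∈ D.posUnipotent F) (r r' : ℕ) (hr : D.IsPosRoot r) (hr' : D.IsPosRoot r')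
    (hww : w r ≤ w r') (c c' : F) (hc : c ≠ 0)
    (h : (u : Matrix D.Idx D.Idx F) * D.x F r c = D.x F r' c' * (u : Matrix D.Idx D.Idx F)) :
    r = r' ∧ c = c' := by
  have huT := posUnipotent_upT D hD w hw hpos u hu
  obtain ⟨i, hi, hA | hA⟩ := hT.exists_unit F r hr.1
  · have h1 := lt_cartan D hD w hw _ huT r r' hr hr' (hpos r hr) hww c c' h i hi
    by_cases hrr : r = r'
    · rw [if_pos hrr] at h1
      exact ⟨hrr, mul_left_cancel₀ hA h1⟩
    · rw [if_neg hrr] at h1
      rcases mul_eq_zero.1 h1 with h2 | h2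
      · exact absurd h2 hA
      · exact absurd h2 hc
  · have h1 := lt_coroot D hD hT w hw _ huT r r' hr hr' (hpos r hr) hww c c' h i hi
    by_cases hrr : r = r'
    · rw [if_pos hrr] at h1
      exact ⟨hrr, mul_left_cancel₀ hA h1⟩
    · rw [if_neg hrr] at h1
      rcases mul_eq_zero.1 h1 with h2 | h2
      · exact absurd h2 hA
      · exact absurd h2 hc

/-- A conjugate under `U` of a positive root element that is again a positive root element:
the same root and the same parameter. -/
theorem lt_main (D : ChevalleyDatum)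
    (hD : D ∈ [chevG2, chevB2, chevD4, chevF4, chevE6, chevE7, chevE8]) (hT : LTData D)
    (u : GL D.Idx F) (hu : u ∈ D.posUnipotent F) (r r' : ℕ) (hr : D.IsPosRoot r)
    (hr' : D.IsPosRoot r') (c c' : F) (hc : c ≠ 0)
    (h : (u : Matrix D.Idx D.Idx F) * D.x F r c = D.x F r' c' * (u : Matrix D.Idx D.Idx F)) :
    r = r' ∧ c = c' := by
  obtain ⟨w, hw, hpos⟩ := exists_height D hD
  by_cases hww : w r ≤ w r'
  · exact lt_aux D hD hT w hw hpos u hu r r' hr hr' hww c c' hc h
  · have hc' : c' ≠ 0 := by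
      intro h0
      rw [h0, Helper25.x_zero, Matrix.one_mul] at h
      have h2 : D.x F r c = 1 := by
        have h3 : ((u⁻¹ : GL D.Idx F) : Matrix D.Idx D.Idx F) *
            ((u : Matrix D.Idx D.Idx F) * D.x F r c) =
            ((u⁻¹ : GL D.Idx F) : Matrix D.Idx D.Idx F) * (u : Matrix D.Idx D.Idx F) := by
          rw [h]
        rw [← Matrix.mul_assoc, ← Units.val_mul, inv_mul_cancel, Units.val_one,
          Matrix.one_mul] at h3
        exact h3
      exact x_ne_one D hD r hr.1 c hc h2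
    have h' : ((u⁻¹ : GL D.Idx F) : Matrix D.Idx D.Idx F) * D.x F r' c' =
        D.x F r c * ((u⁻¹ : GL D.Idx F) : Matrix D.Idx D.Idx F) := by
      have h3 : ((u⁻¹ : GL D.Idx F) : Matrix D.Idx D.Idx F) *
          ((u : Matrix D.Idx D.Idx F) * D.x F r c) *
            ((u⁻¹ : GL D.Idx F) : Matrix D.Idx D.Idx F) =
          ((u⁻¹ : GL D.Idx F) : Matrix D.Idx D.Idx F) *
            (D.x F r' c' * (u : Matrix D.Idx D.Idx F)) *
              ((u⁻¹ : GL D.Idx F) : Matrix D.Idx D.Idx F) := by
        rw [h]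
      rw [← Matrix.mul_assoc, ← Units.val_mul, inv_mul_cancel, Units.val_one, Matrix.one_mul,
        Matrix.mul_assoc, Matrix.mul_assoc, ← Units.val_mul, mul_inv_cancel, Units.val_one,
        Matrix.mul_one] at h3
      exact h3.symm
    obtain ⟨e1, e2⟩ := lt_aux D hD hT w hw hpos u⁻¹ (inv_mem hu) r' r hr' hr (by omega) c' c hc' h'
    exact ⟨e1.symm, e2.symm⟩

/-- A multiplicative weight that is `1` on the fundamental roots is `1` on all roots. -/
theorem mulGraded_eq_one (D : ChevalleyDatum)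
    (hD : D ∈ [chevG2, chevB2, chevD4, chevF4, chevE6, chevE7, chevE8]) (hT : LTData D)
    (d : ℕ → F) (hd : MulGraded D d) (h1 : ∀ i < D.rank, d (D.simple i) = 1) :
    ∀ s < D.nroots, d s = 1 := by
  have hD' : D ∈ chevList := hD
  obtain ⟨w, hw, hpos⟩ := exists_height D hD
  have key : ∀ n : ℕ, ∀ s, D.IsPosRoot s → (w s).toNat = n → d s = 1 := by
    intro n
    induction n using Nat.strong_induction_on with
    | _ n ih =>
      intro s hs hn
      rcases hT.exists_bld s hs with ⟨i, hi, rfl⟩ | ⟨j, hj, s', hs', e, he, he1, he2⟩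
      · exact h1 i hi
      · have hpj := simple_lt D hD' j hj
        have hc := hd.chain (D.simple j) hpj s' e he
        have hwc := hw.chain (D.simple j) hpj s' e he
        rw [he1, he2, pow_one, h1 j hj, mul_one] at hc
        rw [he1, he2] at hwc
        rw [hc]
        have h2 := hpos s' hs'
        have h3 := hpos (D.simple j) (upChk_all D hD j hj).1
        apply ih (w s').toNat ?_ s' hs' rfl
        push_cast at hwc
        omega
  intro s hs
  obtain ⟨hp, -, hn, -⟩ := sign_facts D hD s hs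
  rcases hp with hp | hp
  · exact key _ s hp rfl
  · have h2 := key _ (D.neg s) (hn.1 hp) rfl
    have h3 := hd.neg s hs
    rw [h2, one_mul] at h3
    exact h3

end

end Cfsg.Agent.Lib.Helper25
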