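import Cfsg.Agent.Lib.Helper25.ChevCount
import Cfsg.Agent.Lib.Helper25.ChevW0

set_option autoImplicit false

namespace Cfsg.Agent.Lib.Helper25

open Cfsg.Lie Matrix
open Cfsg.Agent.Lib.Helper24

/-! ### The number of positive roots made negative: additivity along a parabolic chain -/

/-- The root `s` lies in the span of the first `m` fundamental roots. -/
def inSpan (D : ChevalleyDatum) (m s : ℕ) : Prop :=
  ∀ j, m ≤ j → j < D.rank → corootC D s j = 0

theorem inSpan_mono (D : ChevalleyDatum) (m m' s : ℕ) (h : m ≤ m') (hs : inSpan D m s) :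
    inSpan D m' s := fun j hj hjr => hs j (le_trans h hj) hjr

theorem inSpan_simple (D : ChevalleyDatum)
    (hD : D ∈ [chevG2, chevB2, chevD4, chevF4, chevE6, chevE7, chevE8]) (m i : ℕ) (hi : i < m)
    (hir : i < D.rank) : inSpan D m (D.simple i) := by
  have hD' : D ∈ chevList := hD
  intro j hj hjr
  rw [corootC_simple D hD' i hir j hjr, if_neg (by omega)]

/-- A fundamental reflection changes only its own coroot coordinate. -/
theorem coroot_reflect_ne (D : ChevalleyDatum)
    (hD : D ∈ [chevG2, chevB2, chevD4, chevF4, chevE6, chevE7, chevE8]) (i : ℕ) (hi : i < D.rank)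
    (s : ℕ) (hs : s < D.nroots) (j : ℕ) (hj : j < D.rank) (hji : j ≠ i) :
    corootC D (D.reflectRoot i s) j = corootC D s j := by
  rw [coroot_reflect D hD i hi s hs j hj]
  have e : ∀ k ∈ Finset.range D.rank, reflCF D i j k * corootC D s k =
      if j = k then corootC D s k else 0 := by
    intro k _
    unfold reflCF
    rw [if_neg hji, sub_zero]
    split_ifs <;> simp
  rw [Finset.sum_congr rfl e, Finset.sum_ite_eq, if_pos (Finset.mem_range.2 hj)]

theorem wPi_inSpan (D : ChevalleyDatum)
    (hD : D ∈ [chevG2, chevB2, chevD4, chevF4, chevE6, chevE7, chevE8]) (m : ℕ) (L : List ℕ)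
    (hL : ∀ i ∈ L, i < D.rank) (hLm : ∀ i ∈ L, i < m) (s : ℕ) (hs : s < D.nroots)
    (h : inSpan D m s) : inSpan D m (wPi D L s) := by
  induction L with
  | nil => exact h
  | cons i L ih =>
    have hL' : ∀ j ∈ L, j < D.rank := fun j hj => hL j (by simp [hj])
    have hi : i < D.rank := hL i (by simp)
    have him : i < m := hLm i (by simp)
    intro j hj hjr
    rw [wPi_cons, coroot_reflect_ne D hD i hi _ (wPi_lt D hD L hL' s hs) j hjr (by omega)]
    exact ih hL' (fun j hj => hLm j (by simp [hj])) j hj hjr

/-- A word in the first `m` fundamental reflections permutes the positive roots outside the span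
of the first `m` fundamental roots. -/
theorem wPi_pos_of_not_inSpan (D : ChevalleyDatum)
    (hD : D ∈ [chevG2, chevB2, chevD4, chevF4, chevE6, chevE7, chevE8]) (m : ℕ) (L : List ℕ)
    (hL : ∀ i ∈ L, i < D.rank) (hLm : ∀ i ∈ L, i < m) (s : ℕ) (hs : D.IsPosRoot s)
    (h : ¬ inSpan D m s) : D.IsPosRoot (wPi D L s) ∧ ¬ inSpan D m (wPi D L s) := by
  induction L with
  | nil => exact ⟨hs, h⟩
  | cons i L ih =>
    have hL' : ∀ j ∈ L, j < D.rank := fun j hj => hL j (by simp [hj])
    have hi : i < D.rank := hL i (by simp)
    have him : i < m := hLm i (by simp)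
    obtain ⟨h1, h2⟩ := ih hL' (fun j hj => hLm j (by simp [hj]))
    have hne : wPi D L s ≠ D.simple i := by
      intro e
      rw [e] at h2
      exact h2 (inSpan_simple D hD m i him hi)
    rw [wPi_cons]
    refine ⟨(reflect_pos D hD i hi _ h1 hne).1, ?_⟩
    intro h3
    apply h2
    intro j hj hjr
    rw [← coroot_reflect_ne D hD i hi _ h1.1 j hjr (by omega)]
    exact h3 j hj hjr

/-- A word mapping the first `m` fundamental roots to positive roots maps all positive roots in
their span to positive roots. -/
theorem wPi_pos_of_inSpan (D : ChevalleyDatum)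
    (hD : D ∈ [chevG2, chevB2, chevD4, chevF4, chevE6, chevE7, chevE8]) (m : ℕ) (L : List ℕ)
    (hL : ∀ i ∈ L, i < D.rank)
    (h : ∀ i < m, i < D.rank → D.IsPosRoot (wPi D L (D.simple i))) (s : ℕ) (hs : D.IsPosRoot s)
    (hsm : inSpan D m s) : D.IsPosRoot (wPi D L s) := by
  have hD' : D ∈ chevList := hD
  obtain ⟨M, hM⟩ := coroot_word D hD L hL
  have hMnn : ∀ j < D.rank, ∀ k < D.rank, k < m → 0 ≤ M j k := by
    intro j hj k hk hkm
    have h1 := hM (D.simple k) (simple_lt D hD' k hk) j hj
    have h2 : ∑ a ∈ Finset.range D.rank, M j a * corootC D (D.simple k) a = M j k := by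
      have e : ∀ a ∈ Finset.range D.rank, M j a * corootC D (D.simple k) a =
          if a = k then M j k else 0 := by
        intro a ha
        rw [corootC_simple D hD' k hk a (Finset.mem_range.1 ha)]
        by_cases hak : a = k
        · simp [hak]
        · simp [hak]
      rw [Finset.sum_congr rfl e, Finset.sum_ite_eq']
      simp [hk]
    rw [h2] at h1
    rw [← h1]
    exact corootC_nonneg D _ (h k hkm hk) j
  have hπ : wPi D L s < D.nroots := wPi_lt D hD L hL s hs.1
  have hnn : ∀ j < D.rank, 0 ≤ corootC D (wPi D L s) j := by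
    intro j hj
    rw [hM s hs.1 j hj]
    apply Finset.sum_nonneg
    intro k hk
    have hk' := Finset.mem_range.1 hk
    by_cases hkm : k < m
    · exact mul_nonneg (hMnn j hj k hk' hkm) (corootC_nonneg D s hs k)
    · rw [hsm k (by omega) hk', mul_zero]
  rcases (sign_facts D hD _ hπ).1 with hp | hn
  · exact hp
  · exfalso
    obtain ⟨j, hj, hne⟩ := coroot_ne_zero D hD _ hπ
    exact hne (le_antisymm (corootC_nonpos D _ hn j) (hnn j hj))

/-- Additivity: `N(u v) = N(u) + N(v)` for `u` in the parabolic subgroup of the first `m`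
fundamental reflections and `v` whose inverse keeps the positive roots of their span positive. -/
theorem negSet_append_card (D : ChevalleyDatum)
    (hD : D ∈ [chevG2, chevB2, chevD4, chevF4, chevE6, chevE7, chevE8]) (m : ℕ) (u v : List ℕ)
    (hu : ∀ i ∈ u, i < D.rank) (hum : ∀ i ∈ u, i < m) (hv : ∀ i ∈ v, i < D.rank)
    (Hv : ∀ s, D.IsPosRoot s → inSpan D m s → D.IsPosRoot (wPi D v.reverse s)) :
    (negSet D (u ++ v)).card = (negSet D u).card + (negSet D v).card := by
  have hvr : ∀ i ∈ v.reverse, i < D.rank := fun i hi => hv i (List.mem_reverse.1 hi)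
  have hcancel1 : ∀ s < D.nroots, wPi D v (wPi D v.reverse s) = s :=
    fun s hs => wPi_reverse_cancel D hD v hv s hs
  have hcancel2 : ∀ s < D.nroots, wPi D v.reverse (wPi D v s) = s := by
    intro s hs
    have := wPi_reverse_cancel D hD v.reverse hvr s hs
    rwa [List.reverse_reverse] at this
  have hsplit := Finset.card_filter_add_card_filter_not (s := negSet D (u ++ v))
    (fun r => D.IsNegRoot (wPi D v r))
  rw [← hsplit, add_comm]
  congr 1
  · -- the roots whose image under `v` is positive correspond to `N(u)`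
    apply Finset.card_nbij' (wPi D v) (wPi D v.reverse)
    · intro r hr
      rw [Finset.mem_coe, Finset.mem_filter] at hr
      obtain ⟨hr1, hr2⟩ := hr
      unfold negSet at hr1
      rw [Finset.mem_filter, wPi_append] at hr1
      have hπ := wPi_lt D hD v hv r hr1.2.1.1
      have hpos : D.IsPosRoot (wPi D v r) := by
        rcases (sign_facts D hD _ hπ).1 with h | h
        · exact h
        · exact absurd h hr2
      rw [Finset.mem_coe]
      unfold negSet
      rw [Finset.mem_filter]
      exact ⟨Finset.mem_range.2 hπ, hpos, hr1.2.2⟩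
    · intro s hs
      rw [Finset.mem_coe] at hs
      unfold negSet at hs
      rw [Finset.mem_filter] at hs
      obtain ⟨_, hs2, hs3⟩ := hs
      have hspan : inSpan D m s := by
        by_contra hns
        have := (wPi_pos_of_not_inSpan D hD m u hu hum s hs2 hns).1
        exact (sign_facts D hD _ this.1).2.1 ⟨this, hs3⟩
      have hpos := Hv s hs2 hspan
      rw [Finset.mem_coe, Finset.mem_filter]
      refine ⟨?_, ?_⟩
      · unfold negSet
        rw [Finset.mem_filter, wPi_append, hcancel1 s hs2.1]
        exact ⟨Finset.mem_range.2 hpos.1, hpos, hs3⟩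
      · rw [hcancel1 s hs2.1]
        intro hneg
        exact (sign_facts D hD _ hs2.1).2.1 ⟨hs2, hneg⟩
    · intro r hr
      rw [Finset.mem_coe, Finset.mem_filter] at hr
      have hr1 := hr.1
      unfold negSet at hr1
      rw [Finset.mem_filter] at hr1
      exact hcancel2 r hr1.2.1.1
    · intro s hs
      rw [Finset.mem_coe] at hs
      unfold negSet at hs
      rw [Finset.mem_filter] at hs
      exact hcancel1 s hs.2.1.1
  · -- the roots made negative by `v` stay negative under `u`
    congr 1
    ext r
    rw [Finset.mem_filter]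
    unfold negSet
    rw [Finset.mem_filter, Finset.mem_filter, wPi_append]
    constructor
    · rintro ⟨⟨h1, h2, _⟩, h4⟩
      exact ⟨h1, h2, h4⟩
    · rintro ⟨h1, h2, h3⟩
      refine ⟨⟨h1, h2, ?_⟩, h3⟩
      -- `- v r` is positive and outside the span
      have hn : D.neg r < D.nroots :=
        neg_lt_of_preChk D (preChk_of_mem D (show D ∈ chevList from hD)) r h2.1
      have hπ := wPi_lt D hD v hv r h2.1
      have hposn : D.IsPosRoot (wPi D v (D.neg r)) := by
        rw [wPi_neg D hD v hv r h2.1]
        exact (sign_facts D hD _ hπ).2.2.1.1 h3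
      have hns : ¬ inSpan D m (wPi D v (D.neg r)) := by
        intro hsp
        have := Hv _ hposn hsp
        rw [hcancel2 _ hn] at this
        have hnegn : D.IsNegRoot (D.neg r) := (sign_facts D hD r h2.1).2.2.2.1 h2
        exact (sign_facts D hD _ hn).2.1 ⟨this, hnegn⟩
      have h5 := (wPi_pos_of_not_inSpan D hD m u hu hum _ hposn hns).1
      rw [wPi_neg D hD v hv r h2.1, wPi_neg D hD u hu _ hπ] at h5
      exact (sign_facts D hD _ (wPi_lt D hD u hu _ hπ)).2.2.1.2 h5

/-- `N` of the empty word. -/
theorem negSet_nil (D : ChevalleyDatum)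
    (hD : D ∈ [chevG2, chevB2, chevD4, chevF4, chevE6, chevE7, chevE8]) :
    (negSet D []).card = 0 := by
  rw [Finset.card_eq_zero]
  apply Finset.eq_empty_of_forall_notMem
  intro r hr
  unfold negSet at hr
  rw [Finset.mem_filter] at hr
  exact (sign_facts D hD r hr.2.1.1).2.1 ⟨hr.2.1, hr.2.2⟩

/-- If `w_L` maps the fundamental root `p_i` to a positive root, then `w_L w_i` makes one more
positive root negative. -/
theorem negSet_snoc_card_pos (D : ChevalleyDatum)
    (hD : D ∈ [chevG2, chevB2, chevD4, chevF4, chevE6, chevE7, chevE8]) (L : List ℕ)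
    (hL : ∀ i ∈ L, i < D.rank) (i : ℕ) (hi : i < D.rank)
    (hpos : D.IsPosRoot (wPi D L (D.simple i))) :
    (negSet D (L ++ [i])).card = (negSet D L).card + 1 := by
  have hD' : D ∈ chevList := hD
  have hp : D.simple i < D.nroots := simple_lt D hD' i hi
  have hL' : ∀ j ∈ L ++ [i], j < D.rank := by
    intro j hj
    rcases List.mem_append.1 hj with h | h
    · exact hL j h
    · simp only [List.mem_cons, List.not_mem_nil, or_false] at h
      rw [h]
      exact hi
  have hrefl : D.reflectRoot i (D.simple i) = D.neg (D.simple i) := by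
    unfold ChevalleyDatum.reflectRoot
    simp
  have hneg : D.IsNegRoot (wPi D (L ++ [i]) (D.simple i)) := by
    rw [wPi_snoc, hrefl, wPi_neg D hD L hL _ hp]
    exact (sign_facts D hD _ hpos.1).2.2.2.1 hpos
  have h1 := negSet_snoc_card D hD (L ++ [i]) hL' i hi hneg
  have h2 : negSet D (L ++ [i] ++ [i]) = negSet D L := by
    unfold negSet
    apply Finset.filter_congr
    intro r hr
    rw [wPi_snoc, wPi_snoc, (reflect_facts D hD i hi r (Finset.mem_range.1 hr)).1]
  rw [h2] at h1
  omega

/-- The check that a word is reduced: each letter lengthens the word before it. -/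
def redChk (D : ChevalleyDatum) : List ℕ → List ℕ → Bool
  | _, [] => true
  | P, i :: R => decide (i < D.rank) && decide (D.IsPosRoot (wPiF D P (D.simple i))) &&
      redChk D (P ++ [i]) R

theorem redChk_spec (D : ChevalleyDatum)
    (hD : D ∈ [chevG2, chevB2, chevD4, chevF4, chevE6, chevE7, chevE8]) :
    ∀ (R P : List ℕ), (∀ i ∈ P, i < D.rank) → redChk D P R = true →
      (∀ i ∈ R, i < D.rank) ∧ (negSet D (P ++ R)).card = (negSet D P).card + R.length := by
  have hD' : D ∈ chevList := hD
  intro R
  induction R with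
  | nil =>
    intro P _ _
    simp
  | cons i R ih =>
    intro P hP h
    simp only [redChk, Bool.and_eq_true, decide_eq_true_eq] at h
    obtain ⟨⟨hi, hpos⟩, hrest⟩ := h
    have hP' : ∀ j ∈ P ++ [i], j < D.rank := by
      intro j hj
      rcases List.mem_append.1 hj with h | h
      · exact hP j h
      · simp only [List.mem_cons, List.not_mem_nil, or_false] at h
        rw [h]
        exact hi
    obtain ⟨h1, h2⟩ := ih (P ++ [i]) hP' hrest
    rw [wPiF_eq D hD P hP _ (simple_lt D hD' i hi)] at hpos
    refine ⟨?_, ?_⟩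
    · intro j hj
      simp only [List.mem_cons] at hj
      rcases hj with rfl | hj
      · exact hi
      · exact h1 j hj
    · have e : P ++ i :: R = P ++ [i] ++ R := by simp
      rw [e, h2, negSet_snoc_card_pos D hD P hP i hi hpos, List.length_cons]
      omega

/-- A reduced word makes as many positive roots negative as it has letters. -/
theorem negSet_card_of_redChk (D : ChevalleyDatum)
    (hD : D ∈ [chevG2, chevB2, chevD4, chevF4, chevE6, chevE7, chevE8]) (L : List ℕ)
    (h : redChk D [] L = true) : (∀ i ∈ L, i < D.rank) ∧ (negSet D L).card = L.length := by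
  obtain ⟨h1, h2⟩ := redChk_spec D hD L [] (by simp) h
  refine ⟨h1, ?_⟩
  rw [List.nil_append, negSet_nil D hD, zero_add] at h2
  exact h2

end Cfsg.Agent.Lib.Helper25
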