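import Cfsg.Agent.Lib.Helper25.ChevLin

set_option autoImplicit false

namespace Cfsg.Agent.Lib.Helper25

open Cfsg.Lie Matrix
open Cfsg.Agent.Lib.Helper24

/-! ### Parabolic subgroups: `P_J` is generated by `H` and the root subgroups of the positive
roots and of the roots in `Φ_J` -/

section

variable {F : Type*} [Field F]

/-- The product of the `n_p` along a word with letters in `J`. -/
theorem exists_nWordGL_of (D : ChevalleyDatum)
    (hD : D ∈ [chevG2, chevB2, chevD4, chevF4, chevE6, chevE7, chevE8]) (J : Set ℕ) (L : List ℕ)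
    (hL : ∀ i ∈ L, i < D.rank ∧ i ∈ J) :
    ∃ g : GL D.Idx F, (g : Matrix D.Idx D.Idx F) = nWordMat F D L ∧
      g ∈ Subgroup.closure {g : GL D.Idx F | ∃ j ∈ J, j < D.rank ∧
        (g : Matrix D.Idx D.Idx F) = D.nMat F (D.simple j) 1} := by
  induction L with
  | nil => exact ⟨1, rfl, one_mem _⟩
  | cons i L ih =>
    obtain ⟨hi, hiJ⟩ := hL i (by simp)
    obtain ⟨g, hg, hmem⟩ := ih (fun j hj => hL j (by simp [hj]))
    have hD' : D ∈ chevList := hD
    obtain ⟨a, ha⟩ := exists_nGL (F := F) D hD (D.simple i) (simple_lt D hD' i hi)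
    refine ⟨a * g, ?_, mul_mem (Subgroup.subset_closure ⟨i, hiJ, hi, ha⟩) hmem⟩
    rw [Units.val_mul, ha, hg, nWordMat_cons]

/-- The negative of a fundamental root `p_j` lies in `Φ_J` for `j ∈ J`. -/
theorem neg_simple_inRootSub (D : ChevalleyDatum)
    (hD : D ∈ [chevG2, chevB2, chevD4, chevF4, chevE6, chevE7, chevE8]) (J : Set ℕ) (j : ℕ)
    (hj : j < D.rank) (hjJ : j ∈ J) : D.InRootSub J (D.neg (D.simple j)) := by
  have hD' : D ∈ chevList := hD
  have hp : D.simple j < D.nroots := simple_lt D hD' j hj
  have hrefl : D.reflectRoot j (D.simple j) = D.neg (D.simple j) := by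
    unfold ChevalleyDatum.reflectRoot
    simp
  refine ⟨(reflect_facts D hD j hj _ hp).2.1, fun i hi hiJ => ?_⟩
  have h1 := coroot_reflect D hD j hj (D.simple j) hp i hi
  rw [hrefl] at h1
  show corootC D (D.neg (D.simple j)) i = 0
  rw [h1]
  have hij : i ≠ j := fun e => hiJ (e ▸ hjJ)
  apply Finset.sum_eq_zero
  intro k hk
  rw [corootC_simple D hD' j hj k (Finset.mem_range.1 hk)]
  by_cases hkj : k = j
  · rw [hkj]
    unfold reflCF
    simp [hij]
  · simp [hkj]

/-- `P_J` is generated by `H` and the root subgroups `X_r` for `r` positive or in `Φ_J`. -/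
theorem parabolic_eq (D : ChevalleyDatum)
    (hD : D ∈ [chevG2, chevB2, chevD4, chevF4, chevE6, chevE7, chevE8]) (J : Set ℕ) :
    D.parabolicSubgroup F J = D.diagonalSubgroup F ⊔
      Subgroup.closure {g : GL D.Idx F | ∃ (r : ℕ) (t : F), (D.IsPosRoot r ∨ D.InRootSub J r) ∧
        (g : Matrix D.Idx D.Idx F) = D.x F r t} := by
  have hD' : D ∈ chevList := hD
  apply le_antisymm
  · unfold ChevalleyDatum.parabolicSubgroup
    apply sup_le
    · unfold ChevalleyDatum.borelSubgroup
      apply sup_le
      · refine le_trans ?_ le_sup_right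
        unfold ChevalleyDatum.posUnipotent
        apply Subgroup.closure_mono
        rintro g ⟨r, t, hr, hg⟩
        exact ⟨r, t, Or.inl hr, hg⟩
      · exact le_sup_left
    · refine le_trans ?_ le_sup_right
      rw [Subgroup.closure_le]
      rintro g ⟨j, hjJ, hj, hg⟩
      have hp : D.simple j < D.nroots := simple_lt D hD' j hj
      have hpos := (upChk_all D hD j hj).1
      have hnp := neg_simple_inRootSub D hD J j hj hjJ
      obtain ⟨a, ha⟩ := exists_xGL (F := F) D hD (D.simple j) hp 1
      obtain ⟨b, hb⟩ := exists_xGL (F := F) D hD (D.neg (D.simple j)) hnp.1 (-(1 : F)⁻¹)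
      have e : g = a * (b * a) := by
        apply Units.ext
        rw [Units.val_mul, Units.val_mul, ha, hb, hg, nMat_eq]
      rw [e]
      have haM : a ∈ Subgroup.closure {g : GL D.Idx F | ∃ (r : ℕ) (t : F),
          (D.IsPosRoot r ∨ D.InRootSub J r) ∧ (g : Matrix D.Idx D.Idx F) = D.x F r t} :=
        Subgroup.subset_closure ⟨_, _, Or.inl hpos, ha⟩
      have hbM : b ∈ Subgroup.closure {g : GL D.Idx F | ∃ (r : ℕ) (t : F),
          (D.IsPosRoot r ∨ D.InRootSub J r) ∧ (g : Matrix D.Idx D.Idx F) = D.x F r t} :=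
        Subgroup.subset_closure ⟨_, _, Or.inr hnp, hb⟩
      exact mul_mem haM (mul_mem hbM haM)
  · have hBP : D.borelSubgroup F ≤ D.parabolicSubgroup F J := by
      unfold ChevalleyDatum.parabolicSubgroup
      exact le_sup_left
    have hHB : D.diagonalSubgroup F ≤ D.borelSubgroup F := le_sup_right
    have hUB : D.posUnipotent F ≤ D.borelSubgroup F := le_sup_left
    apply sup_le (hHB.trans hBP)
    rw [Subgroup.closure_le]
    rintro g ⟨r, t, hr | hr, hg⟩
    · apply hBP
      apply hUB
      unfold ChevalleyDatum.posUnipotent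
      exact Subgroup.subset_closure ⟨r, t, hr, hg⟩
    · obtain ⟨i, hi, L, hL, hw, hsupp⟩ := orb_all D hD r hr.1
      have hmemJ : ∀ k ∈ i :: L, k < D.rank ∧ k ∈ J := by
        intro k hk
        have hk' : k < D.rank := by
          rcases List.mem_cons.1 hk with rfl | h
          · exact hi
          · exact hL k h
        refine ⟨hk', ?_⟩
        by_contra hkJ
        exact hsupp k hk (hr.2 k hk' hkJ)
      have hp : D.simple i < D.nroots := simple_lt D hD' i hi
      have hpos := (upChk_all D hD i hi).1
      obtain ⟨w, hw1, hw2⟩ := exists_nWordGL_of (F := F) D hD J L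
        (fun k hk => hmemJ k (List.mem_cons_of_mem _ hk))
      have hwP : w ∈ D.parabolicSubgroup F J := by
        unfold ChevalleyDatum.parabolicSubgroup
        exact Subgroup.mem_sup_right hw2
      have he := wEta_cases D L (D.simple i)
      have key := nWordMat_conj (F := F) D hD L hL (D.simple i) hp
        (((wEta D L (D.simple i) : ℤ) : F) * t)
      rw [hw, ← mul_assoc, sign_sq (F := F) _ he, one_mul] at key
      obtain ⟨a, ha⟩ := exists_xGL (F := F) D hD (D.simple i) hp
        (((wEta D L (D.simple i) : ℤ) : F) * t)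
      have haP : a ∈ D.parabolicSubgroup F J := by
        apply hBP
        apply hUB
        unfold ChevalleyDatum.posUnipotent
        exact Subgroup.subset_closure ⟨_, _, hpos, ha⟩
      have e : g = w * a * w⁻¹ := by
        apply Units.ext
        rw [Units.val_mul, Units.val_mul, hw1, ha, key, ← hw1, Matrix.mul_assoc, ← Units.val_mul,
          mul_inv_cancel, Units.val_one, Matrix.mul_one, hg]
      rw [e]
      exact mul_mem (mul_mem hwP haP) (inv_mem hwP)

end

end Cfsg.Agent.Lib.Helper25
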