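import Cfsg.Agent.Lib.Helper25.ChevGrData
import Cfsg.Agent.Lib.Helper25.ChevPara
import Cfsg.Agent.Lib.Helper24.ChevBorel

set_option autoImplicit false

namespace Cfsg.Agent.Lib.Helper25

open Cfsg.Lie Matrix
open Cfsg.Agent.Lib.Helper24

/-! ### The Levi decomposition of the parabolic subgroups -/

/-- The entries of the chain table read by `chainRoot` are entries of `cent`. -/
theorem chainRoot_cent (D : ChevalleyDatum) (r s i u : ℕ) (hi : 1 ≤ i)
    (h : D.chainRoot r s i = some u) : ∃ M : ℤ, (u, i, M) ∈ cent D r s := by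
  unfold ChevalleyDatum.chainRoot at h
  rw [Option.map_eq_some_iff] at h
  obtain ⟨q, hq, rfl⟩ := h
  unfold ChevalleyDatum.chainEntry at hq
  cases hfind : (D.chain.getD r #[]).toList.find? (fun e => e.1 = s) with
  | none =>
    rw [hfind] at hq
    simp at hq
  | some e' =>
    rw [hfind] at hq
    have hq' : e'.2.toList[i - 1]? = some q := hq
    refine ⟨q.2, ?_⟩
    unfold cent crow
    rw [List.mem_flatMap]
    refine ⟨e', ?_, ?_⟩
    · have h2 : decide (e'.1 = s) = true :=
        List.find?_some (p := fun e : ℕ × Array (ℕ × ℤ) => decide (e.1 = s)) hfind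
      rw [List.mem_filter]
      exact ⟨List.mem_of_find?_eq_some hfind, h2⟩
    · rw [List.mem_map]
      refine ⟨(q, i - 1), ?_, ?_⟩
      · rw [List.mk_mem_zipIdx_iff_getElem?]
        exact hq'
      · show (q.1, i - 1 + 1, q.2) = (q.1, i, q.2)
        rw [Nat.sub_add_cancel hi]

/-- An additive weight is additive on the terms of the commutator formula. -/
theorem commTerms_graded (D : ChevalleyDatum) (hD : D ∈ chevList) (w : ℕ → ℤ)
    (hw : AddGraded D w) (r s : ℕ) (hr : r < D.nroots) (hs : s < D.nroots)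
    (e : ℕ × ℤ × ℕ × ℕ) (he : e ∈ D.commTerms r s) :
    e.1 < D.nroots ∧ 1 ≤ e.2.2.1 ∧ 1 ≤ e.2.2.2 ∧
      w e.1 = (e.2.2.1 : ℤ) * w r + (e.2.2.2 : ℤ) * w s := by
  have key : ∀ (a b i u : ℕ), a < D.nroots → 1 ≤ i → D.chainRoot a b i = some u →
      u < D.nroots ∧ w u = w b + (i : ℤ) * w a := by
    intro a b i u ha hi h
    obtain ⟨M, hM⟩ := chainRoot_cent D a b i u hi h
    exact ⟨cent_lt D hD a ha b _ hM, hw.chain a ha b _ hM⟩
  unfold ChevalleyDatum.commTerms at he
  dsimp only at he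
  rw [List.mem_filterMap] at he
  obtain ⟨c, hc, hce⟩ := he
  simp only [List.mem_cons, List.not_mem_nil, or_false] at hc
  rcases hc with rfl | rfl | rfl | rfl | rfl | rfl | rfl
  · obtain ⟨k, hk, rfl⟩ := Option.map_eq_some_iff.1 hce
    obtain ⟨h1, h2⟩ := key r s 1 k hr le_rfl hk
    refine ⟨h1, le_rfl, le_rfl, ?_⟩
    show w k = ((1 : ℕ) : ℤ) * w r + ((1 : ℕ) : ℤ) * w s
    rw [h2]
    push_cast
    ring
  · obtain ⟨k, hk, rfl⟩ := Option.map_eq_some_iff.1 hce
    obtain ⟨h1, h2⟩ := key r s 2 k hr (by norm_num) hk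
    refine ⟨h1, by norm_num, le_rfl, ?_⟩
    show w k = ((2 : ℕ) : ℤ) * w r + ((1 : ℕ) : ℤ) * w s
    rw [h2]
    push_cast
    ring
  · obtain ⟨k, hk, rfl⟩ := Option.map_eq_some_iff.1 hce
    obtain ⟨h1, h2⟩ := key s r 2 k hs (by norm_num) hk
    refine ⟨h1, le_rfl, by norm_num, ?_⟩
    show w k = ((1 : ℕ) : ℤ) * w r + ((2 : ℕ) : ℤ) * w s
    rw [h2]
    push_cast
    ring
  · obtain ⟨k, hk, rfl⟩ := Option.map_eq_some_iff.1 hce
    obtain ⟨h1, h2⟩ := key r s 3 k hr (by norm_num) hk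
    refine ⟨h1, by norm_num, le_rfl, ?_⟩
    show w k = ((3 : ℕ) : ℤ) * w r + ((1 : ℕ) : ℤ) * w s
    rw [h2]
    push_cast
    ring
  · obtain ⟨k, hk, rfl⟩ := Option.map_eq_some_iff.1 hce
    obtain ⟨h1, h2⟩ := key s r 3 k hs (by norm_num) hk
    refine ⟨h1, le_rfl, by norm_num, ?_⟩
    show w k = ((1 : ℕ) : ℤ) * w r + ((3 : ℕ) : ℤ) * w s
    rw [h2]
    push_cast
    ring
  · obtain ⟨u, hu, rfl⟩ := Option.map_eq_some_iff.1 hce
    obtain ⟨k, hk, hku⟩ := Option.bind_eq_some_iff.1 hu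
    obtain ⟨h1, h2⟩ := key r s 3 k hr (by norm_num) hk
    obtain ⟨h3, h4⟩ := key k s 1 u h1 le_rfl hku
    refine ⟨h3, by norm_num, by norm_num, ?_⟩
    show w u = ((3 : ℕ) : ℤ) * w r + ((2 : ℕ) : ℤ) * w s
    rw [h4, h2]
    push_cast
    ring
  · obtain ⟨u, hu, rfl⟩ := Option.map_eq_some_iff.1 hce
    obtain ⟨k, hk, hku⟩ := Option.bind_eq_some_iff.1 hu
    obtain ⟨h1, h2⟩ := key s r 3 k hs (by norm_num) hk
    obtain ⟨h3, h4⟩ := key k r 1 u h1 le_rfl hku
    refine ⟨h3, by norm_num, by norm_num, ?_⟩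
    show w u = ((2 : ℕ) : ℤ) * w r + ((3 : ℕ) : ℤ) * w s
    rw [h4, h2]
    push_cast
    ring

theorem list_sum_pos_of_mem (l : List ℤ) (h0 : ∀ x ∈ l, 0 ≤ x) (x : ℤ) (hx : x ∈ l)
    (hpos : 0 < x) : 0 < l.sum := by
  induction l with
  | nil => simp at hx
  | cons a l ih =>
    rw [List.sum_cons]
    have ha : 0 ≤ a := h0 a (by simp)
    have hl : 0 ≤ l.sum := List.sum_nonneg (fun y hy => h0 y (by simp [hy]))
    rcases List.mem_cons.1 hx with rfl | hx'
    · omega
    · have := ih (fun y hy => h0 y (by simp [hy])) hx'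
      omega

theorem list_exists_pos_of_sum_pos (l : List ℤ) (h : 0 < l.sum) : ∃ x ∈ l, 0 < x := by
  induction l with
  | nil => simp at h
  | cons a l ih =>
    rw [List.sum_cons] at h
    by_cases ha : 0 < a
    · exact ⟨a, by simp, ha⟩
    · obtain ⟨x, hx, hx0⟩ := ih (by omega)
      exact ⟨x, by simp [hx], hx0⟩

open Classical in
/-- The weight of the roots that vanishes on `Φ_J` and is positive on the positive roots outside
`Φ_J`: the sum of the coweights outside `J`. -/
noncomputable def wJ (B : List (List ℤ)) (D : ChevalleyDatum) (J : Set ℕ) (s : ℕ) : ℤ :=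
  (((List.range D.rank).filter fun k => decide (k ∉ J)).map fun k => (1 : ℤ) * coW B D k s).sum

theorem addGraded_wJ (B : List (List ℤ)) (D : ChevalleyDatum) (hD : D ∈ chevList) (J : Set ℕ) :
    AddGraded D (wJ B D J) :=
  addGraded_list_sum (D := D) _ (fun _ => (1 : ℤ)) (fun k s => coW B D k s)
    (fun k _ => addGraded_coW B D hD k)

theorem wJ_zero (B : List (List ℤ)) (D : ChevalleyDatum) (hB : cwChk B D = true) (J : Set ℕ)
    (r : ℕ) (hr : D.InRootSub J r) : wJ B D J r = 0 := by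
  classical
  unfold wJ
  apply List.sum_eq_zero
  intro x hx
  rw [List.mem_map] at hx
  obtain ⟨k, hk, rfl⟩ := hx
  rw [List.mem_filter, List.mem_range] at hk
  have h0 : corootC D r k = 0 := hr.2 k hk.1 (of_decide_eq_true hk.2)
  have h1 := cwChk_spec B D hB r hr.1 k hk.1
  have : coW B D k r = 0 := by
    rcases lt_trichotomy (coW B D k r) 0 with h | h | h
    · have := h1.2.1 h
      omega
    · exact h
    · have := h1.1.1 h
      omega
  rw [this, mul_zero]

theorem wJ_terms_nonneg (B : List (List ℤ)) (D : ChevalleyDatum) (hB : cwChk B D = true)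
    (r : ℕ) (hr : D.IsPosRoot r) (k : ℕ) (hk : k < D.rank) : 0 ≤ (1 : ℤ) * coW B D k r := by
  have h1 := cwChk_spec B D hB r hr.1 k hk
  have h2 := corootC_nonneg D r hr k
  by_contra hneg
  have h3 : coW B D k r < 0 := by omega
  have := h1.2.1 h3
  omega

theorem wJ_nonneg (B : List (List ℤ)) (D : ChevalleyDatum) (hB : cwChk B D = true) (J : Set ℕ)
    (r : ℕ) (hr : D.IsPosRoot r) : 0 ≤ wJ B D J r := by
  unfold wJ
  apply List.sum_nonneg
  intro x hx
  rw [List.mem_map] at hx
  obtain ⟨k, hk, rfl⟩ := hx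
  rw [List.mem_filter, List.mem_range] at hk
  exact wJ_terms_nonneg B D hB r hr k hk.1

theorem wJ_pos (B : List (List ℤ)) (D : ChevalleyDatum) (hB : cwChk B D = true) (J : Set ℕ)
    (r : ℕ) (hr : D.IsPosRoot r) (hnr : ¬ D.InRootSub J r) : 0 < wJ B D J r := by
  classical
  have hex : ∃ k < D.rank, k ∉ J ∧ corootC D r k ≠ 0 := by
    by_contra hcon
    apply hnr
    refine ⟨hr.1, fun i hi hiJ => ?_⟩
    by_contra hne
    exact hcon ⟨i, hi, hiJ, hne⟩
  obtain ⟨k, hk, hkJ, hne⟩ := hex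
  have h1 := cwChk_spec B D hB r hr.1 k hk
  have h2 := corootC_nonneg D r hr k
  have h3 : 0 < coW B D k r := h1.1.2 (by omega)
  unfold wJ
  apply list_sum_pos_of_mem _ _ ((1 : ℤ) * coW B D k r)
  · rw [List.mem_map]
    refine ⟨k, ?_, rfl⟩
    rw [List.mem_filter, List.mem_range]
    exact ⟨hk, decide_eq_true hkJ⟩
  · omega
  · intro x hx
    rw [List.mem_map] at hx
    obtain ⟨k', hk', rfl⟩ := hx
    rw [List.mem_filter, List.mem_range] at hk'
    exact wJ_terms_nonneg B D hB r hr k' hk'.1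

/-- A root of positive `wJ`-weight is a positive root outside `Φ_J`. -/
theorem pos_of_wJ_pos (B : List (List ℤ)) (D : ChevalleyDatum)
    (hD : D ∈ [chevG2, chevB2, chevD4, chevF4, chevE6, chevE7, chevE8])
    (hB : cwChk B D = true) (J : Set ℕ) (r : ℕ) (hr : r < D.nroots) (h : 0 < wJ B D J r) :
    D.IsPosRoot r ∧ ¬ D.InRootSub J r := by
  constructor
  · unfold wJ at h
    obtain ⟨x, hx, hx0⟩ := list_exists_pos_of_sum_pos _ h
    rw [List.mem_map] at hx
    obtain ⟨k, hk, rfl⟩ := hx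
    rw [List.mem_filter, List.mem_range] at hk
    have h1 := cwChk_spec B D hB r hr k hk.1
    have h2 : 0 < corootC D r k := h1.1.1 (by omega)
    rcases (sign_facts D hD r hr).1 with hp | hn
    · exact hp
    · have := corootC_nonpos D r hn k
      omega
  · intro hJ
    have := wJ_zero B D hB J r hJ
    omega

section

variable {F : Type*} [Field F]

/-- The Levi subgroup is block diagonal for the level of `wJ`. -/
theorem levi_blkD (D : ChevalleyDatum)
    (hD : D ∈ [chevG2, chevB2, chevD4, chevF4, chevE6, chevE7, chevE8]) (B : List (List ℤ))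
    (hB : cwChk B D = true) (J : Set ℕ) (g : GL D.Idx F) (hg : g ∈ D.leviSubgroup F J) :
    BlkD (lvl D (wJ B D J)) (g : Matrix D.Idx D.Idx F) := by
  have hD' : D ∈ chevList := hD
  have hw := addGraded_wJ B D hD' J
  unfold ChevalleyDatum.leviSubgroup at hg
  have hdiag : ∀ h : GL D.Idx F, h ∈ D.diagonalSubgroup F →
      BlkD (lvl D (wJ B D J)) (h : Matrix D.Idx D.Idx F) := by
    intro h hh a b hab
    by_contra hne
    have hab' : a ≠ b := fun e => hne (by rw [e])
    exact hab ((mem_dgSubgroup.1 (diagonalSubgroup_le_dg D hD' hh)) a b hab')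
  rw [← Subgroup.closure_eq (D.diagonalSubgroup F), ← Subgroup.closure_union] at hg
  refine closure_pred _ (fun g : GL D.Idx F => BlkD (lvl D (wJ B D J)) (g : Matrix D.Idx D.Idx F))
    ?_ ?_ ?_ g hg
  · show BlkD _ ((1 : GL D.Idx F) : Matrix D.Idx D.Idx F)
    rw [Units.val_one]
    exact blkD_one _
  · intro a b ha hb
    show BlkD _ ((a * b : GL D.Idx F) : Matrix D.Idx D.Idx F)
    rw [Units.val_mul]
    exact ha.mul hb
  · rintro x (hx | ⟨r, t, hr, hx⟩)
    · exact ⟨hdiag x hx, hdiag x⁻¹ (inv_mem hx)⟩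
    · have h0 := wJ_zero B D hB J r hr
      constructor
      · show BlkD _ (x : Matrix D.Idx D.Idx F)
        rw [hx]
        exact x_blkD D hD _ hw r hr.1 h0 t
      · show BlkD _ ((x⁻¹ : GL D.Idx F) : Matrix D.Idx D.Idx F)
        rw [xGL_inv D hD r hr.1 t x hx]
        exact x_blkD D hD _ hw r hr.1 h0 (-t)

/-- The unipotent radical is unitriangular for the level of `wJ`. -/
theorem radical_upT (D : ChevalleyDatum)
    (hD : D ∈ [chevG2, chevB2, chevD4, chevF4, chevE6, chevE7, chevE8]) (B : List (List ℤ))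
    (hB : cwChk B D = true) (J : Set ℕ) (g : GL D.Idx F) (hg : g ∈ D.unipotentRadical F J) :
    UpT (lvl D (wJ B D J)) 0 (g : Matrix D.Idx D.Idx F) := by
  have hD' : D ∈ chevList := hD
  have hw := addGraded_wJ B D hD' J
  unfold ChevalleyDatum.unipotentRadical at hg
  refine closure_pred _ (fun g : GL D.Idx F => UpT (lvl D (wJ B D J)) 0 (g : Matrix D.Idx D.Idx F))
    ?_ ?_ ?_ g hg
  · show UpT _ 0 ((1 : GL D.Idx F) : Matrix D.Idx D.Idx F)
    rw [Units.val_one]
    exact upT_one _ _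
  · intro a b ha hb
    show UpT _ 0 ((a * b : GL D.Idx F) : Matrix D.Idx D.Idx F)
    rw [Units.val_mul]
    exact ha.mul le_rfl hb
  · rintro x ⟨r, t, hr, hnr, hx⟩
    have hpos := wJ_pos B D hB J r hr hnr
    constructor
    · show UpT _ 0 (x : Matrix D.Idx D.Idx F)
      rw [hx]
      exact x_upT D hD _ hw r hr 0 le_rfl hpos t
    · show UpT _ 0 ((x⁻¹ : GL D.Idx F) : Matrix D.Idx D.Idx F)
      rw [xGL_inv D hD r hr.1 t x hx]
      exact x_upT D hD _ hw r hr 0 le_rfl hpos (-t)

/-- `U_J ∩ L_J = 1`. -/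
theorem radical_inf_levi (D : ChevalleyDatum)
    (hD : D ∈ [chevG2, chevB2, chevD4, chevF4, chevE6, chevE7, chevE8]) (J : Set ℕ) :
    D.unipotentRadical F J ⊓ D.leviSubgroup F J = ⊥ := by
  obtain ⟨B, hB⟩ := exists_cw D hD
  rw [eq_bot_iff]
  rintro g ⟨hgU, hgL⟩
  rw [Subgroup.mem_bot]
  have h1 := radical_upT D hD B hB J g hgU
  have h2 := levi_blkD D hD B hB J g hgL
  apply Units.ext
  rw [Units.val_one]
  ext a b
  by_cases hab : a = b
  · rw [hab, Matrix.one_apply_eq]
    exact h1.1 b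
  · rw [Matrix.one_apply_ne hab]
    by_contra hne
    rcases h1.2 a b hne with e | e
    · exact hab e
    · have := h2 a b hne
      omega

/-- `P_J = U_J L_J`. -/
theorem radical_sup_levi (D : ChevalleyDatum)
    (hD : D ∈ [chevG2, chevB2, chevD4, chevF4, chevE6, chevE7, chevE8]) (J : Set ℕ) :
    D.unipotentRadical F J ⊔ D.leviSubgroup F J = D.parabolicSubgroup F J := by
  rw [parabolic_eq D hD J]
  unfold ChevalleyDatum.unipotentRadical ChevalleyDatum.leviSubgroup
  apply le_antisymm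
  · apply sup_le
    · refine le_trans ?_ le_sup_right
      apply Subgroup.closure_mono
      rintro g ⟨r, t, hr, _, hg⟩
      exact ⟨r, t, Or.inl hr, hg⟩
    · apply sup_le le_sup_left
      refine le_trans ?_ le_sup_right
      apply Subgroup.closure_mono
      rintro g ⟨r, t, hr, hg⟩
      exact ⟨r, t, Or.inr hr, hg⟩
  · apply sup_le
    · exact le_trans le_sup_left le_sup_right
    · rw [Subgroup.closure_le]
      rintro g ⟨r, t, hr, hg⟩
      by_cases hJ : D.InRootSub J r
      · apply Subgroup.mem_sup_right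
        apply Subgroup.mem_sup_right
        exact Subgroup.subset_closure ⟨r, t, hJ, hg⟩
      · rcases hr with hr | hr
        · apply Subgroup.mem_sup_left
          exact Subgroup.subset_closure ⟨r, t, hr, hJ, hg⟩
        · exact absurd hr hJ

/-- The commutator formula, as a hypothesis. -/
def CommHyp (F : Type*) [Field F] (D : ChevalleyDatum) : Prop :=
  ∀ r s : ℕ, r < D.nroots → s < D.nroots → s ≠ r → s ≠ D.neg r → ∀ t u : F,
    D.x F s u * D.x F r t = D.x F r t * D.x F s u * D.wordMat F (D.commWord F r s t u)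

theorem radical_eq_rootGen (D : ChevalleyDatum) (J : Set ℕ) :
    D.unipotentRadical F J = rootGen F D (fun r => D.IsPosRoot r ∧ ¬ D.InRootSub J r) := by
  unfold ChevalleyDatum.unipotentRadical rootGen
  congr 1
  ext g
  constructor
  · rintro ⟨r, t, h1, h2, h3⟩
    exact ⟨r, t, ⟨h1, h2⟩, h3⟩
  · rintro ⟨r, t, ⟨h1, h2⟩, h3⟩
    exact ⟨r, t, h1, h2, h3⟩

/-- A root element of a root that is positive or in `Φ_J` conjugates the generators of `U_J`
into `U_J`. -/
theorem conj_radical_gen (D : ChevalleyDatum)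
    (hD : D ∈ [chevG2, chevB2, chevD4, chevF4, chevE6, chevE7, chevE8]) (HC : CommHyp F D)
    (J : Set ℕ) (s : ℕ) (hs : s < D.nroots) (hs' : D.IsPosRoot s ∨ D.InRootSub J s) (u : F)
    (h : GL D.Idx F) (hh : (h : Matrix D.Idx D.Idx F) = D.x F s u) (r : ℕ) (t : F)
    (hr : D.IsPosRoot r) (hnr : ¬ D.InRootSub J r) (a : GL D.Idx F)
    (ha : (a : Matrix D.Idx D.Idx F) = D.x F r t) :
    h⁻¹ * a * h ∈ rootGen F D (fun r => D.IsPosRoot r ∧ ¬ D.InRootSub J r) := by
  have hD' : D ∈ chevList := hD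
  obtain ⟨B, hB⟩ := exists_cw D hD
  have hw := addGraded_wJ B D hD' J
  have hrpos := wJ_pos B D hB J r hr hnr
  have hs0 : 0 ≤ wJ B D J s := by
    rcases hs' with hp | hJ
    · exact wJ_nonneg B D hB J s hp
    · rw [wJ_zero B D hB J s hJ]
  have hinv : ((h⁻¹ : GL D.Idx F) : Matrix D.Idx D.Idx F) * D.x F s u = 1 := by
    rw [← hh, ← Units.val_mul, inv_mul_cancel, Units.val_one]
  by_cases hsr : s = r
  · have e : h⁻¹ * a * h = a := by
      apply Units.ext
      rw [Units.val_mul, Units.val_mul, xGL_inv D hD s hs u h hh, ha, hh, hsr,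
        x_add D hD' r hr.1, x_add D hD' r hr.1]
      congr 1
      ring
    rw [e]
    exact Subgroup.subset_closure ⟨r, t, ⟨hr, hnr⟩, ha⟩
  · have hneg : r ≠ D.neg s := by
      intro e
      have h1 := hw.neg s hs
      rw [← e] at h1
      omega
    have key := HC s r hs hr.1 (fun e => hsr e.symm) hneg u t
    have hval : ((h⁻¹ * a * h : GL D.Idx F) : Matrix D.Idx D.Idx F) =
        D.wordMat F ((r, t) :: D.commWord F s r u t) := by
      rw [Units.val_mul, Units.val_mul, ha, hh, Matrix.mul_assoc, key, wordMat_cons',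
        Matrix.mul_assoc (D.x F s u), ← Matrix.mul_assoc, hinv, Matrix.one_mul]
    refine word_mem_closure D hD (fun r => D.IsPosRoot r ∧ ¬ D.InRootSub J r) _ ?_ _ hval
    intro e he
    rcases List.mem_cons.1 he with rfl | he
    · exact ⟨⟨hr, hnr⟩, hr.1⟩
    · unfold ChevalleyDatum.commWord at he
      rw [List.mem_map] at he
      obtain ⟨c, hc, rfl⟩ := he
      obtain ⟨h1, h2, h3, h4⟩ := commTerms_graded D hD' (wJ B D J) hw s r hs hr.1 c hc
      have h5 : 0 < wJ B D J c.1 := by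
        rw [h4]
        have h2' : (1 : ℤ) ≤ (c.2.2.1 : ℤ) := by exact_mod_cast h2
        have h3' : (1 : ℤ) ≤ (c.2.2.2 : ℤ) := by exact_mod_cast h3
        nlinarith
      exact ⟨pos_of_wJ_pos B D hD hB J c.1 h1 h5, h1⟩

/-- `P_J` normalises `U_J`. -/
theorem radical_normal (D : ChevalleyDatum)
    (hD : D ∈ [chevG2, chevB2, chevD4, chevF4, chevE6, chevE7, chevE8]) (HC : CommHyp F D)
    (J : Set ℕ) :
    D.parabolicSubgroup F J ≤ Subgroup.normalizer (D.unipotentRadical F J : Set (GL D.Idx F)) := by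
  have hD' : D ∈ chevList := hD
  rw [parabolic_eq D hD J, radical_eq_rootGen D J]
  apply sup_le
  · exact diagonal_le_normalizer_rootGen D hD' _ (fun r h => h.1.1)
  · rw [Subgroup.closure_le]
    rintro h ⟨s, u, hs', hh⟩
    have hs : s < D.nroots := by
      rcases hs' with hp | hJ
      · exact hp.1
      · exact hJ.1
    show h ∈ Subgroup.normalizer (rootGen F D (fun r => D.IsPosRoot r ∧ ¬ D.InRootSub J r) :
      Set (GL D.Idx F))
    unfold rootGen
    apply mem_normalizer_closure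
    · rintro a ⟨r, t, ⟨hr, hnr⟩, ha⟩
      have := conj_radical_gen D hD HC J s hs hs' (-u) h⁻¹ (xGL_inv D hD s hs u h hh) r t hr hnr
        a ha
      rw [inv_inv] at this
      exact this
    · rintro a ⟨r, t, ⟨hr, hnr⟩, ha⟩
      exact conj_radical_gen D hD HC J s hs hs' u h hh r t hr hnr a ha

end

end Cfsg.Agent.Lib.Helper25
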