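import Cfsg.Agent.Lib.Helper25.ChevLevi
import Cfsg.Agent.Lib.Helper25.ChevBNPair
import Cfsg.Agent.Lib.Helper8.BN3

set_option autoImplicit false

namespace Cfsg.Agent.Lib.Helper25

open Cfsg.Lie Matrix
open Cfsg.Agent.Lib.Helper24

/-! ### The normaliser of the unipotent radical of a parabolic subgroup -/

section

variable {F : Type*} [Field F]

/-- `P_J` lies in the Chevalley group. -/
theorem parabolic_le_group (D : ChevalleyDatum)
    (hD : D ∈ [chevG2, chevB2, chevD4, chevF4, chevE6, chevE7, chevE8]) (J : Set ℕ) :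
    D.parabolicSubgroup F J ≤ D.group F := by
  have hD' : D ∈ chevList := hD
  unfold ChevalleyDatum.parabolicSubgroup
  apply sup_le (borelSubgroup_le_group D hD')
  rw [Subgroup.closure_le]
  rintro g ⟨j, _, hj, hg⟩
  exact monomialSubgroup_le_group D hD'
    (simple_n_le_monomial D hD (Subgroup.subset_closure ⟨j, hj, hg⟩))

/-- A fundamental reflection `n_p` with `p ∉ Φ_J` does not normalise `U_J`. -/
theorem n_not_mem_normalizer_radical (D : ChevalleyDatum)
    (hD : D ∈ [chevG2, chevB2, chevD4, chevF4, chevE6, chevE7, chevE8]) (J : Set ℕ) (i : ℕ)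
    (hi : i < D.rank) (hiJ : i ∉ J) (s : GL D.Idx F)
    (hs : (s : Matrix D.Idx D.Idx F) = D.nMat F (D.simple i) 1) :
    s ∉ Subgroup.normalizer (D.unipotentRadical F J : Set (GL D.Idx F)) := by
  have hD' : D ∈ chevList := hD
  have hp : D.simple i < D.nroots := simple_lt D hD' i hi
  have hpos := (upChk_all D hD i hi).1
  have hnJ : ¬ D.InRootSub J (D.simple i) := by
    intro h
    have h1 : corootC D (D.simple i) i = 0 := h.2 i hi hiJ
    rw [corootC_simple D hD' i hi i hi, if_pos rfl] at h1
    exact one_ne_zero h1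
  obtain ⟨_, hnp, _, _, _⟩ := reflect_facts D hD i hi (D.simple i) hp
  have hrefl : D.reflectRoot i (D.simple i) = D.neg (D.simple i) := by
    unfold ChevalleyDatum.reflectRoot
    simp
  have hc := n_simple_conj (F := F) D hD i hi (D.simple i) hp 1
  rw [hrefl, mul_one] at hc
  intro hsN
  obtain ⟨x, hx⟩ := exists_xGL (F := F) D hD (D.simple i) hp 1
  have hxU : x ∈ D.unipotentRadical F J := by
    unfold ChevalleyDatum.unipotentRadical
    exact Subgroup.subset_closure ⟨D.simple i, 1, hpos, hnJ, hx⟩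
  have hconj : s * x * s⁻¹ ∈ D.unipotentRadical F J :=
    ((Subgroup.mem_set_normalizer_iff.1 hsN) x).1 hxU
  have hUB : D.unipotentRadical F J ≤ D.borelSubgroup F := by
    refine le_trans ?_ (le_sup_left : D.posUnipotent F ≤ D.borelSubgroup F)
    unfold ChevalleyDatum.unipotentRadical ChevalleyDatum.posUnipotent
    apply Subgroup.closure_mono
    rintro g ⟨r, t, hr, _, hg⟩
    exact ⟨r, t, hr, hg⟩
  obtain ⟨z, hz⟩ := exists_xGL (F := F) D hD (D.neg (D.simple i)) hnp
    ((nEta D i (D.simple i) : ℤ) : F)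
  have e : z = s * x * s⁻¹ := by
    rw [eq_mul_inv_iff_mul_eq]
    apply Units.ext
    simp only [Units.val_mul]
    rw [hz, hs, hx, hc]
  have hzB : z ∈ D.borelSubgroup F := by
    rw [e]
    exact hUB hconj
  have hzV : z ∈ D.negUnipotent F := by
    unfold ChevalleyDatum.negUnipotent
    apply Subgroup.subset_closure
    exact ⟨D.neg (D.simple i), _, ((sign_facts D hD (D.simple i) hp).2.2.2).1 hpos, hz⟩
  have hz1 : z ∈ D.borelSubgroup F ⊓ D.negUnipotent F := Subgroup.mem_inf.2 ⟨hzB, hzV⟩
  rw [borel_inf_negUnipotent D hD', Subgroup.mem_bot] at hz1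
  have : D.x F (D.neg (D.simple i)) ((nEta D i (D.simple i) : ℤ) : F) = 1 := by
    rw [← hz, hz1, Units.val_one]
  refine x_ne_one D hD (D.neg (D.simple i)) hnp _ ?_ this
  rcases nEta_cases D i (D.simple i) with h | h <;> rw [h] <;> simp

/-- `N_G(U_J) = P_J`. -/
theorem normalizer_radical (D : ChevalleyDatum)
    (hD : D ∈ [chevG2, chevB2, chevD4, chevF4, chevE6, chevE7, chevE8]) (HC : CommHyp F D)
    (J : Set ℕ) :
    Subgroup.normalizer (D.unipotentRadical F J : Set (GL D.Idx F)) ⊓ D.group F =
      D.parabolicSubgroup F J := by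
  have hD' : D ∈ chevList := hD
  have hPN := radical_normal D hD HC J
  have hBP : D.borelSubgroup F ≤ D.parabolicSubgroup F J := by
    unfold ChevalleyDatum.parabolicSubgroup
    exact le_sup_left
  have hPG := parabolic_le_group (F := F) D hD J
  apply le_antisymm
  · intro g hg
    obtain ⟨hgN, hgG⟩ := Subgroup.mem_inf.1 hg
    have hBM : (chevBN (F := F) D hD).B ≤
        (Subgroup.normalizer (D.unipotentRadical F J : Set (GL D.Idx F)) ⊓ D.group F).subgroupOf
          (D.group F) := by
      intro b hb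
      have hb' : (b : GL D.Idx F) ∈ D.borelSubgroup F := Subgroup.mem_subgroupOf.1 hb
      rw [Subgroup.mem_subgroupOf]
      exact Subgroup.mem_inf.2 ⟨hPN (hBP hb'), b.2⟩
    have hpar := Cfsg.Agent.Lib.Helper8.eq_parabolic (chevBN (F := F) D hD) _ hBM
    have hgM : (⟨g, hgG⟩ : ↥(D.group F)) ∈
        (Subgroup.normalizer (D.unipotentRadical F J : Set (GL D.Idx F)) ⊓ D.group F).subgroupOf
          (D.group F) := by
      rw [Subgroup.mem_subgroupOf]
      exact hg
    rw [hpar] at hgM
    have hle : (chevBN (F := F) D hD).parabolic {σ | σ ∈ (chevBN (F := F) D hD).S ∧ σ ∈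
        (Subgroup.normalizer (D.unipotentRadical F J : Set (GL D.Idx F)) ⊓ D.group F).subgroupOf
          (D.group F)} ≤ (D.parabolicSubgroup F J).subgroupOf (D.group F) := by
      unfold Cfsg.BNPair.parabolic
      apply sup_le
      · intro b hb
        rw [Subgroup.mem_subgroupOf]
        exact hBP (Subgroup.mem_subgroupOf.1 hb)
      · rw [Subgroup.closure_le]
        rintro σ ⟨⟨i, hi, hσ⟩, hσM⟩
        show σ ∈ (D.parabolicSubgroup F J).subgroupOf (D.group F)
        rw [Subgroup.mem_subgroupOf]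
        rw [Subgroup.mem_subgroupOf] at hσM
        have hiJ : i ∈ J := by
          by_contra hiJ
          exact n_not_mem_normalizer_radical D hD J i hi hiJ (σ : GL D.Idx F) hσ
            (Subgroup.mem_inf.1 hσM).1
        unfold ChevalleyDatum.parabolicSubgroup
        exact Subgroup.mem_sup_right (Subgroup.subset_closure ⟨i, hiJ, hi, hσ⟩)
    exact Subgroup.mem_subgroupOf.1 (hle hgM)
  · exact le_inf hPN hPG

end

end Cfsg.Agent.Lib.Helper25
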