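import Cfsg.Agent.Lib.Helper25.CoxChain

set_option autoImplicit false

namespace Cfsg.Agent.Lib.Helper25

def b2ML : List (List ℕ) := [[1, 4], [4, 1]]

def b2Cart : List (List ℤ) := [[2, -2], [-1, 2]]

def b2Level0 : LevelData where
  n := 2
  T := [[1], [0]]
  just := [[1], [2]]
  stamp := [[0], [0]]
  words := [[], [0]]

def b2Level1 : LevelData where
  n := 4
  T := [[0, 1], [2, 0], [1, 3], [3, 2]]
  just := [[0, 1], [1, 2], [2, 1], [4, 2]]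
  stamp := [[0, 0], [0, 0], [0, 0], [1, 0]]
  words := [[], [1], [1, 0], [1, 0, 1]]

def b2Levels : List LevelData := [b2Level0, b2Level1]

def g2ML : List (List ℕ) := [[1, 6], [6, 1]]

def g2Cart : List (List ℤ) := [[2, -3], [-1, 2]]

def g2Level0 : LevelData where
  n := 2
  T := [[1], [0]]
  just := [[1], [2]]
  stamp := [[0], [0]]
  words := [[], [0]]

def g2Level1 : LevelData where
  n := 6
  T := [[0, 1], [2, 0], [1, 3], [4, 2], [3, 5], [5, 4]]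
  just := [[0, 1], [1, 2], [2, 1], [1, 2], [2, 1], [4, 2]]
  stamp := [[0, 0], [0, 0], [0, 0], [0, 0], [0, 0], [1, 0]]
  words := [[], [1], [1, 0], [1, 0, 1], [1, 0, 1, 0], [1, 0, 1, 0, 1]]

def g2Levels : List LevelData := [g2Level0, g2Level1]

def d4ML : List (List ℕ) := [[1, 3, 2, 2], [3, 1, 3, 3], [2, 3, 1, 2], [2, 3, 2, 1]]

def d4Cart : List (List ℤ) := [[2, -1, 0, 0], [-1, 2, -1, -1], [0, -1, 2, 0], [0, -1, 0, 2]]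

def d4Level0 : LevelData where
  n := 2
  T := [[1], [0]]
  just := [[1], [2]]
  stamp := [[0], [0]]
  words := [[], [0]]

def d4Level1 : LevelData where
  n := 3
  T := [[0, 1], [2, 0], [1, 2]]
  just := [[0, 1], [1, 2], [2, 3]]
  stamp := [[0, 0], [0, 0], [0, 1]]
  words := [[], [1], [1, 0]]

def d4Level2 : LevelData where
  n := 4
  T := [[0, 0, 1], [1, 2, 0], [3, 1, 2], [2, 3, 3]]
  just := [[0, 0, 1], [5, 1, 2], [1, 2, 4], [2, 3, 3]]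
  stamp := [[0, 0, 0], [1, 0, 0], [0, 0, 1], [0, 2, 2]]
  words := [[], [2], [2, 1], [2, 1, 0]]

def d4Level3 : LevelData where
  n := 8
  T := [[0, 0, 0, 1], [1, 2, 1, 0], [3, 1, 4, 2], [2, 3, 5, 3], [5, 4, 2, 4], [4, 6, 3, 5], [6, 5, 6, 7], [7, 7, 7, 6]]
  just := [[0, 0, 0, 1], [6, 1, 6, 2], [1, 2, 1, 4], [2, 3, 1, 3], [5, 5, 2, 5], [5, 1, 2, 3], [4, 2, 4, 1], [6, 6, 6, 2]]
  stamp := [[0, 0, 0, 0], [1, 0, 1, 0], [0, 0, 0, 1], [0, 2, 0, 2], [1, 2, 0, 2], [1, 0, 0, 3], [3, 0, 3, 0], [4, 4, 4, 0]]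
  words := [[], [3], [3, 1], [3, 1, 0], [3, 1, 2], [3, 1, 0, 2], [3, 1, 0, 2, 1], [3, 1, 0, 2, 1, 3]]

def d4Levels : List LevelData := [d4Level0, d4Level1, d4Level2, d4Level3]

def f4ML : List (List ℕ) := [[1, 3, 2, 2], [3, 1, 4, 2], [2, 4, 1, 3], [2, 2, 3, 1]]

def f4Cart : List (List ℤ) := [[2, -1, 0, 0], [-1, 2, -2, 0], [0, -1, 2, -1], [0, 0, -1, 2]]

def f4Level0 : LevelData where
  n := 2
  T := [[1], [0]]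
  just := [[1], [2]]
  stamp := [[0], [0]]
  words := [[], [0]]

def f4Level1 : LevelData where
  n := 3
  T := [[0, 1], [2, 0], [1, 2]]
  just := [[0, 1], [1, 2], [2, 3]]
  stamp := [[0, 0], [0, 0], [0, 1]]
  words := [[], [1], [1, 0]]

def f4Level2 : LevelData where
  n := 8
  T := [[0, 0, 1], [1, 2, 0], [3, 1, 4], [2, 3, 5], [5, 4, 2], [4, 6, 3], [6, 5, 7], [7, 7, 6]]
  just := [[0, 0, 1], [5, 1, 2], [1, 2, 1], [2, 3, 1], [5, 5, 2], [5, 1, 2], [4, 2, 1], [5, 5, 2]]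
  stamp := [[0, 0, 0], [1, 0, 0], [0, 0, 0], [0, 2, 0], [1, 1, 0], [1, 0, 0], [2, 0, 0], [3, 3, 0]]
  words := [[], [2], [2, 1], [2, 1, 0], [2, 1, 2], [2, 1, 0, 2], [2, 1, 0, 2, 1], [2, 1, 0, 2, 1, 2]]

def f4Level3 : LevelData where
  n := 24
  T := [[0, 0, 0, 1], [1, 1, 2, 0], [2, 3, 1, 2], [4, 2, 5, 3], [3, 4, 6, 4], [6, 5, 3, 7], [5, 8, 4, 9], [9, 7, 7, 5], [8, 6, 10, 11], [7, 11, 9, 6], [10, 10, 8, 12], [11, 9, 13, 8], [12, 12, 14, 10], [13, 15, 11, 14], [14, 16, 12, 13], [17, 13, 15, 16], [18, 14, 19, 15], [15, 17, 17, 18], [16, 18, 20, 17], [20, 19, 16, 19], [19, 21, 18, 20], [21, 20, 22, 21], [22, 22, 21, 23], [23, 23, 23, 22]]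
  just := [[0, 0, 0, 1], [6, 6, 1, 2], [5, 1, 2, 5], [1, 2, 1, 4], [2, 3, 1, 3], [5, 5, 2, 1], [5, 1, 2, 1], [6, 6, 6, 2], [4, 2, 1, 1], [6, 6, 3, 2], [5, 5, 2, 1], [6, 6, 1, 2], [6, 6, 1, 2], [5, 1, 2, 5], [5, 1, 2, 5], [1, 2, 4, 4], [1, 2, 1, 4], [2, 3, 3, 3], [2, 3, 1, 3], [5, 5, 2, 5], [5, 1, 2, 3], [4, 2, 1, 4], [5, 5, 2, 1], [6, 6, 6, 2]]
  stamp := [[0, 0, 0, 0], [1, 1, 0, 0], [2, 0, 0, 1], [0, 0, 0, 2], [0, 3, 0, 3], [1, 2, 0, 0], [1, 0, 0, 0], [2, 3, 3, 0], [3, 0, 0, 0], [2, 1, 4, 0], [4, 4, 0, 0], [4, 1, 0, 0], [5, 5, 0, 0], [5, 0, 0, 1], [6, 0, 0, 1], [0, 0, 5, 2], [0, 0, 0, 2], [0, 6, 6, 3], [0, 7, 0, 3], [1, 6, 0, 6], [1, 0, 0, 7], [7, 0, 0, 8], [8, 8, 0, 0], [9, 9, 9, 0]]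
  words := [[], [3], [3, 2], [3, 2, 1], [3, 2, 1, 0], [3, 2, 1, 2], [3, 2, 1, 0, 2], [3, 2, 1, 2, 3], [3, 2, 1, 0, 2, 1], [3, 2, 1, 0, 2, 3], [3, 2, 1, 0, 2, 1, 2], [3, 2, 1, 0, 2, 1, 3], [3, 2, 1, 0, 2, 1, 2, 3], [3, 2, 1, 0, 2, 1, 3, 2], [3, 2, 1, 0, 2, 1, 2, 3, 2], [3, 2, 1, 0, 2, 1, 3, 2, 1], [3, 2, 1, 0, 2, 1, 2, 3, 2, 1], [3, 2, 1, 0, 2, 1, 3, 2, 1, 0], [3, 2, 1, 0, 2, 1, 2, 3, 2, 1, 0], [3, 2, 1, 0, 2, 1, 2, 3, 2, 1, 2], [3, 2, 1, 0, 2, 1, 2, 3, 2, 1, 0, 2], [3, 2, 1, 0, 2, 1, 2, 3, 2, 1, 0, 2, 1], [3, 2, 1, 0, 2, 1, 2, 3, 2, 1, 0, 2, 1, 2], [3, 2, 1, 0, 2, 1, 2, 3, 2, 1, 0, 2, 1, 2, 3]]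

def f4Levels : List LevelData := [f4Level0, f4Level1, f4Level2, f4Level3]


end Cfsg.Agent.Lib.Helper25
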