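import Cfsg.Agent.Lib.Helper25.ChevWeylMain
import Cfsg.Agent.Lib.Helper25.CoxSmallData
import Cfsg.Agent.Lib.Helper25.CoxE8Data

set_option autoImplicit false

namespace Cfsg.Agent.Lib.Helper25

open Cfsg.Lie Matrix
open Cfsg.Agent.Lib.Helper24

/-! ### `N / H` is the Coxeter group of the type: the seven types -/

theorem cox_faithful_G2 : ∃ φc : CoxeterMatrix.G₂.Group →* Equiv.Perm (ℕ → ℤ),
      (∀ j : Fin 2, φc (CoxeterMatrix.G₂.simple j) = reflPerm (AF g2Cart 2) j) ∧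
      (∀ j < 2, AF g2Cart 2 j j = 2) ∧
      ∀ g : CoxeterMatrix.G₂.Group, (∀ i < 2, φc g (unitF i) = unitF i) → g = 1 := by
  obtain ⟨φ, h1, h2, _, h3⟩ := coxeter_main CoxeterMatrix.G₂ g2ML g2Cart g2Levels
    (by decide) (by intro i j; fin_cases i <;> fin_cases j <;> rfl) (by decide +kernel)
    (by decide +kernel)
  exact ⟨φ, h1, h2, h3⟩

theorem braidChk_G2 : braidChk chevG2 g2ML = true := by decide +kernel

theorem cartChk_G2 : cartChk chevG2 g2Cart = true := by decide +kernel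

theorem adjChk_G2 : adjChk g2Cart 2 [[2, 3], [1, 2]] 1 = true := by decide +kernel

theorem weyl_G2 {F : Type*} [Field F] :
    ∃ φ : ↥(chevG2.monomialSubgroup F) →* CoxeterMatrix.G₂.Group, Function.Surjective φ ∧
      φ.ker = (chevG2.diagonalSubgroup F).subgroupOf (chevG2.monomialSubgroup F) ∧
      ∀ (i : Fin 2) (g : ↥(chevG2.monomialSubgroup F)),
        ((g : GL chevG2.Idx F) : Matrix chevG2.Idx chevG2.Idx F) = chevG2.nMat F (chevG2.simple i) 1 →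
          φ g = CoxeterMatrix.G₂.simple i :=
  weyl_main chevG2 (by simp) CoxeterMatrix.G₂ rfl g2ML g2Cart
    (by intro i j; fin_cases i <;> fin_cases j <;> rfl) braidChk_G2 cartChk_G2
    cox_faithful_G2 [[2, 3], [1, 2]] 1 adjChk_G2

theorem cox_faithful_B2 : ∃ φc : (CoxeterMatrix.B 2).Group →* Equiv.Perm (ℕ → ℤ),
      (∀ j : Fin 2, φc ((CoxeterMatrix.B 2).simple j) = reflPerm (AF b2Cart 2) j) ∧
      (∀ j < 2, AF b2Cart 2 j j = 2) ∧
      ∀ g : (CoxeterMatrix.B 2).Group, (∀ i < 2, φc g (unitF i) = unitF i) → g = 1 := by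
  obtain ⟨φ, h1, h2, _, h3⟩ := coxeter_main (CoxeterMatrix.B 2) b2ML b2Cart b2Levels
    (by decide) (by intro i j; fin_cases i <;> fin_cases j <;> rfl) (by decide +kernel)
    (by decide +kernel)
  exact ⟨φ, h1, h2, h3⟩

theorem braidChk_B2 : braidChk chevB2 b2ML = true := by decide +kernel

theorem cartChk_B2 : cartChk chevB2 b2Cart = true := by decide +kernel

theorem adjChk_B2 : adjChk b2Cart 2 [[2, 2], [1, 2]] 2 = true := by decide +kernel

theorem weyl_B2 {F : Type*} [Field F] :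
    ∃ φ : ↥(chevB2.monomialSubgroup F) →* (CoxeterMatrix.B 2).Group, Function.Surjective φ ∧
      φ.ker = (chevB2.diagonalSubgroup F).subgroupOf (chevB2.monomialSubgroup F) ∧
      ∀ (i : Fin 2) (g : ↥(chevB2.monomialSubgroup F)),
        ((g : GL chevB2.Idx F) : Matrix chevB2.Idx chevB2.Idx F) = chevB2.nMat F (chevB2.simple i) 1 →
          φ g = (CoxeterMatrix.B 2).simple i :=
  weyl_main chevB2 (by simp) (CoxeterMatrix.B 2) rfl b2ML b2Cart
    (by intro i j; fin_cases i <;> fin_cases j <;> rfl) braidChk_B2 cartChk_B2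
    cox_faithful_B2 [[2, 2], [1, 2]] 2 adjChk_B2

theorem cox_faithful_D4 : ∃ φc : Cfsg.Lie.coxeterD4.Group →* Equiv.Perm (ℕ → ℤ),
      (∀ j : Fin 4, φc (Cfsg.Lie.coxeterD4.simple j) = reflPerm (AF d4Cart 4) j) ∧
      (∀ j < 4, AF d4Cart 4 j j = 2) ∧
      ∀ g : Cfsg.Lie.coxeterD4.Group, (∀ i < 4, φc g (unitF i) = unitF i) → g = 1 := by
  obtain ⟨φ, h1, h2, _, h3⟩ := coxeter_main Cfsg.Lie.coxeterD4 d4ML d4Cart d4Levels
    (by decide) (by intro i j; fin_cases i <;> fin_cases j <;> rfl) (by decide +kernel)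
    (by decide +kernel)
  exact ⟨φ, h1, h2, h3⟩

theorem braidChk_D4 : braidChk chevD4 d4ML = true := by decide +kernel

theorem cartChk_D4 : cartChk chevD4 d4Cart = true := by decide +kernel

theorem adjChk_D4 : adjChk d4Cart 4 [[4, 4, 2, 2], [4, 8, 4, 4], [2, 4, 4, 2], [2, 4, 2, 4]] 4 = true := by decide +kernel

theorem weyl_D4 {F : Type*} [Field F] :
    ∃ φ : ↥(chevD4.monomialSubgroup F) →* Cfsg.Lie.coxeterD4.Group, Function.Surjective φ ∧
      φ.ker = (chevD4.diagonalSubgroup F).subgroupOf (chevD4.monomialSubgroup F) ∧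
      ∀ (i : Fin 4) (g : ↥(chevD4.monomialSubgroup F)),
        ((g : GL chevD4.Idx F) : Matrix chevD4.Idx chevD4.Idx F) = chevD4.nMat F (chevD4.simple i) 1 →
          φ g = Cfsg.Lie.coxeterD4.simple i :=
  weyl_main chevD4 (by simp) Cfsg.Lie.coxeterD4 rfl d4ML d4Cart
    (by intro i j; fin_cases i <;> fin_cases j <;> rfl) braidChk_D4 cartChk_D4
    cox_faithful_D4 [[4, 4, 2, 2], [4, 8, 4, 4], [2, 4, 4, 2], [2, 4, 2, 4]] 4 adjChk_D4

theorem cox_faithful_F4 : ∃ φc : CoxeterMatrix.F₄.Group →* Equiv.Perm (ℕ → ℤ),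
      (∀ j : Fin 4, φc (CoxeterMatrix.F₄.simple j) = reflPerm (AF f4Cart 4) j) ∧
      (∀ j < 4, AF f4Cart 4 j j = 2) ∧
      ∀ g : CoxeterMatrix.F₄.Group, (∀ i < 4, φc g (unitF i) = unitF i) → g = 1 := by
  obtain ⟨φ, h1, h2, _, h3⟩ := coxeter_main CoxeterMatrix.F₄ f4ML f4Cart f4Levels
    (by decide) (by intro i j; fin_cases i <;> fin_cases j <;> rfl) (by decide +kernel)
    (by decide +kernel)
  exact ⟨φ, h1, h2, h3⟩

theorem braidChk_F4 : braidChk chevF4 f4ML = true := by decide +kernel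

theorem cartChk_F4 : cartChk chevF4 f4Cart = true := by decide +kernel

theorem adjChk_F4 : adjChk f4Cart 4 [[2, 3, 4, 2], [3, 6, 8, 4], [2, 4, 6, 3], [1, 2, 3, 2]] 1 = true := by decide +kernel

theorem weyl_F4 {F : Type*} [Field F] :
    ∃ φ : ↥(chevF4.monomialSubgroup F) →* CoxeterMatrix.F₄.Group, Function.Surjective φ ∧
      φ.ker = (chevF4.diagonalSubgroup F).subgroupOf (chevF4.monomialSubgroup F) ∧
      ∀ (i : Fin 4) (g : ↥(chevF4.monomialSubgroup F)),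
        ((g : GL chevF4.Idx F) : Matrix chevF4.Idx chevF4.Idx F) = chevF4.nMat F (chevF4.simple i) 1 →
          φ g = CoxeterMatrix.F₄.simple i :=
  weyl_main chevF4 (by simp) CoxeterMatrix.F₄ rfl f4ML f4Cart
    (by intro i j; fin_cases i <;> fin_cases j <;> rfl) braidChk_F4 cartChk_F4
    cox_faithful_F4 [[2, 3, 4, 2], [3, 6, 8, 4], [2, 4, 6, 3], [1, 2, 3, 2]] 1 adjChk_F4

theorem cox_faithful_E6 : ∃ φc : CoxeterMatrix.E₆.Group →* Equiv.Perm (ℕ → ℤ),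
      (∀ j : Fin 6, φc (CoxeterMatrix.E₆.simple j) = reflPerm (AF e8Cart 6) j) ∧
      (∀ j < 6, AF e8Cart 6 j j = 2) ∧
      ∀ g : CoxeterMatrix.E₆.Group, (∀ i < 6, φc g (unitF i) = unitF i) → g = 1 := by
  obtain ⟨φ, h1, h2, _, h3⟩ := coxeter_main CoxeterMatrix.E₆ e8ML e8Cart [e8Level0, e8Level1, e8Level2, e8Level3, e8Level4, e8Level5]
    (by decide) (by intro i j; fin_cases i <;> fin_cases j <;> rfl) (by decide +kernel)
    (by decide +kernel)
  exact ⟨φ, h1, h2, h3⟩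

theorem braidChk_E6 : braidChk chevE6 e8ML = true := by decide +kernel

theorem cartChk_E6 : cartChk chevE6 e8Cart = true := by decide +kernel

theorem adjChk_E6 : adjChk e8Cart 6 [[4, 3, 5, 6, 4, 2], [3, 6, 6, 9, 6, 3], [5, 6, 10, 12, 8, 4], [6, 9, 12, 18, 12, 6], [4, 6, 8, 12, 10, 5], [2, 3, 4, 6, 5, 4]] 3 = true := by decide +kernel

theorem weyl_E6 {F : Type*} [Field F] :
    ∃ φ : ↥(chevE6.monomialSubgroup F) →* CoxeterMatrix.E₆.Group, Function.Surjective φ ∧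
      φ.ker = (chevE6.diagonalSubgroup F).subgroupOf (chevE6.monomialSubgroup F) ∧
      ∀ (i : Fin 6) (g : ↥(chevE6.monomialSubgroup F)),
        ((g : GL chevE6.Idx F) : Matrix chevE6.Idx chevE6.Idx F) = chevE6.nMat F (chevE6.simple i) 1 →
          φ g = CoxeterMatrix.E₆.simple i :=
  weyl_main chevE6 (by simp) CoxeterMatrix.E₆ rfl e8ML e8Cart
    (by intro i j; fin_cases i <;> fin_cases j <;> rfl) braidChk_E6 cartChk_E6
    cox_faithful_E6 [[4, 3, 5, 6, 4, 2], [3, 6, 6, 9, 6, 3], [5, 6, 10, 12, 8, 4], [6, 9, 12, 18, 12, 6], [4, 6, 8, 12, 10, 5], [2, 3, 4, 6, 5, 4]] 3 adjChk_E6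

theorem cox_faithful_E7 : ∃ φc : CoxeterMatrix.E₇.Group →* Equiv.Perm (ℕ → ℤ),
      (∀ j : Fin 7, φc (CoxeterMatrix.E₇.simple j) = reflPerm (AF e8Cart 7) j) ∧
      (∀ j < 7, AF e8Cart 7 j j = 2) ∧
      ∀ g : CoxeterMatrix.E₇.Group, (∀ i < 7, φc g (unitF i) = unitF i) → g = 1 := by
  obtain ⟨φ, h1, h2, _, h3⟩ := coxeter_main CoxeterMatrix.E₇ e8ML e8Cart [e8Level0, e8Level1, e8Level2, e8Level3, e8Level4, e8Level5, e8Level6]
    (by decide) (by intro i j; fin_cases i <;> fin_cases j <;> rfl) (by decide +kernel)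
    (by decide +kernel)
  exact ⟨φ, h1, h2, h3⟩

theorem braidChk_E7 : braidChk chevE7 e8ML = true := by decide +kernel

theorem cartChk_E7 : cartChk chevE7 e8Cart = true := by decide +kernel

theorem adjChk_E7 : adjChk e8Cart 7 [[4, 4, 6, 8, 6, 4, 2], [4, 7, 8, 12, 9, 6, 3], [6, 8, 12, 16, 12, 8, 4], [8, 12, 16, 24, 18, 12, 6], [6, 9, 12, 18, 15, 10, 5], [4, 6, 8, 12, 10, 8, 4], [2, 3, 4, 6, 5, 4, 3]] 2 = true := by decide +kernel

theorem weyl_E7 {F : Type*} [Field F] :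
    ∃ φ : ↥(chevE7.monomialSubgroup F) →* CoxeterMatrix.E₇.Group, Function.Surjective φ ∧
      φ.ker = (chevE7.diagonalSubgroup F).subgroupOf (chevE7.monomialSubgroup F) ∧
      ∀ (i : Fin 7) (g : ↥(chevE7.monomialSubgroup F)),
        ((g : GL chevE7.Idx F) : Matrix chevE7.Idx chevE7.Idx F) = chevE7.nMat F (chevE7.simple i) 1 →
          φ g = CoxeterMatrix.E₇.simple i :=
  weyl_main chevE7 (by simp) CoxeterMatrix.E₇ rfl e8ML e8Cart
    (by intro i j; fin_cases i <;> fin_cases j <;> rfl) braidChk_E7 cartChk_E7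
    cox_faithful_E7 [[4, 4, 6, 8, 6, 4, 2], [4, 7, 8, 12, 9, 6, 3], [6, 8, 12, 16, 12, 8, 4], [8, 12, 16, 24, 18, 12, 6], [6, 9, 12, 18, 15, 10, 5], [4, 6, 8, 12, 10, 8, 4], [2, 3, 4, 6, 5, 4, 3]] 2 adjChk_E7

theorem cox_faithful_E8 : ∃ φc : CoxeterMatrix.E₈.Group →* Equiv.Perm (ℕ → ℤ),
      (∀ j : Fin 8, φc (CoxeterMatrix.E₈.simple j) = reflPerm (AF e8Cart 8) j) ∧
      (∀ j < 8, AF e8Cart 8 j j = 2) ∧
      ∀ g : CoxeterMatrix.E₈.Group, (∀ i < 8, φc g (unitF i) = unitF i) → g = 1 := by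
  obtain ⟨φ, h1, h2, _, h3⟩ := coxeter_main CoxeterMatrix.E₈ e8ML e8Cart e8Levels
    (by decide) (by intro i j; fin_cases i <;> fin_cases j <;> rfl) (by decide +kernel)
    (by decide +kernel)
  exact ⟨φ, h1, h2, h3⟩

theorem braidChk_E8 : braidChk chevE8 e8ML = true := by decide +kernel

theorem cartChk_E8 : cartChk chevE8 e8Cart = true := by decide +kernel

theorem adjChk_E8 : adjChk e8Cart 8 [[4, 5, 7, 10, 8, 6, 4, 2], [5, 8, 10, 15, 12, 9, 6, 3], [7, 10, 14, 20, 16, 12, 8, 4], [10, 15, 20, 30, 24, 18, 12, 6], [8, 12, 16, 24, 20, 15, 10, 5], [6, 9, 12, 18, 15, 12, 8, 4], [4, 6, 8, 12, 10, 8, 6, 3], [2, 3, 4, 6, 5, 4, 3, 2]] 1 = true := by decide +kernel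

theorem weyl_E8 {F : Type*} [Field F] :
    ∃ φ : ↥(chevE8.monomialSubgroup F) →* CoxeterMatrix.E₈.Group, Function.Surjective φ ∧
      φ.ker = (chevE8.diagonalSubgroup F).subgroupOf (chevE8.monomialSubgroup F) ∧
      ∀ (i : Fin 8) (g : ↥(chevE8.monomialSubgroup F)),
        ((g : GL chevE8.Idx F) : Matrix chevE8.Idx chevE8.Idx F) = chevE8.nMat F (chevE8.simple i) 1 →
          φ g = CoxeterMatrix.E₈.simple i :=
  weyl_main chevE8 (by simp) CoxeterMatrix.E₈ rfl e8ML e8Cart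
    (by intro i j; fin_cases i <;> fin_cases j <;> rfl) braidChk_E8 cartChk_E8
    cox_faithful_E8 [[4, 5, 7, 10, 8, 6, 4, 2], [5, 8, 10, 15, 12, 9, 6, 3], [7, 10, 14, 20, 16, 12, 8, 4], [10, 15, 20, 30, 24, 18, 12, 6], [8, 12, 16, 24, 20, 15, 10, 5], [6, 9, 12, 18, 15, 12, 8, 4], [4, 6, 8, 12, 10, 8, 6, 3], [2, 3, 4, 6, 5, 4, 3, 2]] 1 adjChk_E8

end Cfsg.Agent.Lib.Helper25
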