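import Cfsg.Agent.Lib.Helper25.ChevOrderFinal
import Cfsg.Agent.Lib.Helper25.ChevWeylData

set_option autoImplicit false

namespace Cfsg.Agent.Lib.Helper25

open Cfsg.Lie Matrix
open Cfsg.Agent.Lib.Helper24

/-! ### The order formulas of the seven types, given the order of `H` -/

theorem relOK_G2 : ((List.range 2).all fun i => (List.range 2).all fun j =>
    relOK (AF g2Cart 2) (tbl g2ML i j) i j) = true := by decide +kernel

theorem chainOK_G2 : chainOK g2ML g2Cart 2 0 g2Levels = true := by decide +kernel

theorem posChk_G2 : posChkAll chevG2 0 g2Levels = true := by decide +kernel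

theorem poin_G2 : poincare g2Levels = pprod ([2, 6].map geom) := by decide +kernel

theorem order_G2 {F : Type*} [Field F] [Finite F] (d : ℕ)
    (hH : d * Nat.card ↥(chevG2.diagonalSubgroup F) = (Nat.card F - 1) ^ chevG2.rank) :
    d * Nat.card ↥(chevG2.group F) =
      Nat.card F ^ (chevG2.nroots / 2) * ([2, 6].map fun e => Nat.card F ^ e - 1).prod :=
  order_formula chevG2 (by simp) CoxeterMatrix.G₂ rfl weyl_G2 g2ML g2Cart g2Levels (by decide)
    (by intro i j; fin_cases i <;> fin_cases j <;> rfl) relOK_G2 chainOK_G2 posChk_G2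
    [2, 6] poin_G2 rfl d hH

theorem relOK_B2 : ((List.range 2).all fun i => (List.range 2).all fun j =>
    relOK (AF b2Cart 2) (tbl b2ML i j) i j) = true := by decide +kernel

theorem chainOK_B2 : chainOK b2ML b2Cart 2 0 b2Levels = true := by decide +kernel

theorem posChk_B2 : posChkAll chevB2 0 b2Levels = true := by decide +kernel

theorem poin_B2 : poincare b2Levels = pprod ([2, 4].map geom) := by decide +kernel

theorem order_B2 {F : Type*} [Field F] [Finite F] (d : ℕ)
    (hH : d * Nat.card ↥(chevB2.diagonalSubgroup F) = (Nat.card F - 1) ^ chevB2.rank) :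
    d * Nat.card ↥(chevB2.group F) =
      Nat.card F ^ (chevB2.nroots / 2) * ([2, 4].map fun e => Nat.card F ^ e - 1).prod :=
  order_formula chevB2 (by simp) (CoxeterMatrix.B 2) rfl weyl_B2 b2ML b2Cart b2Levels (by decide)
    (by intro i j; fin_cases i <;> fin_cases j <;> rfl) relOK_B2 chainOK_B2 posChk_B2
    [2, 4] poin_B2 rfl d hH

theorem relOK_D4 : ((List.range 4).all fun i => (List.range 4).all fun j =>
    relOK (AF d4Cart 4) (tbl d4ML i j) i j) = true := by decide +kernel

theorem chainOK_D4 : chainOK d4ML d4Cart 4 0 d4Levels = true := by decide +kernel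

theorem posChk_D4 : posChkAll chevD4 0 d4Levels = true := by decide +kernel

theorem poin_D4 : poincare d4Levels = pprod ([2, 4, 4, 6].map geom) := by decide +kernel

theorem order_D4 {F : Type*} [Field F] [Finite F] (d : ℕ)
    (hH : d * Nat.card ↥(chevD4.diagonalSubgroup F) = (Nat.card F - 1) ^ chevD4.rank) :
    d * Nat.card ↥(chevD4.group F) =
      Nat.card F ^ (chevD4.nroots / 2) * ([2, 4, 4, 6].map fun e => Nat.card F ^ e - 1).prod :=
  order_formula chevD4 (by simp) Cfsg.Lie.coxeterD4 rfl weyl_D4 d4ML d4Cart d4Levels (by decide)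
    (by intro i j; fin_cases i <;> fin_cases j <;> rfl) relOK_D4 chainOK_D4 posChk_D4
    [2, 4, 4, 6] poin_D4 rfl d hH

theorem relOK_F4 : ((List.range 4).all fun i => (List.range 4).all fun j =>
    relOK (AF f4Cart 4) (tbl f4ML i j) i j) = true := by decide +kernel

theorem chainOK_F4 : chainOK f4ML f4Cart 4 0 f4Levels = true := by decide +kernel

theorem posChk_F4 : posChkAll chevF4 0 f4Levels = true := by decide +kernel

theorem poin_F4 : poincare f4Levels = pprod ([2, 6, 8, 12].map geom) := by decide +kernel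

theorem order_F4 {F : Type*} [Field F] [Finite F] (d : ℕ)
    (hH : d * Nat.card ↥(chevF4.diagonalSubgroup F) = (Nat.card F - 1) ^ chevF4.rank) :
    d * Nat.card ↥(chevF4.group F) =
      Nat.card F ^ (chevF4.nroots / 2) * ([2, 6, 8, 12].map fun e => Nat.card F ^ e - 1).prod :=
  order_formula chevF4 (by simp) CoxeterMatrix.F₄ rfl weyl_F4 f4ML f4Cart f4Levels (by decide)
    (by intro i j; fin_cases i <;> fin_cases j <;> rfl) relOK_F4 chainOK_F4 posChk_F4
    [2, 6, 8, 12] poin_F4 rfl d hH

theorem relOK_E6 : ((List.range 6).all fun i => (List.range 6).all fun j =>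
    relOK (AF e8Cart 6) (tbl e8ML i j) i j) = true := by decide +kernel

theorem chainOK_E6 : chainOK e8ML e8Cart 6 0 [e8Level0, e8Level1, e8Level2, e8Level3, e8Level4, e8Level5] = true := by decide +kernel

theorem posChk_E6 : posChkAll chevE6 0 [e8Level0, e8Level1, e8Level2, e8Level3, e8Level4, e8Level5] = true := by decide +kernel

theorem poin_E6 : poincare [e8Level0, e8Level1, e8Level2, e8Level3, e8Level4, e8Level5] = pprod ([2, 5, 6, 8, 9, 12].map geom) := by decide +kernel

theorem order_E6 {F : Type*} [Field F] [Finite F] (d : ℕ)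
    (hH : d * Nat.card ↥(chevE6.diagonalSubgroup F) = (Nat.card F - 1) ^ chevE6.rank) :
    d * Nat.card ↥(chevE6.group F) =
      Nat.card F ^ (chevE6.nroots / 2) * ([2, 5, 6, 8, 9, 12].map fun e => Nat.card F ^ e - 1).prod :=
  order_formula chevE6 (by simp) CoxeterMatrix.E₆ rfl weyl_E6 e8ML e8Cart [e8Level0, e8Level1, e8Level2, e8Level3, e8Level4, e8Level5] (by decide)
    (by intro i j; fin_cases i <;> fin_cases j <;> rfl) relOK_E6 chainOK_E6 posChk_E6
    [2, 5, 6, 8, 9, 12] poin_E6 rfl d hH

theorem relOK_E7 : ((List.range 7).all fun i => (List.range 7).all fun j =>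
    relOK (AF e8Cart 7) (tbl e8ML i j) i j) = true := by decide +kernel

theorem chainOK_E7 : chainOK e8ML e8Cart 7 0 [e8Level0, e8Level1, e8Level2, e8Level3, e8Level4, e8Level5, e8Level6] = true := by decide +kernel

theorem posChk_E7 : posChkAll chevE7 0 [e8Level0, e8Level1, e8Level2, e8Level3, e8Level4, e8Level5, e8Level6] = true := by decide +kernel

theorem poin_E7 : poincare [e8Level0, e8Level1, e8Level2, e8Level3, e8Level4, e8Level5, e8Level6] = pprod ([2, 6, 8, 10, 12, 14, 18].map geom) := by decide +kernel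

theorem order_E7 {F : Type*} [Field F] [Finite F] (d : ℕ)
    (hH : d * Nat.card ↥(chevE7.diagonalSubgroup F) = (Nat.card F - 1) ^ chevE7.rank) :
    d * Nat.card ↥(chevE7.group F) =
      Nat.card F ^ (chevE7.nroots / 2) * ([2, 6, 8, 10, 12, 14, 18].map fun e => Nat.card F ^ e - 1).prod :=
  order_formula chevE7 (by simp) CoxeterMatrix.E₇ rfl weyl_E7 e8ML e8Cart [e8Level0, e8Level1, e8Level2, e8Level3, e8Level4, e8Level5, e8Level6] (by decide)
    (by intro i j; fin_cases i <;> fin_cases j <;> rfl) relOK_E7 chainOK_E7 posChk_E7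
    [2, 6, 8, 10, 12, 14, 18] poin_E7 rfl d hH

theorem relOK_E8 : ((List.range 8).all fun i => (List.range 8).all fun j =>
    relOK (AF e8Cart 8) (tbl e8ML i j) i j) = true := by decide +kernel

theorem chainOK_E8 : chainOK e8ML e8Cart 8 0 e8Levels = true := by decide +kernel

theorem posChk_E8 : posChkAll chevE8 0 e8Levels = true := by decide +kernel

theorem poin_E8 : poincare e8Levels = pprod ([2, 8, 12, 14, 18, 20, 24, 30].map geom) := by decide +kernel

theorem order_E8 {F : Type*} [Field F] [Finite F] (d : ℕ)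
    (hH : d * Nat.card ↥(chevE8.diagonalSubgroup F) = (Nat.card F - 1) ^ chevE8.rank) :
    d * Nat.card ↥(chevE8.group F) =
      Nat.card F ^ (chevE8.nroots / 2) * ([2, 8, 12, 14, 18, 20, 24, 30].map fun e => Nat.card F ^ e - 1).prod :=
  order_formula chevE8 (by simp) CoxeterMatrix.E₈ rfl weyl_E8 e8ML e8Cart e8Levels (by decide)
    (by intro i j; fin_cases i <;> fin_cases j <;> rfl) relOK_E8 chainOK_E8 posChk_E8
    [2, 8, 12, 14, 18, 20, 24, 30] poin_E8 rfl d hH

end Cfsg.Agent.Lib.Helper25
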