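import Cfsg.Agent.Lib.Helper25.ChevPair2

/-!
# The table of words for pairs of long root subgroups of `E₈`
-/

set_option autoImplicit false

namespace Cfsg.Agent.Lib.Helper25

open Cfsg Cfsg.Lie Cfsg.Agent.Lib.Helper24

/-- Words carrying the highest root and a given negative root of its orbit to positive roots. -/
def pairTabE8 : List (ℕ × List ℕ) :=
    [(1, [7, 6, 5, 4, 3, 2, 1, 3, 4, 5, 6, 0, 2, 3, 4, 5, 1, 3, 4, 2, 3, 0, 2, 1, 3, 4, 5, 6]), (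
    2, [7, 6, 5, 4, 3, 2, 1, 3, 4, 5, 6, 0, 2, 3, 4, 5, 1, 3, 4, 2, 3, 0, 2, 1, 3, 4, 5]), (
    3, [7, 6, 5, 4, 3, 2, 1, 3, 4, 5, 6, 0, 2, 3, 4, 5, 1, 3, 4, 2, 3, 0, 2, 1, 3, 4]), (
    4, [7, 6, 5, 4, 3, 2, 1, 3, 4, 5, 6, 0, 2, 3, 4, 5, 1, 3, 4, 2, 3, 0, 2, 1, 3]), (
    5, [7, 6, 5, 4, 3, 2, 1, 3, 4, 5, 6, 0, 2, 3, 4, 5, 1, 3, 4, 2, 3, 0, 2, 1]), (
    6, [7, 6, 5, 4, 3, 2, 1, 3, 4, 5, 6, 0, 2, 3, 4, 5, 1, 3, 4, 2, 3, 1, 0]), (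
    7, [7, 6, 5, 4, 3, 2, 1, 3, 4, 5, 6, 0, 2, 3, 4, 5, 1, 3, 4, 2, 3, 0, 2]), (
    8, [7, 6, 5, 4, 3, 2, 1, 3, 4, 5, 6, 0, 2, 3, 4, 5, 1, 3, 4, 2, 3, 0]), (
    9, [7, 6, 5, 4, 3, 2, 1, 3, 4, 5, 6, 0, 2, 3, 4, 5, 1, 3, 4, 2, 0]), (
    10, [7, 6, 5, 4, 3, 2, 1, 3, 4, 5, 6, 0, 2, 3, 4, 5, 1, 3, 2, 0]), (
    11, [7, 6, 5, 4, 3, 2, 1, 3, 4, 5, 6, 0, 2, 3, 4, 1, 3, 2, 0]), (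
    12, [7, 6, 5, 4, 3, 2, 1, 3, 4, 5, 0, 2, 3, 4, 1, 3, 2, 0]), (
    13, [6, 5, 4, 3, 2, 1, 3, 4, 5, 0, 2, 3, 4, 1, 3, 2, 0]), (
    14, [7, 6, 5, 4, 3, 2, 1, 3, 4, 5, 6, 0, 2, 3, 4, 5, 1, 3, 4, 2, 3, 1]), (
    15, [7, 6, 5, 4, 3, 2, 1, 3, 4, 5, 6, 0, 2, 3, 4, 5, 1, 3, 4, 2, 3]), (
    16, [7, 6, 5, 4, 3, 2, 1, 3, 4, 5, 6, 0, 2, 3, 4, 5, 1, 3, 4, 2]), (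
    17, [7, 6, 5, 4, 3, 2, 1, 3, 4, 5, 6, 0, 2, 3, 4, 5, 1, 3, 2]), (
    18, [7, 6, 5, 4, 3, 2, 1, 3, 4, 5, 6, 0, 2, 3, 4, 1, 3, 2]), (
    19, [7, 6, 5, 4, 3, 2, 1, 3, 4, 5, 0, 2, 3, 4, 1, 3, 2]), (
    20, [6, 5, 4, 3, 2, 1, 3, 4, 5, 0, 2, 3, 4, 1, 3, 2]), (
    21, [7, 6, 5, 4, 3, 2, 1, 3, 4, 5, 6, 0, 2, 3, 4, 5, 1, 3, 4]), (
    22, [7, 6, 5, 4, 3, 2, 1, 3, 4, 5, 6, 0, 2, 3, 4, 5, 1, 3]), (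
    23, [7, 6, 5, 4, 3, 2, 1, 3, 4, 5, 6, 0, 2, 3, 4, 1, 3]), (
    24, [7, 6, 5, 4, 3, 2, 1, 3, 4, 5, 0, 2, 3, 4, 1, 3]), (
    25, [6, 5, 4, 3, 2, 1, 3, 4, 5, 0, 2, 3, 4, 1, 3]), (
    26, [7, 6, 5, 4, 3, 2, 1, 3, 4, 5, 6, 0, 2, 3, 4, 5, 1]), (
    27, [7, 6, 5, 4, 3, 2, 1, 3, 4, 5, 6, 0, 2, 3, 4, 1]), (
    28, [7, 6, 5, 4, 3, 2, 1, 3, 4, 5, 0, 2, 3, 4, 1]), (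
    29, [6, 5, 4, 3, 2, 1, 3, 4, 5, 0, 2, 3, 4, 1]), (
    30, [7, 6, 5, 4, 3, 2, 1, 3, 4, 5, 6, 0, 2, 3, 1]), (
    31, [7, 6, 5, 4, 3, 2, 1, 3, 4, 5, 0, 2, 3, 1]), (
    32, [6, 5, 4, 3, 2, 1, 3, 4, 5, 0, 2, 3, 1]), (
    33, [7, 6, 5, 4, 3, 2, 1, 3, 4, 0, 2, 3, 1]), (34, [6, 5, 4, 3, 2, 1, 3, 4, 0, 2, 3, 1]), (
    35, [5, 4, 3, 2, 1, 3, 4, 0, 2, 3, 1]), (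
    36, [7, 6, 5, 4, 3, 2, 1, 3, 4, 5, 6, 0, 2, 3, 4, 5]), (
    37, [7, 6, 5, 4, 3, 2, 1, 3, 4, 5, 6, 0, 2, 3, 4]), (
    38, [7, 6, 5, 4, 3, 2, 1, 3, 4, 5, 0, 2, 3, 4]), (
    39, [6, 5, 4, 3, 2, 1, 3, 4, 5, 0, 2, 3, 4]), (
    40, [7, 6, 5, 4, 3, 2, 1, 3, 4, 5, 6, 0, 2, 3]), (
    41, [7, 6, 5, 4, 3, 2, 1, 3, 4, 5, 0, 2, 3]), (42, [6, 5, 4, 3, 2, 1, 3, 4, 5, 0, 2, 3]), (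
    43, [7, 6, 5, 4, 3, 2, 1, 3, 4, 0, 2, 3]), (44, [6, 5, 4, 3, 2, 1, 3, 4, 0, 2, 3]), (
    45, [5, 4, 3, 2, 1, 3, 4, 0, 2, 3]), (46, [7, 6, 5, 4, 3, 2, 1, 3, 4, 5, 6, 0, 2]), (
    47, [7, 6, 5, 4, 3, 2, 1, 3, 4, 5, 0, 2]), (48, [6, 5, 4, 3, 2, 1, 3, 4, 5, 0, 2]), (
    49, [7, 6, 5, 4, 3, 2, 1, 3, 4, 0, 2]), (50, [6, 5, 4, 3, 2, 1, 3, 4, 0, 2]), (
    51, [5, 4, 3, 2, 1, 3, 4, 0, 2]), (52, [7, 6, 5, 4, 3, 2, 1, 3, 0, 2]), (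
    53, [6, 5, 4, 3, 2, 1, 3, 0, 2]), (54, [5, 4, 3, 2, 1, 3, 0, 2]), (
    55, [4, 3, 2, 1, 3, 0, 2]), (56, [7, 6, 5, 4, 3, 2, 1, 3, 4, 5, 6, 0]), (
    57, [7, 6, 5, 4, 3, 2, 1, 3, 4, 5, 0]), (58, [6, 5, 4, 3, 2, 1, 3, 4, 5, 0]), (
    59, [7, 6, 5, 4, 3, 2, 1, 3, 4, 0]), (60, [6, 5, 4, 3, 2, 1, 3, 4, 0]), (
    61, [5, 4, 3, 2, 1, 3, 4, 0]), (62, [7, 6, 5, 4, 3, 2, 1, 3, 0]), (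
    63, [6, 5, 4, 3, 2, 1, 3, 0]), (64, [5, 4, 3, 2, 1, 3, 0]), (65, [4, 3, 2, 1, 3, 0]), (
    66, [7, 6, 5, 4, 3, 2, 1, 0]), (67, [6, 5, 4, 3, 2, 1, 0]), (68, [5, 4, 3, 2, 1, 0]), (
    69, [4, 3, 2, 1, 0]), (70, [3, 2, 1, 0]), (71, [7, 6, 5, 4, 3, 2, 0]), (
    72, [6, 5, 4, 3, 2, 0]), (73, [5, 4, 3, 2, 0]), (74, [4, 3, 2, 0]), (75, [3, 2, 0]), (
    76, [2, 0]), (77, [0]), (78, [7, 6, 5, 4, 3, 2, 1, 3, 4, 5, 6]), (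
    79, [7, 6, 5, 4, 3, 2, 1, 3, 4, 5]), (80, [6, 5, 4, 3, 2, 1, 3, 4, 5]), (
    81, [7, 6, 5, 4, 3, 2, 1, 3, 4]), (82, [6, 5, 4, 3, 2, 1, 3, 4]), (
    83, [5, 4, 3, 2, 1, 3, 4]), (84, [7, 6, 5, 4, 3, 2, 1, 3]), (85, [6, 5, 4, 3, 2, 1, 3]), (
    86, [5, 4, 3, 2, 1, 3]), (87, [4, 3, 2, 1, 3]), (88, [7, 6, 5, 4, 3, 2, 1]), (
    89, [6, 5, 4, 3, 2, 1]), (90, [5, 4, 3, 2, 1]), (91, [4, 3, 2, 1]), (92, [3, 2, 1]), (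
    93, [7, 6, 5, 4, 3, 1]), (94, [6, 5, 4, 3, 1]), (95, [5, 4, 3, 1]), (96, [4, 3, 1]), (
    97, [3, 1]), (98, [1]), (99, [7, 6, 5, 4, 3, 2]), (100, [6, 5, 4, 3, 2]), (
    101, [5, 4, 3, 2]), (102, [4, 3, 2]), (103, [3, 2]), (104, [2]), (105, [7, 6, 5, 4, 3]), (
    106, [6, 5, 4, 3]), (107, [5, 4, 3]), (108, [4, 3]), (109, [3]), (110, [7, 6, 5, 4]), (
    111, [6, 5, 4]), (112, [5, 4]), (113, [4]), (114, [7, 6, 5]), (115, [6, 5]), (116, [5]), (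
    117, [7, 6]), (118, [6]), (119, [7])]

end Cfsg.Agent.Lib.Helper25
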