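import Cfsg.Agent.Lib.Helper26.DcDefs

set_option autoImplicit false

/-! Piece DC-SANDWICH of project ORD (S1068): the sandwich argument for double-coset sizes. -/

namespace Cfsg.Agent.Lib.Helper26.DcAbs

variable {Γ : Type*} [Group Γ]

theorem sandwich_dc_one (B : Subgroup Γ) : dc B 1 = (B : Set Γ) := by
  ext g
  rw [mem_dc]
  constructor
  · rintro ⟨b, hb, b', hb', rfl⟩
    simpa using B.mul_mem hb hb'
  · intro hg
    exact ⟨g, hg, 1, B.one_mem, by simp⟩

theorem sandwich_prod_le (B : Subgroup Γ) (letter : Bool → Γ) (Q b₀ : ℕ)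
    (h1 : Nat.card (dc B (letter false)) ≤ b₀ * Q)
    (h2 : Nat.card (dc B (letter true)) ≤ b₀ * Q ^ 2) (L : List Bool) :
    ((L.map letter).map fun s => Nat.card (dc B s)).prod ≤
      b₀ ^ L.length * Q ^ (L.map fun l => cond l 2 1).sum := by
  induction L with
  | nil => simp
  | cons l L ih =>
    simp only [List.map_cons, List.prod_cons, List.length_cons, List.sum_cons]
    have hl : Nat.card (dc B (letter l)) ≤ b₀ * Q ^ (cond l 2 1) := by
      cases l
      · simpa using h1
      · simpa using h2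
    calc Nat.card (dc B (letter l)) * ((L.map letter).map fun s => Nat.card (dc B s)).prod
        ≤ (b₀ * Q ^ (cond l 2 1)) * (b₀ ^ L.length * Q ^ (L.map fun l => cond l 2 1).sum) :=
          Nat.mul_le_mul hl ih
      _ = b₀ ^ (L.length + 1) * Q ^ (cond l 2 1 + (L.map fun l => cond l 2 1).sum) := by
          rw [pow_succ, pow_add]; ring

/-- piece DC-SANDWICH: if the two letters have at most `b₀ Q`, `b₀ Q²` cosets, and the word `W`
of total weight `12` has at least `Q¹² |B|`, then `|B| = b₀` and every suffix of `W` has exactly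
`|B| Q^(weight)` elements. -/
theorem sandwich [Finite Γ] (B : Subgroup Γ) (letter : Bool → Γ) (Q b₀ : ℕ) (hQ : 0 < Q)
    (hword : ∀ (L : List Γ) (n : Γ), Nat.card (dc B (L.prod * n)) * Nat.card B ^ L.length ≤
      (L.map fun s => Nat.card (dc B s)).prod * Nat.card (dc B n))
    (hb : b₀ ≤ Nat.card B)
    (h1 : Nat.card (dc B (letter false)) ≤ b₀ * Q)
    (h2 : Nat.card (dc B (letter true)) ≤ b₀ * Q ^ 2)
    (W : List Bool) (hW : (W.map fun l => cond l 2 1).sum = 12)
    (hlow : Q ^ 12 * Nat.card B ≤ Nat.card (dc B (W.map letter).prod)) :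
    Nat.card B = b₀ ∧ ∀ L₁ L₂ : List Bool, W = L₁ ++ L₂ →
      Nat.card (dc B (L₂.map letter).prod) =
        Nat.card B * Q ^ (L₂.map fun l => cond l 2 1).sum := by
  have hbpos : 0 < Nat.card B := Nat.card_pos
  have hone : Nat.card (dc B 1) = Nat.card B := by rw [sandwich_dc_one]; rfl
  have key : ∀ (L : List Bool) (n : Γ),
      Nat.card (dc B ((L.map letter).prod * n)) * Nat.card B ^ L.length ≤
        b₀ ^ L.length * Q ^ (L.map fun l => cond l 2 1).sum * Nat.card (dc B n) := by
    intro L n
    have h := hword (L.map letter) n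
    rw [List.length_map] at h
    exact h.trans (Nat.mul_le_mul_right _ (sandwich_prod_le B letter Q b₀ h1 h2 L))
  have hWne : W.length ≠ 0 := by
    intro h0
    rw [List.length_eq_zero_iff] at h0
    subst h0
    simp at hW
  have hbb : Nat.card B = b₀ := by
    have h := key W 1
    rw [mul_one, hone, hW] at h
    have h' : Q ^ 12 * Nat.card B * Nat.card B ^ W.length ≤
        b₀ ^ W.length * Q ^ 12 * Nat.card B :=
      (Nat.mul_le_mul_right _ hlow).trans h
    have h'' : Nat.card B ^ W.length * (Q ^ 12 * Nat.card B) ≤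
        b₀ ^ W.length * (Q ^ 12 * Nat.card B) := by
      calc Nat.card B ^ W.length * (Q ^ 12 * Nat.card B)
          = Q ^ 12 * Nat.card B * Nat.card B ^ W.length := by ring
        _ ≤ b₀ ^ W.length * Q ^ 12 * Nat.card B := h'
        _ = b₀ ^ W.length * (Q ^ 12 * Nat.card B) := by ring
    have h3 : Nat.card B ^ W.length ≤ b₀ ^ W.length :=
      Nat.le_of_mul_le_mul_right h'' (Nat.mul_pos (pow_pos hQ _) hbpos)
    have h4 : Nat.card B ≤ b₀ := (Nat.pow_le_pow_iff_left hWne).mp h3
    exact le_antisymm h4 hb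
  refine ⟨hbb, ?_⟩
  intro L₁ L₂ hWL
  have hE : (L₁.map fun l => cond l 2 1).sum + (L₂.map fun l => cond l 2 1).sum = 12 := by
    rw [← hW, hWL, List.map_append, List.sum_append]
  generalize (L₁.map fun l => cond l 2 1).sum = E₁ at hE
  generalize hE₂ : (L₂.map fun l => cond l 2 1).sum = E₂ at hE
  apply le_antisymm
  · have h := key L₂ 1
    rw [mul_one, hone, ← hbb, hE₂] at h
    have h' : Nat.card (dc B (L₂.map letter).prod) * Nat.card B ^ L₂.length ≤
        (Nat.card B * Q ^ E₂) * Nat.card B ^ L₂.length := by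
      calc Nat.card (dc B (L₂.map letter).prod) * Nat.card B ^ L₂.length
          ≤ Nat.card B ^ L₂.length * Q ^ E₂ * Nat.card B := h
        _ = (Nat.card B * Q ^ E₂) * Nat.card B ^ L₂.length := by ring
    exact Nat.le_of_mul_le_mul_right h' (pow_pos hbpos _)
  · have h := key L₁ ((L₂.map letter).prod)
    rw [← List.prod_append, ← List.map_append, ← hWL, ← hbb] at h
    have hE₁' : (L₁.map fun l => cond l 2 1).sum + E₂ = 12 := by
      rw [← hE₂, ← hW, hWL, List.map_append, List.sum_append]
    have h' : (Nat.card B * Q ^ E₂) *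
          (Q ^ (L₁.map fun l => cond l 2 1).sum * Nat.card B ^ L₁.length) ≤
        Nat.card (dc B (L₂.map letter).prod) *
          (Q ^ (L₁.map fun l => cond l 2 1).sum * Nat.card B ^ L₁.length) := by
      calc (Nat.card B * Q ^ E₂) *
            (Q ^ (L₁.map fun l => cond l 2 1).sum * Nat.card B ^ L₁.length)
          = Q ^ 12 * Nat.card B * Nat.card B ^ L₁.length := by
            rw [← hE₁', pow_add]; ring
        _ ≤ Nat.card (dc B (W.map letter).prod) * Nat.card B ^ L₁.length :=
            Nat.mul_le_mul_right _ hlow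
        _ ≤ Nat.card B ^ L₁.length * Q ^ (L₁.map fun l => cond l 2 1).sum *
              Nat.card (dc B (L₂.map letter).prod) := h
        _ = Nat.card (dc B (L₂.map letter).prod) *
            (Q ^ (L₁.map fun l => cond l 2 1).sum * Nat.card B ^ L₁.length) := by ring
    exact Nat.le_of_mul_le_mul_right h' (Nat.mul_pos (pow_pos hQ _) (pow_pos hbpos _))

end Cfsg.Agent.Lib.Helper26.DcAbs
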