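import Mathlib
import Cfsg.Agent.Lib.Helper25.ChevEval
import Cfsg.Agent.Lib.Helper25.InvChevDefs

/-!
# Involution classes: vectors modulo two as bit masks

Definitions of the checks (no proofs): the action of a root element `x_r(1)` on vectors with
coefficients modulo two, coded as natural numbers (bit `c` = coefficient of the basis vector with
code `c`, `h_i ↦ i`, `e_u ↦ rank + u`), equality of two products of root elements, fixed-vector
and range certificates.
-/

set_option autoImplicit false

namespace Cfsg.Agent.Lib.Helper25

open Cfsg Cfsg.Lie Matrix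

/-- The column of `x_r(1)` at the basis vector `code`, modulo two, as a bit mask. -/
def col2 (D : ChevalleyDatum) (r code : ℕ) : ℕ :=
  (colX D r 1 code).foldl (fun (m : ℕ) (e : ℕ × ℤ) => if e.2 % 2 = 0 then m else m ^^^ (1 <<< e.1)) 0

/-- Apply `x_r(1)` to a vector modulo two. -/
def app2 (D : ChevalleyDatum) (r : ℕ) (m : ℕ) : ℕ :=
  (List.range (D.rank + D.nroots)).foldl
    (fun (acc : ℕ) (code : ℕ) => if m.testBit code then acc ^^^ col2 D r code else acc) 0

/-- Apply `x_{r_1}(1) ⋯ x_{r_k}(1)` to a vector modulo two. -/
def apps2 (D : ChevalleyDatum) (rs : List ℕ) (m : ℕ) : ℕ := rs.foldr (app2 D) m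

/-- The vector of a bit mask. -/
def vec2 (F : Type*) [Field F] (D : ChevalleyDatum) (m : ℕ) : D.Idx → F :=
  fun row => if m.testBit (codeOf D row) then 1 else 0

/-- Two products of root elements agree modulo two on all basis vectors. -/
def wordEq2 (D : ChevalleyDatum) (A B : List ℕ) : Bool :=
  (List.range (D.rank + D.nroots)).all fun code =>
    apps2 D A (1 <<< code) == apps2 D B (1 <<< code)

/-- Triangularity of a list of (pivot, mask): each mask has its pivot bit, and no later mask
has it. -/
def triOK : List (ℕ × ℕ) → Bool
  | [] => true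
  | e :: rest => e.2.testBit e.1 && rest.all (fun f => !f.2.testBit e.1) && triOK rest

/-- Certificate of fixed vectors of `xProd Y`: pairs (pivot, mask), each mask fixed, triangular. -/
def fixChk2 (D : ChevalleyDatum) (Y : List ℕ) (K : List (ℕ × ℕ)) : Bool :=
  K.all (fun e => apps2 D Y e.2 == e.2 && decide (e.2 < 2 ^ (D.rank + D.nroots))) && triOK K

/-- Certificate for the rank of `xProd Y - 1`: pairs (code, pivot); the vectors
`(xProd Y - 1) e_code` are triangular with respect to the pivots. -/
def ranChk2 (D : ChevalleyDatum) (Y : List ℕ) (R : List (ℕ × ℕ)) : Bool :=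
  R.all (fun e => decide (e.1 < D.rank + D.nroots) && decide (e.2 < D.rank + D.nroots)) &&
  triOK (R.map fun e => (e.2, apps2 D Y (1 <<< e.1) ^^^ (1 <<< e.1)))

end Cfsg.Agent.Lib.Helper25
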