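import Mathlib
import Cfsg.Agent.Lib.Helper25.InvChk

/-!
# Involution classes: the comparison of two products of root elements, in chunks

The check `wordEq2` over all basis vectors follows from the checks over consecutive ranges of
codes (so that the kernel handles one range at a time).
-/

set_option autoImplicit false

namespace Cfsg.Agent.Lib.Helper25

open Cfsg Cfsg.Lie Matrix

/-- Two products of root elements agree modulo two on the basis vectors with codes
`lo, …, lo + len - 1`. -/
def wordEq2From (D : ChevalleyDatum) (A B : List ℕ) (lo len : ℕ) : Bool :=
  (List.range' lo len).all fun code => apps2 D A (1 <<< code) == apps2 D B (1 <<< code)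

theorem wordEq2_of_chunks (D : ChevalleyDatum) (A B : List ℕ) (k : ℕ) (hk : 0 < k)
    (h : ∀ i < (D.rank + D.nroots + k - 1) / k, wordEq2From D A B (i * k) k = true) :
    wordEq2 D A B = true := by
  unfold wordEq2
  rw [List.all_eq_true]
  intro code hcode
  rw [List.mem_range] at hcode
  have hi : code / k < (D.rank + D.nroots + k - 1) / k := by
    rw [Nat.div_lt_iff_lt_mul hk]
    have h1 := Nat.div_add_mod (D.rank + D.nroots + k - 1) k
    have h2 := Nat.mod_lt (D.rank + D.nroots + k - 1) hk
    have h3 : (D.rank + D.nroots + k - 1) / k * k = k * ((D.rank + D.nroots + k - 1) / k) :=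
      Nat.mul_comm _ _
    omega
  have h1 := h (code / k) hi
  unfold wordEq2From at h1
  rw [List.all_eq_true] at h1
  apply h1 code
  rw [List.mem_range'_1]
  have h2 := Nat.div_add_mod code k
  have h3 := Nat.mod_lt code hk
  have h4 : code / k * k = k * (code / k) := Nat.mul_comm _ _
  constructor <;> omega

end Cfsg.Agent.Lib.Helper25
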