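import Mathlib
import Cfsg.Agent.Lib.Helper25.ChevOrderFinal

/-!
# Involution classes: the enumeration of the Weyl group

The check that the words of `allWords levels` whose root permutation maps every fundamental root
to itself or to a negative root all lie in a given list.
-/

set_option autoImplicit false

namespace Cfsg.Agent.Lib.Helper25

open Cfsg Cfsg.Lie Matrix
open Cfsg.Agent.Lib.Helper24

/-- The condition on one word, computed with the packed tables; negative roots are those of
index below `nroots / 2`. -/
def survCond (D : ChevalleyDatum) (v : List ℕ) : Bool :=
  (List.range D.rank).all fun i =>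
    decide (wPiF D v (D.simple i) < D.nroots / 2) || decide (wPiF D v (D.simple i) = D.simple i)

/-- The check over a list of words. -/
def survChk (D : ChevalleyDatum) (ws : List (List ℕ)) (surv : List (List ℕ)) : Bool :=
  ws.all fun v => !(survCond D v) || surv.contains v

/-- The negative roots are the roots of index below `nroots / 2`. -/
def negHalfChk (D : ChevalleyDatum) : Bool :=
  (List.range D.nroots).all fun r => decide (D.IsNegRoot r ↔ r < D.nroots / 2)

theorem survChk_sound (D : ChevalleyDatum)
    (hD : D ∈ [chevG2, chevB2, chevD4, chevF4, chevE6, chevE7, chevE8])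
    (hneg : negHalfChk D = true) (ws : List (List ℕ)) (surv : List (List ℕ))
    (h : survChk D ws surv = true) :
    ∀ v ∈ ws, (∀ i ∈ v, i < D.rank) →
      (∀ i < D.rank, D.IsNegRoot (wPi D v (D.simple i)) ∨ wPi D v (D.simple i) = D.simple i) →
      v ∈ surv := by
  have hD' : D ∈ chevList := hD
  intro v hv hval hc
  unfold survChk at h
  rw [List.all_eq_true] at h
  have h1 := h v hv
  unfold negHalfChk at hneg
  simp only [List.all_eq_true, List.mem_range, decide_eq_true_eq] at hneg
  have h2 : survCond D v = true := by
    unfold survCond
    simp only [List.all_eq_true, List.mem_range, Bool.or_eq_true, decide_eq_true_eq]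
    intro i hi
    have hp : D.simple i < D.nroots := simple_lt D hD' i hi
    rw [wPiF_eq D hD v hval _ hp]
    rcases hc i hi with hn | he
    · left
      exact (hneg _ hn.1).1 hn
    · right
      exact he
  rw [h2] at h1
  simpa using h1

end Cfsg.Agent.Lib.Helper25
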