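import Mathlib
import Cfsg.Agent.Lib.Helper25.ChevW0
import Cfsg.Agent.Lib.Helper25.InvChevDefs

/-!
# Involution classes: the checks of a table entry (definitions)
-/

set_option autoImplicit false

namespace Cfsg.Agent.Lib.Helper25

open Cfsg Cfsg.Lie Matrix

/-- The checks for one table entry: the word and the orbit data are valid, the orbit data give
the roots, the roots are distinct, and the product of the reflections is the word. -/
def odChk (D : ChevalleyDatum) (v : List ℕ) (od : List (List ℕ × ℕ)) (Bs : List ℕ) : Bool :=
  v.all (fun i => decide (i < D.rank)) &&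
  od.all (fun e => e.1.all (fun i => decide (i < D.rank)) && decide (e.2 < D.rank)) &&
  decide (Bs = od.map fun e => wPiF D e.1 (D.simple e.2)) &&
  decide (Bs.Nodup) &&
  (List.range D.rank).all fun i =>
    decide (wPiF D (reflWord od ++ v.reverse) (D.simple i) = D.simple i)

/-- The roots of a list pairwise commute strongly: no commutator terms between `±b`, `±b'`. -/
def strongCommChk (D : ChevalleyDatum) (Bs : List ℕ) : Bool :=
  Bs.all fun b => Bs.all fun b' => b == b' ||
    ([b, D.neg b].all fun r => [b', D.neg b'].all fun r' =>
      decide (r < D.nroots) && decide (r' < D.nroots) && decide (r' ≠ r) &&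
        decide (r' ≠ D.neg r) && decide (D.commTerms r r' = []))

end Cfsg.Agent.Lib.Helper25
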