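import Mathlib
import Cfsg.Agent.Lib.Helper25.InvSurv
import Cfsg.Agent.Lib.Helper25.InvChk
import Cfsg.Agent.Lib.Helper25.InvTab
import Cfsg.Agent.Lib.Helper25.ChevOrderData
import Cfsg.Prelude.Def_ChevE6

/-!
# Involution classes of `E₆(2^a)`: the data

The six elements `w` of the Weyl group mapping every fundamental root to itself or to a negative
root (as words of `allWords`), for each of them orthogonal roots whose reflections have product
`w` (with orbit data `(u, i)`: the root is `u(p_i)`), and the checks.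
-/

set_option autoImplicit false

namespace Cfsg.Agent.Lib.Helper25

open Cfsg Cfsg.Lie

/-- The chain of parabolic subgroups of `W(E₆)`. -/
def e6Levels : List LevelData := [e8Level0, e8Level1, e8Level2, e8Level3, e8Level4, e8Level5]

def e6V0 : List ℕ := []

def e6Od0 : List (List ℕ × ℕ) := []

def e6Bs0 : List ℕ := []

def e6V1 : List ℕ := [1, 3, 2, 0, 4, 3, 1, 2, 3, 4, 5, 4, 3, 1, 2, 0, 3, 2, 4, 3, 1]

def e6Od1 : List (List ℕ × ℕ) := [([1, 3, 4, 5, 2, 3, 4, 1, 3, 2], 0)]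

def e6Bs1 : List ℕ := [71]

def e6V2 : List ℕ := [0, 2, 0, 3, 1, 2, 0, 3, 2, 4, 3, 1, 2, 0, 3, 2, 4, 3, 1, 5, 4, 3, 1, 2, 0, 3, 2, 4, 3, 1, 5, 4, 3, 2, 0]

def e6Od2 : List (List ℕ × ℕ) := [([4, 5, 2, 3, 4, 1, 3, 2], 0), ([5, 3, 4, 1, 3, 2], 0), ([3, 4, 2, 3], 1)]

def e6Bs2 : List ℕ := [69, 65, 53]

def e6V3 : List ℕ := [0, 1, 2, 3, 1, 2, 0, 4, 3, 1, 2, 0, 3, 4, 5, 4, 3, 1, 2, 0, 3, 2, 4, 3, 1, 5, 4, 3, 2, 0]

def e6Od3 : List (List ℕ × ℕ) := [([5, 4, 3, 2], 0), ([1, 3, 4, 5, 2, 3, 4, 1, 3, 2], 0)]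

def e6Bs3 : List ℕ := [60, 71]

def e6V4 : List ℕ := [0, 1, 2, 0, 3, 1, 2, 0, 3, 4, 3, 1, 2, 0, 3, 2, 4, 3, 1, 5, 4, 3, 1, 2, 0, 3, 2, 4, 3, 1, 5, 4, 3, 2, 0]

def e6Od4 : List (List ℕ × ℕ) := [([1, 3, 4, 5, 2, 3, 4, 1, 3, 2], 0), ([5, 4, 3, 2], 0), ([4, 3], 2)]

def e6Bs4 : List ℕ := [71, 60, 44]

def e6V5 : List ℕ := [0, 1, 2, 0, 3, 1, 2, 0, 3, 2, 4, 3, 1, 2, 0, 3, 2, 4, 3, 1, 5, 4, 3, 1, 2, 0, 3, 2, 4, 3, 1, 5, 4, 3, 2, 0]

def e6Od5 : List (List ℕ × ℕ) := [([], 3), ([4, 3], 2), ([5, 4, 3, 2], 0), ([1, 3, 4, 5, 2, 3, 4, 1, 3, 2], 0)]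

def e6Bs5 : List ℕ := [39, 44, 60, 71]

def e6Surv : List (List ℕ) := [e6V0, e6V1, e6V2, e6V3, e6V4, e6V5]

theorem negHalf_E6 : negHalfChk chevE6 = true := by decide +kernel

set_option maxHeartbeats 4000000 in
theorem survChk_E6 : survChk chevE6 (allWords e6Levels) e6Surv = true := by decide +kernel

theorem odChk_E6_0 : odChk chevE6 e6V0 e6Od0 e6Bs0 = true := by decide +kernel

theorem odChk_E6_1 : odChk chevE6 e6V1 e6Od1 e6Bs1 = true := by decide +kernel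

theorem odChk_E6_2 : odChk chevE6 e6V2 e6Od2 e6Bs2 = true := by decide +kernel

theorem odChk_E6_3 : odChk chevE6 e6V3 e6Od3 e6Bs3 = true := by decide +kernel

theorem odChk_E6_4 : odChk chevE6 e6V4 e6Od4 e6Bs4 = true := by decide +kernel

theorem odChk_E6_5 : odChk chevE6 e6V5 e6Od5 e6Bs5 = true := by decide +kernel

theorem strongCommChk_E6_0 : strongCommChk chevE6 e6Bs0 = true := by decide +kernel

theorem strongCommChk_E6_1 : strongCommChk chevE6 e6Bs1 = true := by decide +kernel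

theorem strongCommChk_E6_2 : strongCommChk chevE6 e6Bs2 = true := by decide +kernel

theorem strongCommChk_E6_3 : strongCommChk chevE6 e6Bs3 = true := by decide +kernel

theorem strongCommChk_E6_4 : strongCommChk chevE6 e6Bs4 = true := by decide +kernel

theorem strongCommChk_E6_5 : strongCommChk chevE6 e6Bs5 = true := by decide +kernel

set_option maxHeartbeats 4000000 in
theorem fus_E6 : wordEq2 chevE6 ([47, 25, 20, 8] ++ [39, 44, 60, 71])
    ([71, 60, 44] ++ [47, 25, 20, 8]) = true := by decide +kernel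

theorem weyl_E6_2 : [68, 66].map (wPiF chevE6 [1, 3, 2]) = [60, 71] := by decide +kernel

theorem weyl_E6_3a : [55, 65, 67].map (wPiF chevE6 [0, 2, 0]) = [69, 65, 53] := by decide +kernel

theorem weyl_E6_3b : [55, 65, 67].map (wPiF chevE6 [1, 3, 0, 2, 0]) = [71, 60, 44] := by decide +kernel

end Cfsg.Agent.Lib.Helper25
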