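import Mathlib
import Cfsg.Agent.Lib.Helper25.InvE7Cls
import Cfsg.Prelude.Def_ChevE7

/-!
# Involution classes of `E₇(2^a)`: part 1 of the table
-/

set_option autoImplicit false

namespace Cfsg.Agent.Lib.Helper25

open Cfsg Cfsg.Lie

/-- Entries (word, orbit data, roots, class, Weyl group word). -/
def e7Tab1 : List InvTabEntry := [
  ([0, 1, 2, 0, 3, 1, 2, 0, 3, 2, 4, 3, 1, 2, 0, 3, 2, 4, 3, 5, 4, 3, 1, 2, 0, 3, 2, 4, 3, 1, 5, 4, 3, 2, 0, 6, 5, 4, 3, 1, 2, 0, 3, 2, 4, 3, 1, 5, 4, 3, 2, 0, 6, 5, 4, 3, 1, 2, 3, 4, 5],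
   [([], 2), ([], 1), ([3, 4, 2, 3], 1), ([5, 6, 4, 5, 3, 4, 2, 3], 1), ([0, 2, 3, 4, 5, 6, 1, 3, 4, 5, 2, 3, 4, 1, 3, 2], 0)],
   [73, 78, 87, 92, 125], 6, []),
  ([1, 2, 0, 3, 1, 2, 0, 3, 4, 3, 1, 2, 0, 3, 2, 4, 3, 1, 5, 4, 3, 1, 2, 0, 3, 2, 4, 3, 1, 5, 4, 3, 2, 0, 6, 5, 4, 3, 1, 2, 0, 3, 2, 4, 3, 1, 5, 4, 3, 2, 0, 6, 5, 4, 3, 1, 2, 3, 4, 5],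
   [([2, 3, 4, 1, 3, 2], 0), ([5, 6, 1, 3, 4, 5, 2, 3, 4, 1, 3, 2], 0), ([4, 3], 1), ([4, 5, 6, 3, 4, 5, 2, 3, 4, 1, 3, 2], 0)],
   [109, 121, 80, 118], 4, [2, 1, 3, 4, 5, 2, 1, 3, 4, 3, 0, 2, 0]),
  ([0, 1, 2, 0, 3, 1, 2, 0, 3, 4, 3, 1, 2, 0, 3, 2, 4, 3, 1, 5, 4, 3, 1, 2, 0, 3, 2, 4, 3, 1, 5, 4, 3, 2, 0, 6, 5, 4, 3, 1, 2, 0, 3, 2, 4, 3, 1, 5, 4, 3, 2, 0, 6, 5, 4, 3, 1, 2, 3, 4, 5],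
   [([4, 3], 2), ([4, 3], 1), ([2, 3], 1), ([5, 6, 4, 5, 3, 4, 2, 3], 1), ([0, 2, 3, 4, 5, 6, 1, 3, 4, 5, 2, 3, 4, 1, 3, 2], 0)],
   [75, 80, 83, 92, 125], 6, [4, 3]),
  ([0, 2, 3, 1, 2, 0, 3, 2, 4, 3, 1, 2, 0, 3, 2, 4, 3, 1, 5, 4, 3, 1, 2, 0, 3, 2, 4, 3, 1, 5, 4, 3, 2, 0, 6, 5, 4, 3, 1, 2, 0, 3, 2, 4, 3, 1, 5, 4, 3, 2, 0, 6, 5, 4, 3, 1, 2, 3, 4, 5],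
   [([3, 4, 2, 3], 1), ([5, 6, 4, 5, 3, 4, 2, 3], 1), ([], 4), ([0, 2, 3, 4, 5, 6, 1, 3, 4, 5, 2, 3, 4, 1, 3, 2], 0)],
   [87, 92, 66, 125], 4, [3, 4, 5, 1, 3, 4, 3, 2, 0]),
  ([0, 1, 2, 3, 1, 2, 0, 3, 2, 4, 3, 1, 2, 0, 3, 2, 4, 3, 1, 5, 4, 3, 1, 2, 0, 3, 2, 4, 3, 1, 5, 4, 3, 2, 0, 6, 5, 4, 3, 1, 2, 0, 3, 2, 4, 3, 1, 5, 4, 3, 2, 0, 6, 5, 4, 3, 1, 2, 3, 4, 5],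
   [([], 4), ([3, 4, 2, 3], 1), ([], 1), ([5, 6, 4, 5, 3, 4, 2, 3], 1), ([0, 2, 3, 4, 5, 6, 1, 3, 4, 5, 2, 3, 4, 1, 3, 2], 0)],
   [66, 87, 78, 92, 125], 6, [3, 4, 2, 3]),
  ([2, 0, 3, 1, 2, 0, 3, 2, 4, 3, 1, 2, 0, 3, 2, 4, 3, 1, 5, 4, 3, 1, 2, 0, 3, 2, 4, 3, 1, 5, 4, 3, 2, 0, 6, 5, 4, 3, 1, 2, 0, 3, 2, 4, 3, 1, 5, 4, 3, 2, 0, 6, 5, 4, 3, 1, 2, 3, 4, 5],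
   [([2, 3, 4, 1, 3, 2], 0), ([5, 6, 4, 5, 2, 3, 4, 1, 3, 2], 0), ([], 4), ([3, 4, 5, 6, 1, 3, 4, 5, 2, 3, 4, 1, 3, 2], 0)],
   [109, 114, 66, 123], 4, [2, 3, 4, 5, 1, 3, 4, 3, 0, 2, 0]),
  ([0, 2, 0, 3, 1, 2, 0, 3, 2, 4, 3, 1, 2, 0, 3, 2, 4, 3, 1, 5, 4, 3, 1, 2, 0, 3, 2, 4, 3, 1, 5, 4, 3, 2, 0, 6, 5, 4, 3, 1, 2, 0, 3, 2, 4, 3, 1, 5, 4, 3, 2, 0, 6, 5, 4, 3, 1, 2, 3, 4, 5],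
   [([3, 4, 2, 3], 1), ([], 4), ([], 2), ([5, 6, 4, 5, 3, 4, 2, 3], 1), ([0, 2, 3, 4, 5, 6, 1, 3, 4, 5, 2, 3, 4, 1, 3, 2], 0)],
   [87, 66, 73, 92, 125], 6, [3, 4, 1, 3]),
  ([1, 2, 0, 3, 1, 2, 0, 3, 2, 4, 3, 1, 2, 0, 3, 2, 4, 3, 1, 5, 4, 3, 1, 2, 0, 3, 2, 4, 3, 1, 5, 4, 3, 2, 0, 6, 5, 4, 3, 1, 2, 0, 3, 2, 4, 3, 1, 5, 4, 3, 2, 0, 6, 5, 4, 3, 1, 2, 3, 4, 5],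
   [([], 4), ([2, 3, 4, 1, 3, 2], 0), ([], 1), ([5, 6, 4, 5, 2, 3, 4, 1, 3, 2], 0), ([3, 4, 5, 6, 1, 3, 4, 5, 2, 3, 4, 1, 3, 2], 0)],
   [66, 109, 78, 114, 123], 6, [2, 3, 4, 0, 2, 3])]

set_option maxHeartbeats 4000000 in
theorem e7Tab1_chk : e7Tab1.all (invTabChk chevE7 e7Cls) = true := by decide +kernel

end Cfsg.Agent.Lib.Helper25
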