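import Mathlib
import Cfsg.Agent.Lib.Helper25.InvChk
import Cfsg.Prelude.Def_ChevE8

/-!
# Involution classes of `E₈(2^a)`: a certificate for the rank of `y - 1`

A triangular range certificate (code, pivot) for `y - 1`, `y` the product of the root elements
of the roots [228, 222, 218].
-/

set_option autoImplicit false

namespace Cfsg.Agent.Lib.Helper25

open Cfsg Cfsg.Lie

def e8R3 : List (ℕ × ℕ) := [(8, 60), (9, 61), (10, 62), (11, 63), (12, 73), (13, 77), (14, 78), (15, 82), (16, 83), (17, 84), (18, 85), (22, 100), (23, 111), (24, 112), (20, 129), (21, 130), (26, 131), (27, 132), (28, 133), (30, 134), (31, 135), (32, 136), (33, 137), (34, 139), (35, 140), (36, 141), (37, 142), (38, 146), (39, 147), (40, 148), (44, 151), (45, 152), (46, 153), (47, 154), (48, 157), (49, 158), (50, 159), (54, 161), (55, 162), (56, 163), (64, 164), (65, 165), (66, 166), (41, 175), (42, 176), (51, 180), (52, 181), (57, 184), (58, 185), (86, 186), (89, 189), (90, 190), (70, 197), (71, 198), (92, 199), (93, 200), (74, 203), (75, 204), (96, 205), (97, 206), (101, 208), (102, 209), (79, 213), (80, 214), (107, 215), (108, 216),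 (113, 218), (114, 219), (118, 222), (119, 223), (122, 227), (123, 228), (125, 234), (126, 235), (29, 0), (19, 2), (4, 226), (5, 230), (6, 236), (67, 167), (87, 187), (68, 168), (88, 188), (69, 169), (91, 191), (94, 201), (98, 207), (103, 210), (109, 217), (115, 220), (120, 224), (124, 229), (104, 211), (116, 221), (121, 225), (170, 237), (143, 231), (171, 238), (144, 232), (172, 239), (173, 240), (155, 233), (177, 241), (178, 242), (182, 243), (192, 244), (193, 245), (194, 246), (195, 247)]

set_option maxHeartbeats 4000000 in
theorem e8R3_chk : ranChk2 chevE8 [228, 222, 218] e8R3 = true := by decide +kernel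

theorem e8R3_len : e8R3.length = 109 := by decide +kernel

end Cfsg.Agent.Lib.Helper25
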