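import Mathlib
import Cfsg.Agent.Lib.Helper25.InvChk
import Cfsg.Prelude.Def_ChevE8

/-!
# Involution classes of `E₈(2^a)`: a certificate for the rank of `y - 1`

A triangular range certificate (code, pivot) for `y - 1`, `y` the product of the root elements
of the roots [226, 220, 213, 216].
-/

set_option autoImplicit false

namespace Cfsg.Agent.Lib.Helper25

open Cfsg Cfsg.Lie

def e8R4 : List (ℕ × ℕ) := [(34, 3), (8, 51), (9, 52), (10, 53), (11, 59), (12, 62), (13, 63), (14, 73), (15, 80), (16, 81), (17, 82), (18, 83), (19, 84), (20, 85), (22, 95), (23, 109), (24, 110), (25, 111), (26, 112), (29, 116), (30, 117), (28, 128), (32, 129), (33, 130), (35, 131), (36, 132), (37, 133), (38, 135), (39, 136), (40, 137), (41, 141), (42, 142), (43, 148), (44, 149), (45, 150), (48, 151), (54, 152), (46, 155), (49, 156), (65, 158), (57, 161), (67, 162), (60, 164), (70, 165), (74, 167), (47, 177), (50, 178), (88, 181), (58, 183), (90, 185), (61, 186), (93, 188), (97, 190), (69, 194), (91, 195), (72, 197), (94, 198), (103, 201), (77, 205), (99, 206), (104, 207), (78, 208), (100, 209), (105, 210), (106, 211), (31,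 0), (21, 2), (7, 234), (6, 228), (5, 224), (1, 221), (55, 153), (64, 157), (56, 154), (86, 179), (66, 159), (87, 180), (68, 163), (89, 184), (71, 166), (92, 187), (75, 168), (96, 189), (76, 169), (101, 199), (107, 212), (113, 213), (118, 215), (122, 218), (125, 222), (127, 227), (98, 191), (102, 200), (114, 214), (119, 216), (123, 219), (126, 223), (120, 217), (124, 220), (170, 235), (143, 229), (171, 236), (138, 225), (144, 230), (172, 237), (139, 226), (145, 231), (173, 238), (146, 232), (174, 239), (175, 240), (160, 233), (182, 241), (192, 242), (193, 243), (196, 244), (202, 245), (203, 246), (204, 247)]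

set_option maxHeartbeats 4000000 in
theorem e8R4_chk : ranChk2 chevE8 [226, 220, 213, 216] e8R4 = true := by decide +kernel

theorem e8R4_len : e8R4.length = 119 := by decide +kernel

end Cfsg.Agent.Lib.Helper25
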