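import Mathlib
import Cfsg.Agent.Lib.Helper25.InvTab

/-!
# Involution classes: the checks of an entry of a class table (definitions)
-/

set_option autoImplicit false

namespace Cfsg.Agent.Lib.Helper25

open Cfsg Cfsg.Lie Matrix

/-- A table entry: word, orbit data, roots, index of the class, Weyl group word. -/
abbrev InvTabEntry : Type := List ℕ × List (List ℕ × ℕ) × List ℕ × ℕ × List ℕ

/-- The checks for a table entry, against the list of classes: the checks of `odChk`, strong
commutation of the roots, and the Weyl group word maps the roots of the class to the roots of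
the entry. -/
def invTabChk (D : ChevalleyDatum) (cls : List (List ℕ)) (e : InvTabEntry) : Bool :=
  odChk D e.1 e.2.1 e.2.2.1 && strongCommChk D e.2.2.1 &&
  e.2.2.2.2.all (fun i => decide (i < D.rank)) &&
  (cls.getD e.2.2.2.1 []).all (fun r => decide (r < D.nroots)) &&
  decide ((cls.getD e.2.2.2.1 []).map (wPiF D e.2.2.2.2) = e.2.2.1) &&
  decide (e.2.2.2.1 < cls.length)

end Cfsg.Agent.Lib.Helper25
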