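import Mathlib
import Cfsg.Agent.Lib.Helper25.InvTab2

/-!
# Involution classes of `E₈(2^a)`: the list of classes of sets of orthogonal roots
-/

set_option autoImplicit false

namespace Cfsg.Agent.Lib.Helper25

open Cfsg Cfsg.Lie

/-- The classes of sets of pairwise orthogonal roots met by the table; the last one is empty. -/
def e8Cls : List (List ℕ) := [[239], [232, 233], [228, 222, 218], [226, 220, 213, 216], [147, 156, 161, 232, 233], [130, 147, 156, 161, 232, 233], [123, 130, 147, 156, 161, 232, 233], [120, 161, 228, 237], [120, 123, 130, 147, 156, 161, 232, 233], []]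

end Cfsg.Agent.Lib.Helper25
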