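import Mathlib
import Cfsg.Agent.Lib.Helper25.ChevPoincare

/-!
# Involution classes: pruned enumeration of the Weyl group (definitions)

`pruneSearch D levels.reverse simples []` lists the words `v` of `allWords levels` that can have
`w_v(p_i) = p_i` or `w_v(p_i) < 0` for every fundamental root `p_i`: a branch is cut as soon as
some `p_j`-image is a positive root with a non-zero coroot coordinate at a level not yet
processed which cannot be the coordinate of `p_i`.
-/

set_option autoImplicit false

namespace Cfsg.Agent.Lib.Helper25

open Cfsg Cfsg.Lie Matrix
open Cfsg.Agent.Lib.Helper24

/-- The branch with current images `tup` (of the fundamental roots under the suffix word) is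
dead at level `j`. -/
def pruneBad (D : ChevalleyDatum) (j : ℕ) (tup : List ℕ) : Bool :=
  (List.range D.rank).any fun i =>
    decide (D.IsPosRoot (tup.getD i 0)) &&
    ((List.range D.rank).any fun k => decide (j ≤ k) && decide (corootC D (tup.getD i 0) k ≠ 0)) &&
    ((List.range D.rank).any fun k =>
      decide (j ≤ k) && decide (corootC D (tup.getD i 0) k ≠ if k = i then 1 else 0))

/-- The pruned search through the levels, from the last one down. -/
def pruneSearch (D : ChevalleyDatum) : List LevelData → List ℕ → List ℕ → List (List ℕ)
  | [], tup, word => if pruneBad D 0 tup then [] else [word]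
  | L :: rest, tup, word =>
      if pruneBad D (rest.length + 1) tup then []
      else ((List.range L.n).map (wd L.words)).flatMap fun x =>
        pruneSearch D rest (tup.map (wPiF D x)) (x ++ word)

end Cfsg.Agent.Lib.Helper25
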