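import Mathlib
import Cfsg.Agent.Lib.Helper25.InvE8Tab0
import Cfsg.Agent.Lib.Helper25.InvE8Tab1
import Cfsg.Agent.Lib.Helper25.InvE8Tab2
import Cfsg.Agent.Lib.Helper25.InvE8Tab3
import Cfsg.Agent.Lib.Helper25.InvE8Tab4
import Cfsg.Agent.Lib.Helper25.InvE8Tab5
import Cfsg.Agent.Lib.Helper25.InvE8Tab6
import Cfsg.Agent.Lib.Helper25.InvE8Tab7
import Cfsg.Agent.Lib.Helper25.InvPrune
import Cfsg.Agent.Lib.Helper25.CoxE8Data

/-!
# Involution classes of `E₈(2^a)`: the table and the pruned enumeration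
-/

set_option autoImplicit false

namespace Cfsg.Agent.Lib.Helper25

open Cfsg Cfsg.Lie

/-- The table. -/
def e8Tab : List InvTabEntry := e8Tab0 ++ e8Tab1 ++ e8Tab2 ++ e8Tab3 ++ e8Tab4 ++ e8Tab5 ++ e8Tab6 ++ e8Tab7

theorem e8Tab_chk : ∀ e ∈ e8Tab, invTabChk chevE8 e8Cls e = true := by
  have h : e8Tab.all (invTabChk chevE8 e8Cls) = true := by
    simp only [e8Tab, List.all_append, e8Tab0_chk, e8Tab1_chk, e8Tab2_chk, e8Tab3_chk, e8Tab4_chk, e8Tab5_chk, e8Tab6_chk, e8Tab7_chk, Bool.and_self]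
  exact List.all_eq_true.1 h

set_option maxHeartbeats 4000000 in
/-- The pruned enumeration of the Weyl group gives exactly the words of the table. -/
theorem prune_E8 : pruneSearch chevE8 (e8Levels).reverse
    ((List.range chevE8.rank).map chevE8.simple) [] = e8Tab.map (·.1) := by decide +kernel

end Cfsg.Agent.Lib.Helper25
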