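import Mathlib
import Cfsg.Agent.Lib.Helper25.InvChk2
import Cfsg.Agent.Lib.Helper25.InvTab
import Cfsg.Prelude.Def_ChevE8

/-!
# Involution classes of `E₈(2^a)`: a fusion of classes of sets of orthogonal roots

The product of the root elements of the roots [147, 156, 161, 232, 233]
is conjugate, by a product of four root elements, to a product over one root less.
-/

set_option autoImplicit false

namespace Cfsg.Agent.Lib.Helper25

open Cfsg Cfsg.Lie

set_option maxHeartbeats 4000000 in
theorem fus_E8_4_c0 : wordEq2From chevE8 ([169, 77, 61, 56] ++ [147, 156, 161, 232, 233])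
    ([156, 161, 233, 232] ++ [169, 77, 61, 56]) (0 * 16) 16 = true := by decide +kernel

set_option maxHeartbeats 4000000 in
theorem fus_E8_4_c1 : wordEq2From chevE8 ([169, 77, 61, 56] ++ [147, 156, 161, 232, 233])
    ([156, 161, 233, 232] ++ [169, 77, 61, 56]) (1 * 16) 16 = true := by decide +kernel

set_option maxHeartbeats 4000000 in
theorem fus_E8_4_c2 : wordEq2From chevE8 ([169, 77, 61, 56] ++ [147, 156, 161, 232, 233])
    ([156, 161, 233, 232] ++ [169, 77, 61, 56]) (2 * 16) 16 = true := by decide +kernel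

set_option maxHeartbeats 4000000 in
theorem fus_E8_4_c3 : wordEq2From chevE8 ([169, 77, 61, 56] ++ [147, 156, 161, 232, 233])
    ([156, 161, 233, 232] ++ [169, 77, 61, 56]) (3 * 16) 16 = true := by decide +kernel

set_option maxHeartbeats 4000000 in
theorem fus_E8_4_c4 : wordEq2From chevE8 ([169, 77, 61, 56] ++ [147, 156, 161, 232, 233])
    ([156, 161, 233, 232] ++ [169, 77, 61, 56]) (4 * 16) 16 = true := by decide +kernel

set_option maxHeartbeats 4000000 in
theorem fus_E8_4_c5 : wordEq2From chevE8 ([169, 77, 61, 56] ++ [147, 156, 161, 232, 233])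
    ([156, 161, 233, 232] ++ [169, 77, 61, 56]) (5 * 16) 16 = true := by decide +kernel

set_option maxHeartbeats 4000000 in
theorem fus_E8_4_c6 : wordEq2From chevE8 ([169, 77, 61, 56] ++ [147, 156, 161, 232, 233])
    ([156, 161, 233, 232] ++ [169, 77, 61, 56]) (6 * 16) 16 = true := by decide +kernel

set_option maxHeartbeats 4000000 in
theorem fus_E8_4_c7 : wordEq2From chevE8 ([169, 77, 61, 56] ++ [147, 156, 161, 232, 233])
    ([156, 161, 233, 232] ++ [169, 77, 61, 56]) (7 * 16) 16 = true := by decide +kernel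

set_option maxHeartbeats 4000000 in
theorem fus_E8_4_c8 : wordEq2From chevE8 ([169, 77, 61, 56] ++ [147, 156, 161, 232, 233])
    ([156, 161, 233, 232] ++ [169, 77, 61, 56]) (8 * 16) 16 = true := by decide +kernel

set_option maxHeartbeats 4000000 in
theorem fus_E8_4_c9 : wordEq2From chevE8 ([169, 77, 61, 56] ++ [147, 156, 161, 232, 233])
    ([156, 161, 233, 232] ++ [169, 77, 61, 56]) (9 * 16) 16 = true := by decide +kernel

set_option maxHeartbeats 4000000 in
theorem fus_E8_4_c10 : wordEq2From chevE8 ([169, 77, 61, 56] ++ [147, 156, 161, 232, 233])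
    ([156, 161, 233, 232] ++ [169, 77, 61, 56]) (10 * 16) 16 = true := by decide +kernel

set_option maxHeartbeats 4000000 in
theorem fus_E8_4_c11 : wordEq2From chevE8 ([169, 77, 61, 56] ++ [147, 156, 161, 232, 233])
    ([156, 161, 233, 232] ++ [169, 77, 61, 56]) (11 * 16) 16 = true := by decide +kernel

set_option maxHeartbeats 4000000 in
theorem fus_E8_4_c12 : wordEq2From chevE8 ([169, 77, 61, 56] ++ [147, 156, 161, 232, 233])
    ([156, 161, 233, 232] ++ [169, 77, 61, 56]) (12 * 16) 16 = true := by decide +kernel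

set_option maxHeartbeats 4000000 in
theorem fus_E8_4_c13 : wordEq2From chevE8 ([169, 77, 61, 56] ++ [147, 156, 161, 232, 233])
    ([156, 161, 233, 232] ++ [169, 77, 61, 56]) (13 * 16) 16 = true := by decide +kernel

set_option maxHeartbeats 4000000 in
theorem fus_E8_4_c14 : wordEq2From chevE8 ([169, 77, 61, 56] ++ [147, 156, 161, 232, 233])
    ([156, 161, 233, 232] ++ [169, 77, 61, 56]) (14 * 16) 16 = true := by decide +kernel

set_option maxHeartbeats 4000000 in
theorem fus_E8_4_c15 : wordEq2From chevE8 ([169, 77, 61, 56] ++ [147, 156, 161, 232, 233])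
    ([156, 161, 233, 232] ++ [169, 77, 61, 56]) (15 * 16) 16 = true := by decide +kernel

theorem fus_E8_4 : wordEq2 chevE8 ([169, 77, 61, 56] ++ [147, 156, 161, 232, 233])
    ([156, 161, 233, 232] ++ [169, 77, 61, 56]) = true := by
  apply wordEq2_of_chunks chevE8 _ _ 16 (by decide)
  intro i hi
  have hi' : i < 16 := hi
  interval_cases i
  · exact fus_E8_4_c0
  · exact fus_E8_4_c1
  · exact fus_E8_4_c2
  · exact fus_E8_4_c3
  · exact fus_E8_4_c4
  · exact fus_E8_4_c5
  · exact fus_E8_4_c6
  · exact fus_E8_4_c7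
  · exact fus_E8_4_c8
  · exact fus_E8_4_c9
  · exact fus_E8_4_c10
  · exact fus_E8_4_c11
  · exact fus_E8_4_c12
  · exact fus_E8_4_c13
  · exact fus_E8_4_c14
  · exact fus_E8_4_c15

theorem weyl_E8_4 : ([226, 220, 213, 216]).map (wPiF chevE8 [6, 0, 2, 3, 4, 5, 1, 3, 4, 2, 3, 0, 2, 0]) = [156, 161, 233, 232] := by decide +kernel

end Cfsg.Agent.Lib.Helper25
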