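import Mathlib
import Cfsg.Agent.Lib.Helper25.InvChk2
import Cfsg.Agent.Lib.Helper25.InvTab
import Cfsg.Prelude.Def_ChevE8

/-!
# Involution classes of `E₈(2^a)`: a fusion of classes of sets of orthogonal roots

The product of the root elements of the roots [123, 130, 147, 156, 161, 232, 233]
is conjugate, by a product of four root elements, to a product over one root less.
-/

set_option autoImplicit false

namespace Cfsg.Agent.Lib.Helper25

open Cfsg Cfsg.Lie

set_option maxHeartbeats 4000000 in
theorem fus_E8_6_c0 : wordEq2From chevE8 ([127, 113, 108, 91] ++ [123, 130, 147, 156, 161, 232, 233])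
    ([130, 147, 156, 161, 232, 233] ++ [127, 113, 108, 91]) (0 * 16) 16 = true := by decide +kernel

set_option maxHeartbeats 4000000 in
theorem fus_E8_6_c1 : wordEq2From chevE8 ([127, 113, 108, 91] ++ [123, 130, 147, 156, 161, 232, 233])
    ([130, 147, 156, 161, 232, 233] ++ [127, 113, 108, 91]) (1 * 16) 16 = true := by decide +kernel

set_option maxHeartbeats 4000000 in
theorem fus_E8_6_c2 : wordEq2From chevE8 ([127, 113, 108, 91] ++ [123, 130, 147, 156, 161, 232, 233])
    ([130, 147, 156, 161, 232, 233] ++ [127, 113, 108, 91]) (2 * 16) 16 = true := by decide +kernel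

set_option maxHeartbeats 4000000 in
theorem fus_E8_6_c3 : wordEq2From chevE8 ([127, 113, 108, 91] ++ [123, 130, 147, 156, 161, 232, 233])
    ([130, 147, 156, 161, 232, 233] ++ [127, 113, 108, 91]) (3 * 16) 16 = true := by decide +kernel

set_option maxHeartbeats 4000000 in
theorem fus_E8_6_c4 : wordEq2From chevE8 ([127, 113, 108, 91] ++ [123, 130, 147, 156, 161, 232, 233])
    ([130, 147, 156, 161, 232, 233] ++ [127, 113, 108, 91]) (4 * 16) 16 = true := by decide +kernel

set_option maxHeartbeats 4000000 in
theorem fus_E8_6_c5 : wordEq2From chevE8 ([127, 113, 108, 91] ++ [123, 130, 147, 156, 161, 232, 233])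
    ([130, 147, 156, 161, 232, 233] ++ [127, 113, 108, 91]) (5 * 16) 16 = true := by decide +kernel

set_option maxHeartbeats 4000000 in
theorem fus_E8_6_c6 : wordEq2From chevE8 ([127, 113, 108, 91] ++ [123, 130, 147, 156, 161, 232, 233])
    ([130, 147, 156, 161, 232, 233] ++ [127, 113, 108, 91]) (6 * 16) 16 = true := by decide +kernel

set_option maxHeartbeats 4000000 in
theorem fus_E8_6_c7 : wordEq2From chevE8 ([127, 113, 108, 91] ++ [123, 130, 147, 156, 161, 232, 233])
    ([130, 147, 156, 161, 232, 233] ++ [127, 113, 108, 91]) (7 * 16) 16 = true := by decide +kernel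

set_option maxHeartbeats 4000000 in
theorem fus_E8_6_c8 : wordEq2From chevE8 ([127, 113, 108, 91] ++ [123, 130, 147, 156, 161, 232, 233])
    ([130, 147, 156, 161, 232, 233] ++ [127, 113, 108, 91]) (8 * 16) 16 = true := by decide +kernel

set_option maxHeartbeats 4000000 in
theorem fus_E8_6_c9 : wordEq2From chevE8 ([127, 113, 108, 91] ++ [123, 130, 147, 156, 161, 232, 233])
    ([130, 147, 156, 161, 232, 233] ++ [127, 113, 108, 91]) (9 * 16) 16 = true := by decide +kernel

set_option maxHeartbeats 4000000 in
theorem fus_E8_6_c10 : wordEq2From chevE8 ([127, 113, 108, 91] ++ [123, 130, 147, 156, 161, 232, 233])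
    ([130, 147, 156, 161, 232, 233] ++ [127, 113, 108, 91]) (10 * 16) 16 = true := by decide +kernel

set_option maxHeartbeats 4000000 in
theorem fus_E8_6_c11 : wordEq2From chevE8 ([127, 113, 108, 91] ++ [123, 130, 147, 156, 161, 232, 233])
    ([130, 147, 156, 161, 232, 233] ++ [127, 113, 108, 91]) (11 * 16) 16 = true := by decide +kernel

set_option maxHeartbeats 4000000 in
theorem fus_E8_6_c12 : wordEq2From chevE8 ([127, 113, 108, 91] ++ [123, 130, 147, 156, 161, 232, 233])
    ([130, 147, 156, 161, 232, 233] ++ [127, 113, 108, 91]) (12 * 16) 16 = true := by decide +kernel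

set_option maxHeartbeats 4000000 in
theorem fus_E8_6_c13 : wordEq2From chevE8 ([127, 113, 108, 91] ++ [123, 130, 147, 156, 161, 232, 233])
    ([130, 147, 156, 161, 232, 233] ++ [127, 113, 108, 91]) (13 * 16) 16 = true := by decide +kernel

set_option maxHeartbeats 4000000 in
theorem fus_E8_6_c14 : wordEq2From chevE8 ([127, 113, 108, 91] ++ [123, 130, 147, 156, 161, 232, 233])
    ([130, 147, 156, 161, 232, 233] ++ [127, 113, 108, 91]) (14 * 16) 16 = true := by decide +kernel

set_option maxHeartbeats 4000000 in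
theorem fus_E8_6_c15 : wordEq2From chevE8 ([127, 113, 108, 91] ++ [123, 130, 147, 156, 161, 232, 233])
    ([130, 147, 156, 161, 232, 233] ++ [127, 113, 108, 91]) (15 * 16) 16 = true := by decide +kernel

theorem fus_E8_6 : wordEq2 chevE8 ([127, 113, 108, 91] ++ [123, 130, 147, 156, 161, 232, 233])
    ([130, 147, 156, 161, 232, 233] ++ [127, 113, 108, 91]) = true := by
  apply wordEq2_of_chunks chevE8 _ _ 16 (by decide)
  intro i hi
  have hi' : i < 16 := hi
  interval_cases i
  · exact fus_E8_6_c0
  · exact fus_E8_6_c1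
  · exact fus_E8_6_c2
  · exact fus_E8_6_c3
  · exact fus_E8_6_c4
  · exact fus_E8_6_c5
  · exact fus_E8_6_c6
  · exact fus_E8_6_c7
  · exact fus_E8_6_c8
  · exact fus_E8_6_c9
  · exact fus_E8_6_c10
  · exact fus_E8_6_c11
  · exact fus_E8_6_c12
  · exact fus_E8_6_c13
  · exact fus_E8_6_c14
  · exact fus_E8_6_c15

theorem weyl_E8_6 : ([130, 147, 156, 161, 232, 233]).map (wPiF chevE8 []) = [130, 147, 156, 161, 232, 233] := by decide +kernel

end Cfsg.Agent.Lib.Helper25
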