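import Mathlib
import Cfsg.Agent.Lib.Helper25.InvChk2
import Cfsg.Agent.Lib.Helper25.InvTab
import Cfsg.Prelude.Def_ChevE8

/-!
# Involution classes of `E₈(2^a)`: a fusion of classes of sets of orthogonal roots

The product of the root elements of the roots [120, 161, 228, 237]
is conjugate, by a product of four root elements, to a product over one root less.
-/

set_option autoImplicit false

namespace Cfsg.Agent.Lib.Helper25

open Cfsg Cfsg.Lie

set_option maxHeartbeats 4000000 in
theorem fus_E8_7_c0 : wordEq2From chevE8 ([118, 122, 80, 13] ++ [120, 161, 228, 237])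
    ([161, 228, 237] ++ [118, 122, 80, 13]) (0 * 16) 16 = true := by decide +kernel

set_option maxHeartbeats 4000000 in
theorem fus_E8_7_c1 : wordEq2From chevE8 ([118, 122, 80, 13] ++ [120, 161, 228, 237])
    ([161, 228, 237] ++ [118, 122, 80, 13]) (1 * 16) 16 = true := by decide +kernel

set_option maxHeartbeats 4000000 in
theorem fus_E8_7_c2 : wordEq2From chevE8 ([118, 122, 80, 13] ++ [120, 161, 228, 237])
    ([161, 228, 237] ++ [118, 122, 80, 13]) (2 * 16) 16 = true := by decide +kernel

set_option maxHeartbeats 4000000 in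
theorem fus_E8_7_c3 : wordEq2From chevE8 ([118, 122, 80, 13] ++ [120, 161, 228, 237])
    ([161, 228, 237] ++ [118, 122, 80, 13]) (3 * 16) 16 = true := by decide +kernel

set_option maxHeartbeats 4000000 in
theorem fus_E8_7_c4 : wordEq2From chevE8 ([118, 122, 80, 13] ++ [120, 161, 228, 237])
    ([161, 228, 237] ++ [118, 122, 80, 13]) (4 * 16) 16 = true := by decide +kernel

set_option maxHeartbeats 4000000 in
theorem fus_E8_7_c5 : wordEq2From chevE8 ([118, 122, 80, 13] ++ [120, 161, 228, 237])
    ([161, 228, 237] ++ [118, 122, 80, 13]) (5 * 16) 16 = true := by decide +kernel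

set_option maxHeartbeats 4000000 in
theorem fus_E8_7_c6 : wordEq2From chevE8 ([118, 122, 80, 13] ++ [120, 161, 228, 237])
    ([161, 228, 237] ++ [118, 122, 80, 13]) (6 * 16) 16 = true := by decide +kernel

set_option maxHeartbeats 4000000 in
theorem fus_E8_7_c7 : wordEq2From chevE8 ([118, 122, 80, 13] ++ [120, 161, 228, 237])
    ([161, 228, 237] ++ [118, 122, 80, 13]) (7 * 16) 16 = true := by decide +kernel

set_option maxHeartbeats 4000000 in
theorem fus_E8_7_c8 : wordEq2From chevE8 ([118, 122, 80, 13] ++ [120, 161, 228, 237])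
    ([161, 228, 237] ++ [118, 122, 80, 13]) (8 * 16) 16 = true := by decide +kernel

set_option maxHeartbeats 4000000 in
theorem fus_E8_7_c9 : wordEq2From chevE8 ([118, 122, 80, 13] ++ [120, 161, 228, 237])
    ([161, 228, 237] ++ [118, 122, 80, 13]) (9 * 16) 16 = true := by decide +kernel

set_option maxHeartbeats 4000000 in
theorem fus_E8_7_c10 : wordEq2From chevE8 ([118, 122, 80, 13] ++ [120, 161, 228, 237])
    ([161, 228, 237] ++ [118, 122, 80, 13]) (10 * 16) 16 = true := by decide +kernel

set_option maxHeartbeats 4000000 in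
theorem fus_E8_7_c11 : wordEq2From chevE8 ([118, 122, 80, 13] ++ [120, 161, 228, 237])
    ([161, 228, 237] ++ [118, 122, 80, 13]) (11 * 16) 16 = true := by decide +kernel

set_option maxHeartbeats 4000000 in
theorem fus_E8_7_c12 : wordEq2From chevE8 ([118, 122, 80, 13] ++ [120, 161, 228, 237])
    ([161, 228, 237] ++ [118, 122, 80, 13]) (12 * 16) 16 = true := by decide +kernel

set_option maxHeartbeats 4000000 in
theorem fus_E8_7_c13 : wordEq2From chevE8 ([118, 122, 80, 13] ++ [120, 161, 228, 237])
    ([161, 228, 237] ++ [118, 122, 80, 13]) (13 * 16) 16 = true := by decide +kernel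

set_option maxHeartbeats 4000000 in
theorem fus_E8_7_c14 : wordEq2From chevE8 ([118, 122, 80, 13] ++ [120, 161, 228, 237])
    ([161, 228, 237] ++ [118, 122, 80, 13]) (14 * 16) 16 = true := by decide +kernel

set_option maxHeartbeats 4000000 in
theorem fus_E8_7_c15 : wordEq2From chevE8 ([118, 122, 80, 13] ++ [120, 161, 228, 237])
    ([161, 228, 237] ++ [118, 122, 80, 13]) (15 * 16) 16 = true := by decide +kernel

theorem fus_E8_7 : wordEq2 chevE8 ([118, 122, 80, 13] ++ [120, 161, 228, 237])
    ([161, 228, 237] ++ [118, 122, 80, 13]) = true := by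
  apply wordEq2_of_chunks chevE8 _ _ 16 (by decide)
  intro i hi
  have hi' : i < 16 := hi
  interval_cases i
  · exact fus_E8_7_c0
  · exact fus_E8_7_c1
  · exact fus_E8_7_c2
  · exact fus_E8_7_c3
  · exact fus_E8_7_c4
  · exact fus_E8_7_c5
  · exact fus_E8_7_c6
  · exact fus_E8_7_c7
  · exact fus_E8_7_c8
  · exact fus_E8_7_c9
  · exact fus_E8_7_c10
  · exact fus_E8_7_c11
  · exact fus_E8_7_c12
  · exact fus_E8_7_c13
  · exact fus_E8_7_c14
  · exact fus_E8_7_c15

theorem weyl_E8_7 : ([228, 222, 218]).map (wPiF chevE8 [5, 0, 2, 3, 4, 3, 2, 1, 3, 0, 2, 0]) = [161, 228, 237] := by decide +kernel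

end Cfsg.Agent.Lib.Helper25
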