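import Mathlib
import Cfsg.Agent.Lib.Helper25.InvChk2
import Cfsg.Agent.Lib.Helper25.InvTab
import Cfsg.Prelude.Def_ChevE8

/-!
# Involution classes of `E₈(2^a)`: a fusion of classes of sets of orthogonal roots

The product of the root elements of the roots [120, 123, 130, 147, 156, 161, 232, 233]
is conjugate, by a product of four root elements, to a product over one root less.
-/

set_option autoImplicit false

namespace Cfsg.Agent.Lib.Helper25

open Cfsg Cfsg.Lie

set_option maxHeartbeats 4000000 in
theorem fus_E8_8_c0 : wordEq2From chevE8 ([190, 50, 48, 44] ++ [120, 123, 130, 147, 156, 161, 232, 233])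
    ([123, 130, 147, 156, 161, 232, 233] ++ [190, 50, 48, 44]) (0 * 16) 16 = true := by decide +kernel

set_option maxHeartbeats 4000000 in
theorem fus_E8_8_c1 : wordEq2From chevE8 ([190, 50, 48, 44] ++ [120, 123, 130, 147, 156, 161, 232, 233])
    ([123, 130, 147, 156, 161, 232, 233] ++ [190, 50, 48, 44]) (1 * 16) 16 = true := by decide +kernel

set_option maxHeartbeats 4000000 in
theorem fus_E8_8_c2 : wordEq2From chevE8 ([190, 50, 48, 44] ++ [120, 123, 130, 147, 156, 161, 232, 233])
    ([123, 130, 147, 156, 161, 232, 233] ++ [190, 50, 48, 44]) (2 * 16) 16 = true := by decide +kernel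

set_option maxHeartbeats 4000000 in
theorem fus_E8_8_c3 : wordEq2From chevE8 ([190, 50, 48, 44] ++ [120, 123, 130, 147, 156, 161, 232, 233])
    ([123, 130, 147, 156, 161, 232, 233] ++ [190, 50, 48, 44]) (3 * 16) 16 = true := by decide +kernel

set_option maxHeartbeats 4000000 in
theorem fus_E8_8_c4 : wordEq2From chevE8 ([190, 50, 48, 44] ++ [120, 123, 130, 147, 156, 161, 232, 233])
    ([123, 130, 147, 156, 161, 232, 233] ++ [190, 50, 48, 44]) (4 * 16) 16 = true := by decide +kernel

set_option maxHeartbeats 4000000 in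
theorem fus_E8_8_c5 : wordEq2From chevE8 ([190, 50, 48, 44] ++ [120, 123, 130, 147, 156, 161, 232, 233])
    ([123, 130, 147, 156, 161, 232, 233] ++ [190, 50, 48, 44]) (5 * 16) 16 = true := by decide +kernel

set_option maxHeartbeats 4000000 in
theorem fus_E8_8_c6 : wordEq2From chevE8 ([190, 50, 48, 44] ++ [120, 123, 130, 147, 156, 161, 232, 233])
    ([123, 130, 147, 156, 161, 232, 233] ++ [190, 50, 48, 44]) (6 * 16) 16 = true := by decide +kernel

set_option maxHeartbeats 4000000 in
theorem fus_E8_8_c7 : wordEq2From chevE8 ([190, 50, 48, 44] ++ [120, 123, 130, 147, 156, 161, 232, 233])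
    ([123, 130, 147, 156, 161, 232, 233] ++ [190, 50, 48, 44]) (7 * 16) 16 = true := by decide +kernel

set_option maxHeartbeats 4000000 in
theorem fus_E8_8_c8 : wordEq2From chevE8 ([190, 50, 48, 44] ++ [120, 123, 130, 147, 156, 161, 232, 233])
    ([123, 130, 147, 156, 161, 232, 233] ++ [190, 50, 48, 44]) (8 * 16) 16 = true := by decide +kernel

set_option maxHeartbeats 4000000 in
theorem fus_E8_8_c9 : wordEq2From chevE8 ([190, 50, 48, 44] ++ [120, 123, 130, 147, 156, 161, 232, 233])
    ([123, 130, 147, 156, 161, 232, 233] ++ [190, 50, 48, 44]) (9 * 16) 16 = true := by decide +kernel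

set_option maxHeartbeats 4000000 in
theorem fus_E8_8_c10 : wordEq2From chevE8 ([190, 50, 48, 44] ++ [120, 123, 130, 147, 156, 161, 232, 233])
    ([123, 130, 147, 156, 161, 232, 233] ++ [190, 50, 48, 44]) (10 * 16) 16 = true := by decide +kernel

set_option maxHeartbeats 4000000 in
theorem fus_E8_8_c11 : wordEq2From chevE8 ([190, 50, 48, 44] ++ [120, 123, 130, 147, 156, 161, 232, 233])
    ([123, 130, 147, 156, 161, 232, 233] ++ [190, 50, 48, 44]) (11 * 16) 16 = true := by decide +kernel

set_option maxHeartbeats 4000000 in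
theorem fus_E8_8_c12 : wordEq2From chevE8 ([190, 50, 48, 44] ++ [120, 123, 130, 147, 156, 161, 232, 233])
    ([123, 130, 147, 156, 161, 232, 233] ++ [190, 50, 48, 44]) (12 * 16) 16 = true := by decide +kernel

set_option maxHeartbeats 4000000 in
theorem fus_E8_8_c13 : wordEq2From chevE8 ([190, 50, 48, 44] ++ [120, 123, 130, 147, 156, 161, 232, 233])
    ([123, 130, 147, 156, 161, 232, 233] ++ [190, 50, 48, 44]) (13 * 16) 16 = true := by decide +kernel

set_option maxHeartbeats 4000000 in
theorem fus_E8_8_c14 : wordEq2From chevE8 ([190, 50, 48, 44] ++ [120, 123, 130, 147, 156, 161, 232, 233])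
    ([123, 130, 147, 156, 161, 232, 233] ++ [190, 50, 48, 44]) (14 * 16) 16 = true := by decide +kernel

set_option maxHeartbeats 4000000 in
theorem fus_E8_8_c15 : wordEq2From chevE8 ([190, 50, 48, 44] ++ [120, 123, 130, 147, 156, 161, 232, 233])
    ([123, 130, 147, 156, 161, 232, 233] ++ [190, 50, 48, 44]) (15 * 16) 16 = true := by decide +kernel

theorem fus_E8_8 : wordEq2 chevE8 ([190, 50, 48, 44] ++ [120, 123, 130, 147, 156, 161, 232, 233])
    ([123, 130, 147, 156, 161, 232, 233] ++ [190, 50, 48, 44]) = true := by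
  apply wordEq2_of_chunks chevE8 _ _ 16 (by decide)
  intro i hi
  have hi' : i < 16 := hi
  interval_cases i
  · exact fus_E8_8_c0
  · exact fus_E8_8_c1
  · exact fus_E8_8_c2
  · exact fus_E8_8_c3
  · exact fus_E8_8_c4
  · exact fus_E8_8_c5
  · exact fus_E8_8_c6
  · exact fus_E8_8_c7
  · exact fus_E8_8_c8
  · exact fus_E8_8_c9
  · exact fus_E8_8_c10
  · exact fus_E8_8_c11
  · exact fus_E8_8_c12
  · exact fus_E8_8_c13
  · exact fus_E8_8_c14
  · exact fus_E8_8_c15

theorem weyl_E8_8 : ([123, 130, 147, 156, 161, 232, 233]).map (wPiF chevE8 []) = [123, 130, 147, 156, 161, 232, 233] := by decide +kernel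

end Cfsg.Agent.Lib.Helper25
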