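import Mathlib
import Cfsg.Agent.Lib.Helper25.InvDefs
import Cfsg.Agent.Lib.Helper6.InvIA
import Cfsg.Agent.Lib.Helper28.InvIC
import Cfsg.Agent.Lib.Helper68.InvIU

/-!
# Involutions of a finite group with a `(B, N)`-pair are conjugate into `N`

Every involution is conjugate to an element of `N` whose class `w` in the Weyl group satisfies,
for every fundamental reflection `s`: `ℓ(w s) < ℓ(w)` or `s w = w s`.
-/

set_option autoImplicit false

namespace Cfsg.Agent.Lib.Helper25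

open Cfsg Cfsg.Agent.Lib.Helper8

section Abstract

variable {G : Type*} [Group G]

theorem inv_conj_to_N [Finite G] (P : BNPair G) (U H : Subgroup G)
    (hBU : ∀ b ∈ P.B, ∃ u ∈ U, ∃ h ∈ P.B ⊓ P.N, b = u * h) (hUB : U ≤ P.B)
    (hUc : ∀ u ∈ U, ∀ g : G, g * u * g⁻¹ ∈ P.B → g * u * g⁻¹ ∈ U)
    (hUN : ∀ u ∈ U, u ∈ P.N → u = 1) (hHN : H ≤ P.N)
    (h0 : ∃ n₀ : P.N, (∀ x : G, x ∈ H ↔ x ∈ P.B ∧ (n₀ : G)⁻¹ * x * (n₀ : G) ∈ P.B) ∧
      ∀ w : W P, NoRAsc (SW P) w ↔ w = cl P n₀)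
    (t : G) (ht : t * t = 1) :
    ∃ (g : G) (n : P.N), g * t * g⁻¹ = (n : G) ∧
      ∀ s ∈ SW P, len (SW P) (cl P n * s) < len (SW P) (cl P n) ∨ s * cl P n = cl P n * s := by
  obtain ⟨g, u, n, hu, hg, hmax⟩ := inv_exists_max P U hBU t
  have hu1 := inv_u_eq_one P U H hUB hUc hUN hHN h0 t ht g u n hu hg hmax
  have hmem : g * t * g⁻¹ ∈ dc P (n : G) := by
    rw [hg, hu1, one_mul]
    exact mem_dc_self P _
  refine ⟨g, n, by rw [hg, hu1, one_mul], (inv_cell_dichotomy P t ht n g hmem hmax).2⟩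

end Abstract

end Cfsg.Agent.Lib.Helper25
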