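import Mathlib
import Cfsg.Agent.Lib.Helper29.InvCRcore
import Cfsg.Agent.Lib.Helper21.InvCA
import Cfsg.Agent.Lib.Helper69.InvCB
import Cfsg.Agent.Lib.Helper16.InvCS
import Cfsg.Agent.Lib.Helper16.InvCW
import Cfsg.Agent.Lib.Helper39.InvCM
import Cfsg.Agent.Lib.Helper25.InvSurv
import Cfsg.Agent.Lib.Helper25.InvChk
import Cfsg.Agent.Lib.Helper25.InvTab
import Cfsg.Agent.Lib.Helper24.CommFAll

/-!
# Involution classes of Chevalley groups in characteristic two: the generic assembly

Every involution is conjugate to a product of root elements `x_b(1)` over one of finitely many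
lists of pairwise commuting roots, read off a table of Weyl group elements; conjugation of such
products by Weyl group elements and by explicit products of root elements.
-/

set_option autoImplicit false

namespace Cfsg.Agent.Lib.Helper25

open Cfsg Cfsg.Lie Matrix
open Cfsg.Agent.Lib.Helper8 Cfsg.Agent.Lib.Helper24

section

variable {F : Type*} [Field F]

theorem hcomm_of_chk (D : ChevalleyDatum) (hD : D ∈ chevList) (Bs : List ℕ)
    (h : strongCommChk D Bs = true) :
    ∀ b ∈ Bs, ∀ b' ∈ Bs, b ≠ b' → ∀ r ∈ [b, D.neg b], ∀ r' ∈ [b', D.neg b'],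
      D.x F r 1 * D.x F r' 1 = D.x F r' 1 * D.x F r 1 := by
  intro b hb b' hb' hne r hr r' hr'
  unfold strongCommChk at h
  rw [List.all_eq_true] at h
  have h1 := h b hb
  rw [List.all_eq_true] at h1
  have h2 := h1 b' hb'
  rw [Bool.or_eq_true] at h2
  rcases h2 with h2 | h2
  · exact absurd (by simpa using h2) hne
  · rw [List.all_eq_true] at h2
    have h3 := h2 r hr
    rw [List.all_eq_true] at h3
    have h4 := h3 r' hr'
    simp only [Bool.and_eq_true, decide_eq_true_eq] at h4
    obtain ⟨⟨⟨⟨h5, h6⟩, h7⟩, h8⟩, h9⟩ := h4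
    have hc := comm_formula (F := F) D hD r r' h5 h6 h7 h8 1 1
    have hw : D.commWord F r r' 1 1 = [] := by
      unfold ChevalleyDatum.commWord
      rw [h9]
      rfl
    rw [hw] at hc
    have e : D.wordMat F ([] : List (ℕ × F)) = 1 := by
      unfold ChevalleyDatum.wordMat
      rfl
    rw [e, mul_one] at hc
    exact hc.symm

/-- A product of root elements, as an element of the Chevalley group. -/
theorem exists_xProdGL (D : ChevalleyDatum) (hD : D ∈ chevList) (Bs : List ℕ) :
    ∃ g : GL D.Idx F, g ∈ D.group F ∧ (g : Matrix D.Idx D.Idx F) = xProd F D Bs := by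
  induction Bs with
  | nil => exact ⟨1, one_mem _, by simp [xProd]⟩
  | cons b Bs ih =>
    obtain ⟨g, hg, e⟩ := ih
    refine ⟨xGL D hD b 1 * g, mul_mem (xGL_mem_group D hD b 1) hg, ?_⟩
    rw [Units.val_mul, e, xGL_val]
    simp [xProd]

theorem xProd_append (D : ChevalleyDatum) (A B : List ℕ) :
    xProd F D (A ++ B) = xProd F D A * xProd F D B := by
  unfold xProd
  rw [List.map_append, List.prod_append]

/-- Every involution of the group is conjugate to the product of root elements of a table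
entry. -/
theorem inv_chev_classes_gen [Fintype F] [CharP F 2] (D : ChevalleyDatum)
    (hD : D ∈ [chevG2, chevB2, chevD4, chevF4, chevE6, chevE7, chevE8]) {l : ℕ}
    (M : CoxeterMatrix (Fin l)) (hl : D.rank = l)
    (hweyl : ∃ φ : ↥(D.monomialSubgroup F) →* M.Group, Function.Surjective φ ∧
      φ.ker = (D.diagonalSubgroup F).subgroupOf (D.monomialSubgroup F) ∧
      ∀ (i : Fin l) (g : ↥(D.monomialSubgroup F)),
        ((g : GL D.Idx F) : Matrix D.Idx D.Idx F) = D.nMat F (D.simple i) 1 →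
          φ g = M.simple i)
    (ML : List (List ℕ)) (cart : List (List ℤ)) (levels : List LevelData)
    (hlen : levels.length = l) (hM : ∀ i j : Fin l, M i j = tbl ML i j)
    (hchain : chainOK ML cart l 0 levels = true)
    (hpos : posChkAll D 0 levels = true)
    (data : List (List ℕ × List (List ℕ × ℕ) × List ℕ))
    (hsurv : ∀ v ∈ allWords levels, (∀ i ∈ v, i < D.rank) →
      (∀ i < D.rank, D.IsNegRoot (wPi D v (D.simple i)) ∨ wPi D v (D.simple i) = D.simple i) →
      v ∈ data.map (·.1))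
    (hdata : ∀ e ∈ data, odChk D e.1 e.2.1 e.2.2 = true)
    (hcomm : ∀ e ∈ data, ∀ b ∈ e.2.2, ∀ b' ∈ e.2.2, b ≠ b' → ∀ r ∈ [b, D.neg b],
      ∀ r' ∈ [b', D.neg b'], D.x F r 1 * D.x F r' 1 = D.x F r' 1 * D.x F r 1)
    (t : GL D.Idx F) (ht : t ∈ D.group F) (h2 : t * t = 1) :
    ∃ c ∈ D.group F, ∃ e ∈ data,
      ((c * t * c⁻¹ : GL D.Idx F) : Matrix D.Idx D.Idx F) = xProd F D e.2.2 := by
  have hD' : D ∈ chevList := hD
  have hp2 : Fact (Nat.Prime 2) := ⟨Nat.prime_two⟩
  obtain ⟨g, hg, v, hv, hval, h, hh, e⟩ := inv_chev_reduce_of D hD (inv_chev_hyps (F := F) 2 D hD)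
    (fun v hv n h hh hn i hi hc => inv_chev_cond D hD v hv n h hh hn i hi hc)
    M hl hweyl ML cart levels hlen hM hchain hpos (data.map (·.1)) hsurv t ht h2
  obtain ⟨d, hd, rfl⟩ := List.mem_map.1 hv
  have hchk := hdata d hd
  unfold odChk at hchk
  simp only [Bool.and_eq_true, List.all_eq_true, decide_eq_true_eq, List.mem_range] at hchk
  obtain ⟨⟨⟨⟨hv1, hod⟩, hBs⟩, hnd⟩, hfix⟩ := hchk
  have hod' : ∀ e ∈ d.2.1, (∀ i ∈ e.1, i < D.rank) ∧ e.2 < D.rank := fun e he => hod e he
  have hBs' : d.2.2 = d.2.1.map fun e => wPi D e.1 (D.simple e.2) := by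
    rw [hBs]
    apply List.map_congr_left
    intro e he
    exact wPiF_eq D hD e.1 (hod' e he).1 _ (simple_lt D hD' _ (hod' e he).2)
  have hrw : ∀ i ∈ reflWord d.2.1 ++ d.1.reverse, i < D.rank := by
    intro i hi
    rcases List.mem_append.1 hi with hi | hi
    · unfold reflWord at hi
      rw [List.mem_flatMap] at hi
      obtain ⟨e, he, hie⟩ := hi
      rcases List.mem_append.1 hie with hie | hie
      · rcases List.mem_append.1 hie with hie | hie
        · exact (hod' e he).1 i hie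
        · simp only [List.mem_cons, List.not_mem_nil, or_false] at hie
          rw [hie]
          exact (hod' e he).2
      · exact (hod' e he).1 i (List.mem_reverse.1 hie)
    · exact hv1 i (List.mem_reverse.1 hi)
  have hfix' : ∀ i < D.rank, wPi D (reflWord d.2.1 ++ d.1.reverse) (D.simple i) = D.simple i := by
    intro i hi
    rw [← wPiF_eq D hD _ hrw _ (simple_lt D hD' i hi)]
    exact hfix i hi
  have hn2 : (g * t * g⁻¹) * (g * t * g⁻¹) = 1 := by
    have : (g * t * g⁻¹) * (g * t * g⁻¹) = g * (t * t) * g⁻¹ := by group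
    rw [this, h2]
    group
  obtain ⟨c, hc, ec⟩ := inv_chev_survivor D hD d.1 hv1 d.2.1 hod' d.2.2 hBs' hnd (hcomm d hd) hfix'
    (g * t * g⁻¹) h hh e hn2
  refine ⟨c * g, mul_mem hc hg, d, hd, ?_⟩
  have : c * g * t * (c * g)⁻¹ = c * (g * t * g⁻¹) * c⁻¹ := by group
  rw [this]
  exact ec

/-- The same, with the enumeration of the Weyl group checked by brute force. -/
theorem inv_chev_classes [Fintype F] [CharP F 2] (D : ChevalleyDatum)
    (hD : D ∈ [chevG2, chevB2, chevD4, chevF4, chevE6, chevE7, chevE8]) {l : ℕ}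
    (M : CoxeterMatrix (Fin l)) (hl : D.rank = l)
    (hweyl : ∃ φ : ↥(D.monomialSubgroup F) →* M.Group, Function.Surjective φ ∧
      φ.ker = (D.diagonalSubgroup F).subgroupOf (D.monomialSubgroup F) ∧
      ∀ (i : Fin l) (g : ↥(D.monomialSubgroup F)),
        ((g : GL D.Idx F) : Matrix D.Idx D.Idx F) = D.nMat F (D.simple i) 1 →
          φ g = M.simple i)
    (ML : List (List ℕ)) (cart : List (List ℤ)) (levels : List LevelData)
    (hlen : levels.length = l) (hM : ∀ i j : Fin l, M i j = tbl ML i j)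
    (hchain : chainOK ML cart l 0 levels = true)
    (hpos : posChkAll D 0 levels = true)
    (hneg : negHalfChk D = true)
    (data : List (List ℕ × List (List ℕ × ℕ) × List ℕ))
    (hsurv : survChk D (allWords levels) (data.map (·.1)) = true)
    (hdata : ∀ e ∈ data, odChk D e.1 e.2.1 e.2.2 = true)
    (hcomm : ∀ e ∈ data, ∀ b ∈ e.2.2, ∀ b' ∈ e.2.2, b ≠ b' → ∀ r ∈ [b, D.neg b],
      ∀ r' ∈ [b', D.neg b'], D.x F r 1 * D.x F r' 1 = D.x F r' 1 * D.x F r 1)
    (t : GL D.Idx F) (ht : t ∈ D.group F) (h2 : t * t = 1) :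
    ∃ c ∈ D.group F, ∃ e ∈ data,
      ((c * t * c⁻¹ : GL D.Idx F) : Matrix D.Idx D.Idx F) = xProd F D e.2.2 :=
  inv_chev_classes_gen D hD M hl hweyl ML cart levels hlen hM hchain hpos data
    (survChk_sound D hD hneg _ _ hsurv) hdata hcomm t ht h2

/-- Conjugation of a product of root elements by a Weyl group element. -/
theorem conj_weyl [CharP F 2] (D : ChevalleyDatum)
    (hD : D ∈ [chevG2, chevB2, chevD4, chevF4, chevE6, chevE7, chevE8])
    (u : List ℕ) (hu : ∀ i ∈ u, i < D.rank) (Γ : List ℕ) (hΓ : ∀ r ∈ Γ, r < D.nroots)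
    (Bs : List ℕ) (hBs : Γ.map (wPiF D u) = Bs)
    (t c : GL D.Idx F) (hc : c ∈ D.group F)
    (h : ((c * t * c⁻¹ : GL D.Idx F) : Matrix D.Idx D.Idx F) = xProd F D Bs) :
    ∃ c' ∈ D.group F, ((c' * t * c'⁻¹ : GL D.Idx F) : Matrix D.Idx D.Idx F) = xProd F D Γ := by
  have hD' : D ∈ chevList := hD
  obtain ⟨n, hn, hmem⟩ := exists_nWordGL (F := F) D hD u hu
  have hnG : n ∈ D.group F := monomialSubgroup_le_group D hD' (simple_n_le_monomial D hD hmem)
  have hmap : Γ.map (wPi D u) = Bs := by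
    rw [← hBs]
    apply List.map_congr_left
    intro r hr
    exact (wPiF_eq D hD u hu r (hΓ r hr)).symm
  have hw := inv_chev_weyl_conj (F := F) D hD u hu Γ hΓ
  rw [hmap, ← hn, ← h] at hw
  refine ⟨n⁻¹ * c, mul_mem (inv_mem hnG) hc, ?_⟩
  have e1 : n⁻¹ * c * t * (n⁻¹ * c)⁻¹ = n⁻¹ * (c * t * c⁻¹) * n := by group
  rw [e1, Units.val_mul, Units.val_mul, Matrix.mul_assoc, ← hw, ← Matrix.mul_assoc, ← Units.val_mul,
    inv_mul_cancel, Units.val_one, Matrix.one_mul]

/-- Conjugation of a product of root elements by a product of root elements, from an identity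
checked modulo two. -/
theorem conj_fusion [CharP F 2] (D : ChevalleyDatum) (hD : D ∈ chevList)
    (G Bs Bs' : List ℕ) (hG : ∀ r ∈ G, r < D.nroots) (hB : ∀ r ∈ Bs, r < D.nroots)
    (hB' : ∀ r ∈ Bs', r < D.nroots) (hchk : wordEq2 D (G ++ Bs) (Bs' ++ G) = true)
    (t c : GL D.Idx F) (hc : c ∈ D.group F)
    (h : ((c * t * c⁻¹ : GL D.Idx F) : Matrix D.Idx D.Idx F) = xProd F D Bs) :
    ∃ c' ∈ D.group F, ((c' * t * c'⁻¹ : GL D.Idx F) : Matrix D.Idx D.Idx F) = xProd F D Bs' := by
  obtain ⟨g, hg, eg⟩ := exists_xProdGL (F := F) D hD G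
  have hw := wordEq2_sound (F := F) D (G ++ Bs) (Bs' ++ G)
    (fun r hr => by
      rcases List.mem_append.1 hr with hr | hr
      · exact hG r hr
      · exact hB r hr)
    (fun r hr => by
      rcases List.mem_append.1 hr with hr | hr
      · exact hB' r hr
      · exact hG r hr) hchk
  rw [xProd_append, xProd_append, ← eg, ← h] at hw
  refine ⟨g * c, mul_mem hg hc, ?_⟩
  have e1 : g * c * t * (g * c)⁻¹ = g * (c * t * c⁻¹) * g⁻¹ := by group
  rw [e1, Units.val_mul, Units.val_mul, hw, Matrix.mul_assoc, ← Units.val_mul, mul_inv_cancel,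
    Units.val_one, Matrix.mul_one]

end

end Cfsg.Agent.Lib.Helper25
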