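import Mathlib
import Cfsg.Agent.Lib.Helper25.InvGen2
import Cfsg.Agent.Lib.Helper25.InvE8Data
import Cfsg.Agent.Lib.Helper25.InvE8Fus7
import Cfsg.Agent.Lib.Helper25.InvE8Fus4
import Cfsg.Agent.Lib.Helper25.InvE8Fus5
import Cfsg.Agent.Lib.Helper25.InvE8Fus6
import Cfsg.Agent.Lib.Helper25.InvE8Fus8
import Cfsg.Agent.Lib.Helper25.InvE8CertK1
import Cfsg.Agent.Lib.Helper25.InvE8CertK2
import Cfsg.Agent.Lib.Helper25.InvE8CertK3
import Cfsg.Agent.Lib.Helper25.InvE8CertR2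
import Cfsg.Agent.Lib.Helper25.InvE8CertR3
import Cfsg.Agent.Lib.Helper25.InvE8CertR4
import Cfsg.Agent.Lib.Helper25.ChevWeylData
import Cfsg.Agent.Lib.Helper25.ChevOrderData
import Cfsg.Agent.Lib.Helper57.InvCX
import Cfsg.Agent.Lib.Helper39.InvCK
import Cfsg.Agent.Lib.Helper39.InvCM

/-!
# Involution classes of `E₈(2^a)`
-/

set_option autoImplicit false

namespace Cfsg.Agent.Lib.Helper25

open Cfsg Cfsg.Lie Matrix
open Cfsg.Agent.Lib.Helper8 Cfsg.Agent.Lib.Helper24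

/-- The standard sets of orthogonal roots. -/
def e8Std : List (List ℕ) := [[239], [232, 233], [228, 222, 218], [226, 220, 213, 216]]

theorem e8_strong_1 : strongCommChk chevE8 [239] = true := by decide +kernel

theorem e8_strong_2 : strongCommChk chevE8 [232, 233] = true := by decide +kernel

theorem e8_strong_3 : strongCommChk chevE8 [228, 222, 218] = true := by decide +kernel

theorem e8_strong_4 : strongCommChk chevE8 [226, 220, 213, 216] = true := by decide +kernel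

theorem e8_bit_1 : (apps2 chevE8 [239] (1 <<< 8) ^^^ (1 <<< 8)).testBit 1 = true := by
  decide +kernel

theorem e8_bit_2 : (apps2 chevE8 [232, 233] (1 <<< 14) ^^^ (1 <<< 14)).testBit 1 = true := by
  decide +kernel

theorem e8_bit_3 : (apps2 chevE8 [228, 222, 218] (1 <<< 8) ^^^ (1 <<< 8)).testBit 60 = true := by
  decide +kernel

theorem e8_bit_4 : (apps2 chevE8 [226, 220, 213, 216] (1 <<< 34) ^^^ (1 <<< 34)).testBit 3 = true := by
  decide +kernel

section

variable {F : Type*} [Field F]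

theorem e8_cls_7 [CharP F 2] (t c : GL chevE8.Idx F) (hc : c ∈ chevE8.group F)
    (h : ((c * t * c⁻¹ : GL chevE8.Idx F) : Matrix chevE8.Idx chevE8.Idx F) =
      xProd F chevE8 [120, 161, 228, 237]) :
    ∃ c' ∈ chevE8.group F, ∃ Y ∈ e8Std,
      ((c' * t * c'⁻¹ : GL chevE8.Idx F) : Matrix chevE8.Idx chevE8.Idx F) = xProd F chevE8 Y := by
  have hD : chevE8 ∈ [chevG2, chevB2, chevD4, chevF4, chevE6, chevE7, chevE8] := by simp
  have hD' : chevE8 ∈ chevList := hD
  obtain ⟨c₁, hc₁, e₁⟩ := conj_fusion (F := F) chevE8 hD' [118, 122, 80, 13]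
    [120, 161, 228, 237]
    [161, 228, 237] (by decide) (by decide) (by decide) fus_E8_7 t c hc h
  obtain ⟨c₂, hc₂, e₂⟩ := conj_weyl (F := F) chevE8 hD [5, 0, 2, 3, 4, 3, 2, 1, 3, 0, 2, 0] (by decide)
    [228, 222, 218] (by decide) [161, 228, 237] weyl_E8_7 t c₁ hc₁ e₁
  exact ⟨c₂, hc₂, _, by simp [e8Std], e₂⟩

theorem e8_cls_4 [CharP F 2] (t c : GL chevE8.Idx F) (hc : c ∈ chevE8.group F)
    (h : ((c * t * c⁻¹ : GL chevE8.Idx F) : Matrix chevE8.Idx chevE8.Idx F) =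
      xProd F chevE8 [147, 156, 161, 232, 233]) :
    ∃ c' ∈ chevE8.group F, ∃ Y ∈ e8Std,
      ((c' * t * c'⁻¹ : GL chevE8.Idx F) : Matrix chevE8.Idx chevE8.Idx F) = xProd F chevE8 Y := by
  have hD : chevE8 ∈ [chevG2, chevB2, chevD4, chevF4, chevE6, chevE7, chevE8] := by simp
  have hD' : chevE8 ∈ chevList := hD
  obtain ⟨c₁, hc₁, e₁⟩ := conj_fusion (F := F) chevE8 hD' [169, 77, 61, 56]
    [147, 156, 161, 232, 233]
    [156, 161, 233, 232] (by decide) (by decide) (by decide) fus_E8_4 t c hc h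
  obtain ⟨c₂, hc₂, e₂⟩ := conj_weyl (F := F) chevE8 hD [6, 0, 2, 3, 4, 5, 1, 3, 4, 2, 3, 0, 2, 0] (by decide)
    [226, 220, 213, 216] (by decide) [156, 161, 233, 232] weyl_E8_4 t c₁ hc₁ e₁
  exact ⟨c₂, hc₂, _, by simp [e8Std], e₂⟩

theorem e8_cls_5 [CharP F 2] (t c : GL chevE8.Idx F) (hc : c ∈ chevE8.group F)
    (h : ((c * t * c⁻¹ : GL chevE8.Idx F) : Matrix chevE8.Idx chevE8.Idx F) =
      xProd F chevE8 [130, 147, 156, 161, 232, 233]) :
    ∃ c' ∈ chevE8.group F, ∃ Y ∈ e8Std,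
      ((c' * t * c'⁻¹ : GL chevE8.Idx F) : Matrix chevE8.Idx chevE8.Idx F) = xProd F chevE8 Y := by
  have hD : chevE8 ∈ [chevG2, chevB2, chevD4, chevF4, chevE6, chevE7, chevE8] := by simp
  have hD' : chevE8 ∈ chevList := hD
  obtain ⟨c₁, hc₁, e₁⟩ := conj_fusion (F := F) chevE8 hD' [104, 136, 98, 9]
    [130, 147, 156, 161, 232, 233]
    [147, 156, 161, 232, 233] (by decide) (by decide) (by decide) fus_E8_5 t c hc h
  obtain ⟨c₂, hc₂, e₂⟩ := conj_weyl (F := F) chevE8 hD [] (by decide)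
    [147, 156, 161, 232, 233] (by decide) [147, 156, 161, 232, 233] weyl_E8_5 t c₁ hc₁ e₁
  exact e8_cls_4 t c₂ hc₂ e₂

theorem e8_cls_6 [CharP F 2] (t c : GL chevE8.Idx F) (hc : c ∈ chevE8.group F)
    (h : ((c * t * c⁻¹ : GL chevE8.Idx F) : Matrix chevE8.Idx chevE8.Idx F) =
      xProd F chevE8 [123, 130, 147, 156, 161, 232, 233]) :
    ∃ c' ∈ chevE8.group F, ∃ Y ∈ e8Std,
      ((c' * t * c'⁻¹ : GL chevE8.Idx F) : Matrix chevE8.Idx chevE8.Idx F) = xProd F chevE8 Y := by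
  have hD : chevE8 ∈ [chevG2, chevB2, chevD4, chevF4, chevE6, chevE7, chevE8] := by simp
  have hD' : chevE8 ∈ chevList := hD
  obtain ⟨c₁, hc₁, e₁⟩ := conj_fusion (F := F) chevE8 hD' [127, 113, 108, 91]
    [123, 130, 147, 156, 161, 232, 233]
    [130, 147, 156, 161, 232, 233] (by decide) (by decide) (by decide) fus_E8_6 t c hc h
  obtain ⟨c₂, hc₂, e₂⟩ := conj_weyl (F := F) chevE8 hD [] (by decide)
    [130, 147, 156, 161, 232, 233] (by decide) [130, 147, 156, 161, 232, 233] weyl_E8_6 t c₁ hc₁ e₁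
  exact e8_cls_5 t c₂ hc₂ e₂

theorem e8_cls_8 [CharP F 2] (t c : GL chevE8.Idx F) (hc : c ∈ chevE8.group F)
    (h : ((c * t * c⁻¹ : GL chevE8.Idx F) : Matrix chevE8.Idx chevE8.Idx F) =
      xProd F chevE8 [120, 123, 130, 147, 156, 161, 232, 233]) :
    ∃ c' ∈ chevE8.group F, ∃ Y ∈ e8Std,
      ((c' * t * c'⁻¹ : GL chevE8.Idx F) : Matrix chevE8.Idx chevE8.Idx F) = xProd F chevE8 Y := by
  have hD : chevE8 ∈ [chevG2, chevB2, chevD4, chevF4, chevE6, chevE7, chevE8] := by simp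
  have hD' : chevE8 ∈ chevList := hD
  obtain ⟨c₁, hc₁, e₁⟩ := conj_fusion (F := F) chevE8 hD' [190, 50, 48, 44]
    [120, 123, 130, 147, 156, 161, 232, 233]
    [123, 130, 147, 156, 161, 232, 233] (by decide) (by decide) (by decide) fus_E8_8 t c hc h
  obtain ⟨c₂, hc₂, e₂⟩ := conj_weyl (F := F) chevE8 hD [] (by decide)
    [123, 130, 147, 156, 161, 232, 233] (by decide) [123, 130, 147, 156, 161, 232, 233] weyl_E8_8 t c₁ hc₁ e₁
  exact e8_cls_6 t c₂ hc₂ e₂

/-- Every involution of `E₈(2^a)` is conjugate to one of the standard products. -/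
theorem e8_class [Fintype F] [CharP F 2] (t : GL chevE8.Idx F) (ht : t ∈ chevE8.group F)
    (h2 : orderOf t = 2) :
    ∃ c ∈ chevE8.group F, ∃ Y ∈ e8Std,
      ((c * t * c⁻¹ : GL chevE8.Idx F) : Matrix chevE8.Idx chevE8.Idx F) = xProd F chevE8 Y := by
  have hD : chevE8 ∈ [chevG2, chevB2, chevD4, chevF4, chevE6, chevE7, chevE8] := by simp
  have hD' : chevE8 ∈ chevList := hD
  have htt : t * t = 1 := by
    have := pow_orderOf_eq_one t
    rw [h2, pow_two] at this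
    exact this
  obtain ⟨c, hc, Y, hY, hcY⟩ := inv_chev_classes_tab (F := F) chevE8 hD CoxeterMatrix.E₈ rfl weyl_E8
    e8ML e8Cart e8Levels (by decide) (by intro i j; fin_cases i <;> fin_cases j <;> rfl)
    chainOK_E8 posChk_E8 e8Cls e8Tab prune_E8 e8Tab_chk t ht htt
  simp only [e8Cls, List.mem_cons, List.not_mem_nil, or_false] at hY
  rcases hY with rfl | rfl | rfl | rfl | rfl | rfl | rfl | rfl | rfl | rfl
  · exact ⟨c, hc, _, by simp [e8Std], hcY⟩
  · exact ⟨c, hc, _, by simp [e8Std], hcY⟩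
  · exact ⟨c, hc, _, by simp [e8Std], hcY⟩
  · exact ⟨c, hc, _, by simp [e8Std], hcY⟩
  · exact e8_cls_4 t c hc hcY
  · exact e8_cls_5 t c hc hcY
  · exact e8_cls_6 t c hc hcY
  · exact e8_cls_7 t c hc hcY
  · exact e8_cls_8 t c hc hcY
  · -- the identity: impossible
    exfalso
    have h1 : c * t * c⁻¹ = 1 := by
      apply Units.ext
      rw [hcY]
      simp [xProd]
    have h3 : t = 1 := by
      have : t = c⁻¹ * (c * t * c⁻¹) * c := by group
      rw [this, h1]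
      group
    rw [h3, orderOf_one] at h2
    omega

/-- The standard products lie in the group and have order two. -/
theorem e8_part1 [CharP F 2] (Y : List ℕ) (hY : Y ∈ e8Std) (y : GL chevE8.Idx F)
    (hy : (y : Matrix chevE8.Idx chevE8.Idx F) = xProd F chevE8 Y) :
    y ∈ chevE8.group F ∧ orderOf y = 2 := by
  have hD : chevE8 ∈ [chevG2, chevB2, chevD4, chevF4, chevE6, chevE7, chevE8] := by simp
  have hD' : chevE8 ∈ chevList := hD
  simp only [e8Std, List.mem_cons, List.not_mem_nil, or_false] at hY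
  obtain ⟨g, hg, eg⟩ := exists_xProdGL (F := F) chevE8 hD' Y
  have hyg : y = g := Units.ext (hy.trans eg.symm)
  refine ⟨hyg ▸ hg, ?_⟩
  have hB : ∀ b ∈ Y, b < chevE8.nroots := by
    rcases hY with rfl | rfl | rfl | rfl <;> decide
  have hnd : Y.Nodup := by
    rcases hY with rfl | rfl | rfl | rfl <;> decide
  have hchk : strongCommChk chevE8 Y = true := by
    rcases hY with rfl | rfl | rfl | rfl
    · exact e8_strong_1
    · exact e8_strong_2
    · exact e8_strong_3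
    · exact e8_strong_4
  have hsq := (inv_chev_nprod (F := F) chevE8 hD Y hB hnd (hcomm_of_chk chevE8 hD' Y hchk)).2.2
  have hne : xProd F chevE8 Y ≠ 1 := by
    rcases hY with rfl | rfl | rfl | rfl
    · exact xProd_ne_one_of_bit chevE8 _ hB 8 1 (by decide) (by decide) e8_bit_1
    · exact xProd_ne_one_of_bit chevE8 _ hB 14 1 (by decide) (by decide) e8_bit_2
    · exact xProd_ne_one_of_bit chevE8 _ hB 8 60 (by decide) (by decide) e8_bit_3
    · exact xProd_ne_one_of_bit chevE8 _ hB 34 3 (by decide) (by decide) e8_bit_4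
  have : Fact (Nat.Prime 2) := ⟨Nat.prime_two⟩
  apply orderOf_eq_prime
  · apply Units.ext
    rw [pow_two, Units.val_mul, hy, hsq, Units.val_one]
  · intro h1
    apply hne
    rw [← hy, h1, Units.val_one]

theorem e8_nc_1_2 [CharP F 2] (P : GL chevE8.Idx F) :
    (P : Matrix chevE8.Idx chevE8.Idx F) * xProd F chevE8 [239] ≠
      xProd F chevE8 [232, 233] * (P : Matrix chevE8.Idx chevE8.Idx F) :=
  inv_chev_not_conj chevE8 [239] [232, 233] (by decide) (by decide) e8K1 e8R2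
    e8K1_chk e8R2_chk (by rw [e8K1_len, e8R2_len]; decide) P

theorem e8_nc_1_3 [CharP F 2] (P : GL chevE8.Idx F) :
    (P : Matrix chevE8.Idx chevE8.Idx F) * xProd F chevE8 [239] ≠
      xProd F chevE8 [228, 222, 218] * (P : Matrix chevE8.Idx chevE8.Idx F) :=
  inv_chev_not_conj chevE8 [239] [228, 222, 218] (by decide) (by decide) e8K1 e8R3
    e8K1_chk e8R3_chk (by rw [e8K1_len, e8R3_len]; decide) P

theorem e8_nc_1_4 [CharP F 2] (P : GL chevE8.Idx F) :
    (P : Matrix chevE8.Idx chevE8.Idx F) * xProd F chevE8 [239] ≠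
      xProd F chevE8 [226, 220, 213, 216] * (P : Matrix chevE8.Idx chevE8.Idx F) :=
  inv_chev_not_conj chevE8 [239] [226, 220, 213, 216] (by decide) (by decide) e8K1 e8R4
    e8K1_chk e8R4_chk (by rw [e8K1_len, e8R4_len]; decide) P

theorem e8_nc_2_3 [CharP F 2] (P : GL chevE8.Idx F) :
    (P : Matrix chevE8.Idx chevE8.Idx F) * xProd F chevE8 [232, 233] ≠
      xProd F chevE8 [228, 222, 218] * (P : Matrix chevE8.Idx chevE8.Idx F) :=
  inv_chev_not_conj chevE8 [232, 233] [228, 222, 218] (by decide) (by decide) e8K2 e8R3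
    e8K2_chk e8R3_chk (by rw [e8K2_len, e8R3_len]; decide) P

theorem e8_nc_2_4 [CharP F 2] (P : GL chevE8.Idx F) :
    (P : Matrix chevE8.Idx chevE8.Idx F) * xProd F chevE8 [232, 233] ≠
      xProd F chevE8 [226, 220, 213, 216] * (P : Matrix chevE8.Idx chevE8.Idx F) :=
  inv_chev_not_conj chevE8 [232, 233] [226, 220, 213, 216] (by decide) (by decide) e8K2 e8R4
    e8K2_chk e8R4_chk (by rw [e8K2_len, e8R4_len]; decide) P

theorem e8_nc_3_4 [CharP F 2] (P : GL chevE8.Idx F) :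
    (P : Matrix chevE8.Idx chevE8.Idx F) * xProd F chevE8 [228, 222, 218] ≠
      xProd F chevE8 [226, 220, 213, 216] * (P : Matrix chevE8.Idx chevE8.Idx F) :=
  inv_chev_not_conj chevE8 [228, 222, 218] [226, 220, 213, 216] (by decide) (by decide) e8K3 e8R4
    e8K3_chk e8R4_chk (by rw [e8K3_len, e8R4_len]; decide) P

theorem e8_conj_swap (P : GL chevE8.Idx F) (A B : Matrix chevE8.Idx chevE8.Idx F)
    (h : (P : Matrix chevE8.Idx chevE8.Idx F) * A = B * (P : Matrix chevE8.Idx chevE8.Idx F)) :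
    ((P⁻¹ : GL chevE8.Idx F) : Matrix chevE8.Idx chevE8.Idx F) * B =
      A * ((P⁻¹ : GL chevE8.Idx F) : Matrix chevE8.Idx chevE8.Idx F) := by
  have h1 : ((P⁻¹ : GL chevE8.Idx F) : Matrix chevE8.Idx chevE8.Idx F) *
      (P : Matrix chevE8.Idx chevE8.Idx F) = 1 := by
    rw [← Units.val_mul, inv_mul_cancel, Units.val_one]
  have h2 : (P : Matrix chevE8.Idx chevE8.Idx F) *
      ((P⁻¹ : GL chevE8.Idx F) : Matrix chevE8.Idx chevE8.Idx F) = 1 := by
    rw [← Units.val_mul, mul_inv_cancel, Units.val_one]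
  calc ((P⁻¹ : GL chevE8.Idx F) : Matrix chevE8.Idx chevE8.Idx F) * B
      = ((P⁻¹ : GL chevE8.Idx F) : Matrix chevE8.Idx chevE8.Idx F) * B *
          ((P : Matrix chevE8.Idx chevE8.Idx F) *
            ((P⁻¹ : GL chevE8.Idx F) : Matrix chevE8.Idx chevE8.Idx F)) := by
        rw [h2, Matrix.mul_one]
    _ = ((P⁻¹ : GL chevE8.Idx F) : Matrix chevE8.Idx chevE8.Idx F) *
          (B * (P : Matrix chevE8.Idx chevE8.Idx F)) *
            ((P⁻¹ : GL chevE8.Idx F) : Matrix chevE8.Idx chevE8.Idx F) := by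
        simp only [Matrix.mul_assoc]
    _ = (((P⁻¹ : GL chevE8.Idx F) : Matrix chevE8.Idx chevE8.Idx F) *
          (P : Matrix chevE8.Idx chevE8.Idx F)) * A *
            ((P⁻¹ : GL chevE8.Idx F) : Matrix chevE8.Idx chevE8.Idx F) := by
        rw [← h]
        simp only [Matrix.mul_assoc]
    _ = A * ((P⁻¹ : GL chevE8.Idx F) : Matrix chevE8.Idx chevE8.Idx F) := by
        rw [h1, Matrix.one_mul]

/-- Distinct standard products are not conjugate. -/
theorem e8_not_conj [CharP F 2] (Y₁ : List ℕ) (h₁ : Y₁ ∈ e8Std) (Y₂ : List ℕ) (h₂ : Y₂ ∈ e8Std)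
    (hne : Y₁ ≠ Y₂) (P : GL chevE8.Idx F) :
    (P : Matrix chevE8.Idx chevE8.Idx F) * xProd F chevE8 Y₁ ≠
      xProd F chevE8 Y₂ * (P : Matrix chevE8.Idx chevE8.Idx F) := by
  simp only [e8Std, List.mem_cons, List.not_mem_nil, or_false] at h₁ h₂
  rcases h₁ with rfl | rfl | rfl | rfl <;> rcases h₂ with rfl | rfl | rfl | rfl
  · exact absurd rfl hne
  · exact e8_nc_1_2 P
  · exact e8_nc_1_3 P
  · exact e8_nc_1_4 P
  · exact fun h => e8_nc_1_2 P⁻¹ (e8_conj_swap P _ _ h)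
  · exact absurd rfl hne
  · exact e8_nc_2_3 P
  · exact e8_nc_2_4 P
  · exact fun h => e8_nc_1_3 P⁻¹ (e8_conj_swap P _ _ h)
  · exact fun h => e8_nc_2_3 P⁻¹ (e8_conj_swap P _ _ h)
  · exact absurd rfl hne
  · exact e8_nc_3_4 P
  · exact fun h => e8_nc_1_4 P⁻¹ (e8_conj_swap P _ _ h)
  · exact fun h => e8_nc_2_4 P⁻¹ (e8_conj_swap P _ _ h)
  · exact fun h => e8_nc_3_4 P⁻¹ (e8_conj_swap P _ _ h)
  · exact absurd rfl hne

end

end Cfsg.Agent.Lib.Helper25
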