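import Mathlib
import Cfsg.Agent.Lib.Helper25.InvChk
import Cfsg.Prelude.Def_ChevE8

/-!
# Involution classes of `E₈(2^a)`: a certificate for the rank of `y - 1`

A triangular range certificate (code, pivot) for `y - 1`, `y` the product of the root elements
of the roots [232, 233].
-/

set_option autoImplicit false

namespace Cfsg.Agent.Lib.Helper25

open Cfsg Cfsg.Lie

def e8R2 : List (ℕ × ℕ) := [(14, 1), (15, 3), (8, 101), (9, 102), (10, 103), (11, 104), (12, 105), (13, 106), (16, 143), (17, 144), (18, 145), (19, 146), (20, 147), (21, 148), (22, 170), (23, 171), (24, 172), (25, 173), (26, 174), (27, 175), (28, 176), (29, 177), (30, 178), (31, 179), (32, 180), (33, 181), (34, 182), (35, 183), (36, 184), (37, 185), (38, 186), (39, 187), (40, 188), (41, 189), (42, 190), (43, 191), (44, 192), (45, 193), (46, 194), (47, 195), (48, 196), (49, 197), (50, 198), (51, 199), (52, 200), (53, 201), (54, 202), (55, 203), (56, 204), (57, 205), (58, 206), (59, 207), (60, 208), (61, 209), (62, 210), (63, 211), (64, 212), (65, 213), (66, 214), (67, 215), (68, 216), (69, 217), (70, 218), (71, 219), (72, 220), (73,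 221), (74, 222), (75, 223), (76, 224), (77, 225), (78, 226), (79, 227), (80, 228), (81, 229), (82, 230), (83, 231), (84, 232), (85, 233), (2, 240), (0, 241), (107, 234), (108, 235), (109, 236), (110, 237), (111, 238), (112, 239), (149, 242), (150, 243), (151, 244), (152, 245), (153, 246), (154, 247)]

set_option maxHeartbeats 4000000 in
theorem e8R2_chk : ranChk2 chevE8 [232, 233] e8R2 = true := by decide +kernel

theorem e8R2_len : e8R2.length = 92 := by decide +kernel

end Cfsg.Agent.Lib.Helper25
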