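import Mathlib
import Cfsg.Agent.Lib.Helper6.PSLCard

set_option autoImplicit false

/-! Piece RC-SL2CARD of project RC (helper48): the order of `SL₂(F)`. -/

namespace Cfsg.Agent.Lib.Helper48.RC

-- piece RC-SL2CARD
theorem sl2_card {F : Type*} [Field F] [Finite F] :
    Nat.card (Matrix.SpecialLinearGroup (Fin 2) F) =
      Nat.card F * (Nat.card F - 1) * (Nat.card F + 1) := by
  classical
  have : Fintype F := Fintype.ofFinite F
  have h := Cfsg.Agent.Lib.Helper6.card_sl (F := F) (q := Fintype.card F) rfl 2 (by norm_num)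
  rw [Fin.prod_univ_two] at h
  simp only [Fin.val_zero, Fin.val_one, pow_zero, pow_one] at h
  rw [Nat.card_eq_fintype_card (α := F)]
  have hq : 2 ≤ Fintype.card F := Fintype.one_lt_card
  obtain ⟨k, hk⟩ : ∃ k, Fintype.card F = k + 2 := ⟨Fintype.card F - 2, by omega⟩
  rw [hk] at h ⊢
  have e1 : k + 2 - 1 = k + 1 := by omega
  have e2 : (k + 2) ^ 2 - 1 = (k + 1) * (k + 3) := by
    have : (k + 2) ^ 2 = (k + 1) * (k + 3) + 1 := by ring
    omega
  have e3 : (k + 2) ^ 2 - (k + 2) = (k + 2) * (k + 1) := by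
    have : (k + 2) ^ 2 = (k + 2) * (k + 1) + (k + 2) := by ring
    omega
  rw [e1, e2, e3] at h
  rw [e1]
  apply Nat.eq_of_mul_eq_mul_left (show 0 < k + 1 by omega)
  rw [h]; ring

end Cfsg.Agent.Lib.Helper48.RC
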