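import Mathlib
import Cfsg.Agent.Lib.Helper48.RCBase

set_option autoImplicit false

/-! Piece RC-SL2GEN of project RC (helper48): `SL₂(F)` is generated by `up b`, `lo b`. -/

namespace Cfsg.Agent.Lib.Helper48.RC

theorem sl2gen_coe_up {F : Type*} [Field F] (b : F) :
    ((up b : Matrix.SpecialLinearGroup (Fin 2) F) : Matrix (Fin 2) (Fin 2) F) = !![1, b; 0, 1] :=
  rfl

theorem sl2gen_coe_lo {F : Type*} [Field F] (b : F) :
    ((lo b : Matrix.SpecialLinearGroup (Fin 2) F) : Matrix (Fin 2) (Fin 2) F) = !![1, 0; b, 1] :=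
  rfl

theorem sl2gen_lo_neg_mul {F : Type*} [Field F] :
    lo (-1 : F) * lo 1 = 1 := by
  apply Subtype.ext
  rw [Matrix.SpecialLinearGroup.coe_mul, sl2gen_coe_lo, sl2gen_coe_lo]
  ext i j
  fin_cases i <;> fin_cases j <;> simp [Matrix.mul_apply, Fin.sum_univ_two]

theorem sl2gen_of_ne {F : Type*} [Field F] (g : Matrix.SpecialLinearGroup (Fin 2) F)
    (hc : (g : Matrix (Fin 2) (Fin 2) F) 1 0 ≠ 0) :
    g = up (((g : Matrix (Fin 2) (Fin 2) F) 0 0 - 1) / (g : Matrix (Fin 2) (Fin 2) F) 1 0) *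
        lo ((g : Matrix (Fin 2) (Fin 2) F) 1 0) *
        up (((g : Matrix (Fin 2) (Fin 2) F) 1 1 - 1) / (g : Matrix (Fin 2) (Fin 2) F) 1 0) := by
  have hdet := g.det_coe
  rw [Matrix.det_fin_two] at hdet
  apply Subtype.ext
  rw [Matrix.SpecialLinearGroup.coe_mul, Matrix.SpecialLinearGroup.coe_mul, sl2gen_coe_up,
    sl2gen_coe_lo, sl2gen_coe_up]
  generalize (g : Matrix (Fin 2) (Fin 2) F) = M at hc hdet ⊢
  ext i j
  fin_cases i <;> fin_cases j
  · simp [Matrix.mul_apply, Fin.sum_univ_two]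
    field_simp
    ring
  · simp [Matrix.mul_apply, Fin.sum_univ_two]
    field_simp
    linear_combination (-1 : F) * hdet
  · simp [Matrix.mul_apply, Fin.sum_univ_two]
  · simp [Matrix.mul_apply, Fin.sum_univ_two]
    field_simp
    ring

-- piece RC-SL2GEN
theorem sl2_induction {F : Type*} [Field F]
    (P : Matrix.SpecialLinearGroup (Fin 2) F → Prop)
    (hmul : ∀ x y, P x → P y → P (x * y)) (hup : ∀ b : F, P (up b)) (hlo : ∀ b : F, P (lo b))
    (g : Matrix.SpecialLinearGroup (Fin 2) F) : P g := by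
  have key : ∀ g : Matrix.SpecialLinearGroup (Fin 2) F,
      (g : Matrix (Fin 2) (Fin 2) F) 1 0 ≠ 0 → P g := by
    intro g hc
    rw [sl2gen_of_ne g hc]
    exact hmul _ _ (hmul _ _ (hup _) (hlo _)) (hup _)
  by_cases hc : (g : Matrix (Fin 2) (Fin 2) F) 1 0 = 0
  · have hdet := g.det_coe
    rw [Matrix.det_fin_two, hc, mul_zero, sub_zero] at hdet
    have ha : (g : Matrix (Fin 2) (Fin 2) F) 0 0 ≠ 0 := by
      intro h
      rw [h, zero_mul] at hdet
      exact zero_ne_one hdet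
    have h1 : ((lo 1 * g : Matrix.SpecialLinearGroup (Fin 2) F) :
        Matrix (Fin 2) (Fin 2) F) 1 0 ≠ 0 := by
      rw [Matrix.SpecialLinearGroup.coe_mul, sl2gen_coe_lo]
      simp only [Matrix.mul_apply, Fin.sum_univ_two]
      simpa [hc] using ha
    have h2 : g = lo (-1) * (lo 1 * g) := by
      rw [← mul_assoc, sl2gen_lo_neg_mul, one_mul]
    rw [h2]
    exact hmul _ _ (hlo _) (key _ h1)
  · exact key g hc

end Cfsg.Agent.Lib.Helper48.RC
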