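import Mathlib

set_option autoImplicit false

/-! Piece RC-SL2INV of project RC (helper48): `SL₂(F)`, `2 ≠ 0`, has a unique involution. -/

namespace Cfsg.Agent.Lib.Helper48.RC

theorem sl2inv_eq_neg_one {F : Type*} [Field F] (h2 : (2 : F) ≠ 0)
    (g : Matrix.SpecialLinearGroup (Fin 2) F) (hg : g * g = 1) (h1 : g ≠ 1) :
    (g : Matrix (Fin 2) (Fin 2) F) = -1 := by
  have hdet := g.det_coe
  rw [Matrix.det_fin_two] at hdet
  have hm : (g : Matrix (Fin 2) (Fin 2) F) * (g : Matrix (Fin 2) (Fin 2) F) = 1 := by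
    have := congrArg (fun x : Matrix.SpecialLinearGroup (Fin 2) F =>
      (x : Matrix (Fin 2) (Fin 2) F)) hg
    simpa using this
  have e00 := congrFun (congrFun hm 0) 0
  have e01 := congrFun (congrFun hm 0) 1
  have e10 := congrFun (congrFun hm 1) 0
  have e11 := congrFun (congrFun hm 1) 1
  simp only [Matrix.mul_apply, Fin.sum_univ_two, Matrix.one_apply_eq, Matrix.one_apply_ne,
    ne_eq, Fin.zero_eq_one_iff, Fin.one_eq_zero_iff, OfNat.ofNat_ne_one, not_false_eq_true] at e00 e01 e10 e11
  set a := (g : Matrix (Fin 2) (Fin 2) F) 0 0 with ha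
  set b := (g : Matrix (Fin 2) (Fin 2) F) 0 1 with hb
  set c := (g : Matrix (Fin 2) (Fin 2) F) 1 0 with hc
  set d := (g : Matrix (Fin 2) (Fin 2) F) 1 1 with hd
  have hs : a + d ≠ 0 := by
    intro h
    apply h2
    linear_combination (-1) * e00 - hdet + a * h
  have hb0 : b = 0 := by
    have : b * (a + d) = 0 := by linear_combination e01
    rcases mul_eq_zero.1 this with h | h
    · exact h
    · exact absurd h hs
  have hc0 : c = 0 := by
    have : c * (a + d) = 0 := by linear_combination e10
    rcases mul_eq_zero.1 this with h | h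
    · exact h
    · exact absurd h hs
  have hadeq : a = d := by
    have h3 : a * d = 1 := by rw [hb0] at hdet; linear_combination hdet
    have h4 : a * a = 1 := by rw [hb0] at e00; linear_combination e00
    have : a * (a - d) = 0 := by linear_combination h4 - h3
    rcases mul_eq_zero.1 this with h | h
    · rw [h] at h4; simp at h4
    · exact sub_eq_zero.1 h
  have haa : a * a = 1 := by rw [hb0] at e00; linear_combination e00
  have ha1 : a = 1 ∨ a = -1 := mul_self_eq_one_iff.1 haa
  rcases ha1 with ha1 | ha1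
  · exfalso
    apply h1
    ext i j
    fin_cases i <;> fin_cases j
    · simpa [ha] using ha1
    · simpa [hb] using hb0
    · simpa [hc] using hc0
    · simpa [hd] using (hadeq ▸ ha1 : d = 1)
  · ext i j
    fin_cases i <;> fin_cases j
    · simpa [ha] using ha1
    · simpa [hb] using hb0
    · simpa [hc] using hc0
    · simpa [hd] using (hadeq ▸ ha1 : d = -1)

-- piece RC-SL2INV
theorem sl2_involution_unique {F : Type*} [Field F] (h2 : (2 : F) ≠ 0)
    (g g' : Matrix.SpecialLinearGroup (Fin 2) F) (hg : g * g = 1) (hg' : g' * g' = 1)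
    (h1 : g ≠ 1) (h1' : g' ≠ 1) : g = g' := by
  apply Subtype.ext
  rw [sl2inv_eq_neg_one h2 g hg h1, sl2inv_eq_neg_one h2 g' hg' h1']

end Cfsg.Agent.Lib.Helper48.RC
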